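import Cfsg.Agent.Lib.Lie.MultExc.TwESixTwo.Table

/-!
Deductions of the central corrections, part 1.
-/

set_option autoImplicit false
set_option maxRecDepth 100000
set_option maxHeartbeats 0

open scoped IsMulCommutative

namespace CfsgLib.Lie.MultExc.TwESixTwo

/-- deductions -/
def steps1 : List Step := [
  ⟨[60, 24, 29], [0, 1, 1, 0, 2], [1, 0, 2, 0, 1, 2], 2688, false, false⟩,
  ⟨[60, 32, 38], [0, 0, 1, 2, 1, 0], [1, 0, 1, 1, 2], 2918, false, false⟩,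
  ⟨[60, 32, 54], [0, 0, 1, 2, 1, 0], [1, 0, 1, 1, 2], 2934, false, false⟩,
  ⟨[60, 64, 58], [0, 1, 1, 0, 2], [1, 0, 2, 0, 1, 2], 4960, false, false⟩,
  ⟨[60, 64, 39], [0, 1, 0, 0, 1, 2], [1, 1, 2, 0, 1], 4452, false, false⟩,
  ⟨[60, 64, 28], [0, 1, 1, 0, 2], [1, 0, 2, 0, 1, 2], 2656, false, false⟩,
  ⟨[24, 24, 64], [0], [1, 1, 2, 0, 2, 0, 1], 2628, false, false⟩,
  ⟨[60, 64, 54], [0, 1, 0, 0, 1, 2], [1, 1, 2, 0, 1], 4956, false, false⟩,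
  ⟨[60, 64, 24], [0, 1, 0, 0, 1, 2], [1, 1, 2, 0, 1], 2652, false, false⟩,
  ⟨[60, 65, 59], [0, 1, 1, 0, 2], [1, 0, 2, 0, 1, 2], 5033, false, false⟩,
  ⟨[60, 65, 29], [0, 1, 1, 0, 2], [1, 0, 2, 0, 1, 2], 2729, false, false⟩,
  ⟨[24, 24, 65], [0], [1, 1, 2, 0, 2, 0, 1], 2701, false, false⟩,
  ⟨[60, 65, 54], [0, 1, 0, 0, 1, 2], [1, 1, 2, 0, 1], 5028, false, false⟩,
  ⟨[60, 65, 24], [0, 1, 0, 0, 1, 2], [1, 1, 2, 0, 1], 2724, false, false⟩,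
  ⟨[60, 21, 55], [0, 1, 1, 0, 2], [1, 0, 2, 0, 1, 2], 1245, false, false⟩,
  ⟨[60, 4, 55], [0, 1, 1, 0, 2], [1, 0, 2, 0, 1, 2], 1228, false, false⟩,
  ⟨[4, 4, 23], [0], [1, 1, 2, 0, 2, 0, 1], 1241, false, false⟩,
  ⟨[60, 4, 21], [0, 1, 0, 0, 1, 2], [1, 1, 2, 0, 1], 996, false, false⟩,
  ⟨[61, 55, 58], [0, 1, 1, 0, 2], [1, 0, 2, 0, 1, 2], 5023, false, false⟩,
  ⟨[61, 25, 28], [0, 1, 1, 0, 2], [1, 0, 2, 0, 1, 2], 2689, false, false⟩,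
  ⟨[61, 64, 58], [0, 1, 1, 0, 2], [1, 0, 2, 0, 1, 2], 5032, false, false⟩,
  ⟨[61, 64, 28], [0, 1, 1, 0, 2], [1, 0, 2, 0, 1, 2], 2728, false, false⟩,
  ⟨[61, 64, 55], [0, 1, 0, 0, 1, 2], [1, 1, 2, 0, 1], 5029, false, false⟩,
  ⟨[61, 64, 25], [0, 1, 0, 0, 1, 2], [1, 1, 2, 0, 1], 2725, false, false⟩,
  ⟨[61, 4, 21], [0, 1, 0, 0, 1, 2], [1, 1, 2, 0, 1], 997, false, false⟩,
  ⟨[61, 60, 54], [0, 1, 1, 0, 2], [1, 0, 2, 0, 1, 2], 1284, false, false⟩,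
  ⟨[61, 60, 24], [0, 1, 1, 0, 2], [1, 0, 2, 0, 1, 2], 420, false, false⟩,
  ⟨[11, 64, 32], [0, 1, 0, 0, 1, 2], [1, 1, 2, 0, 1], 3611, false, false⟩,
  ⟨[11, 4, 58], [0, 0, 1, 2, 1, 0], [1, 0, 1, 1, 2], 274, false, false⟩,
  ⟨[11, 4, 59], [0, 0, 1, 2, 1, 0], [1, 0, 1, 1, 2], 275, false, false⟩,
  ⟨[11, 4, 1], [0, 0, 1, 2, 1, 0], [1, 0, 1, 1, 2], 217, false, false⟩,
  ⟨[11, 4, 24], [0, 0, 1, 2, 1, 0], [1, 0, 1, 1, 2], 240, false, false⟩,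
  ⟨[11, 4, 25], [0, 0, 1, 2, 1, 0], [1, 0, 1, 1, 2], 241, false, false⟩,
  ⟨[11, 60, 58], [0, 1, 0, 0, 1, 2], [1, 1, 2, 0, 1], 4907, false, false⟩,
  ⟨[11, 60, 59], [0, 1, 0, 0, 1, 2], [1, 1, 2, 0, 1], 4979, false, false⟩,
  ⟨[11, 60, 4], [0, 1, 1, 0, 2], [1, 0, 2, 0, 1, 2], 276, false, false⟩,
  ⟨[11, 61, 4], [0, 1, 1, 0, 2], [1, 0, 2, 0, 1, 2], 277, false, false⟩,
  ⟨[68, 14, 39], [0, 1, 1, 0, 2], [1, 0, 2, 0, 1, 2], 1238, false, false⟩,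
  ⟨[68, 14, 28], [0, 1, 1, 0, 2], [1, 0, 2, 0, 1, 2], 3614, false, false⟩,
  ⟨[68, 32, 28], [0, 1, 1, 0, 2], [1, 0, 2, 0, 1, 2], 3632, false, false⟩,
  ⟨[68, 64, 28], [0, 1, 1, 0, 2], [1, 0, 2, 0, 1, 2], 3664, false, false⟩,
  ⟨[68, 64, 55], [0, 1, 0, 0, 1, 2], [1, 1, 2, 0, 1], 5036, false, false⟩,
  ⟨[68, 64, 32], [0, 1, 0, 0, 1, 2], [1, 1, 2, 0, 1], 3668, false, false⟩,
  ⟨[28, 28, 68], [0], [1, 1, 2, 0, 2, 0, 1], 3650, false, false⟩,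
  ⟨[68, 21, 33], [0, 1, 1, 0, 2], [1, 0, 2, 0, 1, 2], 957, false, false⟩,
  ⟨[68, 4, 28], [0, 1, 1, 0, 2], [1, 0, 2, 0, 1, 2], 3604, false, false⟩,
  ⟨[68, 4, 14], [0, 1, 0, 0, 1, 2], [1, 1, 2, 0, 1], 428, false, false⟩,
  ⟨[68, 4, 33], [0, 1, 1, 0, 2], [1, 0, 2, 0, 1, 2], 940, false, false⟩,
  ⟨[68, 61, 39], [0, 1, 1, 0, 2], [1, 0, 2, 0, 1, 2], 1285, false, false⟩,
  ⟨[68, 11, 33], [0, 1, 1, 0, 2], [1, 0, 2, 0, 1, 2], 947, false, false⟩,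
  ⟨[68, 11, 4], [0, 1, 0, 0, 1, 2], [1, 1, 2, 0, 1], 284, false, false⟩,
  ⟨[69, 14, 28], [0, 1, 1, 0, 2], [1, 0, 2, 0, 1, 2], 3686, false, false⟩,
  ⟨[69, 33, 28], [0, 1, 1, 0, 2], [1, 0, 2, 0, 1, 2], 3705, false, false⟩,
  ⟨[69, 33, 29], [0, 1, 1, 0, 2], [1, 0, 2, 0, 1, 2], 3633, false, false⟩,
  ⟨[69, 33, 25], [0, 1, 1, 0, 2], [1, 0, 2, 0, 1, 2], 2913, false, false⟩,
  ⟨[69, 64, 28], [0, 1, 1, 0, 2], [1, 0, 2, 0, 1, 2], 3736, false, false⟩,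
  ⟨[69, 64, 33], [0, 1, 0, 0, 1, 2], [1, 1, 2, 0, 1], 3741, false, false⟩,
  ⟨[28, 28, 69], [0], [1, 1, 2, 0, 2, 0, 1], 3723, false, false⟩,
  ⟨[69, 65, 29], [0, 1, 1, 0, 2], [1, 0, 2, 0, 1, 2], 3665, false, false⟩,
  ⟨[69, 65, 33], [0, 1, 0, 0, 1, 2], [1, 1, 2, 0, 1], 3669, false, false⟩,
  ⟨[69, 4, 14], [0, 1, 0, 0, 1, 2], [1, 1, 2, 0, 1], 429, false, false⟩,
  ⟨[69, 11, 4], [0, 1, 0, 0, 1, 2], [1, 1, 2, 0, 1], 285, false, false⟩,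
  ⟨[69, 68, 38], [0, 1, 1, 0, 2], [1, 0, 2, 0, 1, 2], 1292, false, false⟩,
  ⟨[69, 68, 32], [0, 1, 1, 0, 2], [1, 0, 2, 0, 1, 2], 1004, false, false⟩,
  ⟨[36, 23, 58], [0, 1, 1, 0, 2], [1, 0, 2, 0, 1, 2], 3623, false, false⟩,
  ⟨[36, 23, 39], [0, 1, 1, 0, 2], [1, 0, 2, 0, 1, 2], 383, false, false⟩,
  ⟨[36, 64, 32], [0, 1, 0, 0, 1, 2], [1, 1, 2, 0, 1], 3636, false, false⟩,
  ⟨[36, 21, 33], [0, 1, 1, 0, 2], [1, 0, 2, 0, 1, 2], 237, false, false⟩,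
  ⟨[36, 4, 23], [0, 1, 0, 0, 1, 2], [1, 1, 2, 0, 1], 1260, false, false⟩,
  ⟨[36, 61, 39], [0, 1, 1, 0, 2], [1, 0, 2, 0, 1, 2], 421, false, false⟩,
  ⟨[36, 69, 23], [0, 0, 1, 2, 1, 0], [1, 0, 1, 1, 2], 1175, false, false⟩,
  ⟨[36, 69, 8], [0, 0, 1, 2, 1, 0], [1, 0, 1, 1, 2], 1160, false, false⟩,
  ⟨[36, 69, 14], [0, 0, 1, 2, 1, 0], [1, 0, 1, 1, 2], 1166, false, false⟩,
  ⟨[36, 69, 64], [0, 0, 1, 2, 1, 0], [1, 0, 1, 1, 2], 1216, false, false⟩,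
  ⟨[36, 69, 65], [0, 0, 1, 2, 1, 0], [1, 0, 1, 1, 2], 1217, false, false⟩,
  ⟨[36, 69, 21], [0, 0, 1, 2, 1, 0], [1, 0, 1, 1, 2], 1173, false, false⟩,
  ⟨[36, 69, 4], [0, 0, 1, 2, 1, 0], [1, 0, 1, 1, 2], 1156, false, false⟩,
  ⟨[36, 69, 60], [0, 0, 1, 2, 1, 0], [1, 0, 1, 1, 2], 1212, false, false⟩,
  ⟨[36, 69, 61], [0, 0, 1, 2, 1, 0], [1, 0, 1, 1, 2], 1213, false, false⟩,
  ⟨[36, 69, 11], [0, 0, 1, 2, 1, 0], [1, 0, 1, 1, 2], 1163, false, false⟩,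
  ⟨[36, 69, 68], [0, 0, 1, 2, 1, 0], [1, 0, 1, 1, 2], 1220, false, false⟩,
  ⟨[37, 23, 58], [0, 1, 1, 0, 2], [1, 0, 2, 0, 1, 2], 3695, false, false⟩,
  ⟨[37, 64, 33], [0, 1, 0, 0, 1, 2], [1, 1, 2, 0, 1], 3709, false, false⟩,
  ⟨[37, 65, 33], [0, 1, 0, 0, 1, 2], [1, 1, 2, 0, 1], 3637, false, false⟩,
  ⟨[37, 69, 68], [0, 1, 1, 0, 2], [1, 0, 2, 0, 1, 2], 1221, false, false⟩,
  ⟨[37, 36, 68], [0, 1, 1, 0, 2], [1, 0, 2, 0, 1, 2], 1188, false, false⟩,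
  ⟨[17, 24, 59], [0, 1, 0, 0, 1], [1, 1, 2, 0, 1, 2], 1257, false, false⟩,
  ⟨[17, 32, 1], [0, 1, 1, 0, 2], [1, 0, 2, 0, 1, 2], 392, false, false⟩,
  ⟨[17, 33, 1], [0, 1, 1, 0, 2], [1, 0, 2, 0, 1, 2], 393, false, false⟩,
  ⟨[17, 64, 1], [0, 1, 1, 0, 2], [1, 0, 2, 0, 1, 2], 424, false, false⟩,
  ⟨[17, 64, 55], [0, 1, 0, 0, 1], [1, 1, 2, 0, 1, 2], 1293, false, false⟩,
  ⟨[17, 64, 8], [0, 1, 1, 0, 2], [1, 0, 2, 0, 1, 2], 1000, false, false⟩,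
  ⟨[17, 64, 32], [0, 1, 0, 0, 1, 2], [1, 1, 2, 0, 1], 3617, false, false⟩,
  ⟨[17, 64, 33], [0, 1, 0, 0, 1, 2], [1, 1, 2, 0, 1], 3689, false, false⟩,
  ⟨[17, 65, 1], [0, 1, 1, 0, 2], [1, 0, 2, 0, 1, 2], 425, false, false⟩,
  ⟨[17, 65, 8], [0, 1, 1, 0, 2], [1, 0, 2, 0, 1, 2], 1001, false, false⟩,
  ⟨[17, 4, 14], [0, 1, 0, 0, 1, 2], [1, 1, 2, 0, 1], 377, false, false⟩,
  ⟨[1, 1, 17], [0], [1, 1, 2, 0, 2, 0, 1], 365, false, false⟩,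
  ⟨[17, 4, 21], [0, 1, 0, 0, 1, 2], [1, 1, 2, 0, 1], 953, false, false⟩,
  ⟨[17, 11, 58], [0, 0, 1, 2, 1, 0], [1, 0, 1, 1, 2], 1210, false, false⟩,
  ⟨[17, 11, 59], [0, 0, 1, 2, 1, 0], [1, 0, 1, 1, 2], 1211, false, false⟩,
  ⟨[17, 69, 8], [0, 1, 1, 0, 2], [1, 0, 2, 0, 1, 2], 1005, false, false⟩,
  ⟨[17, 36, 33], [0, 1, 0, 0, 1, 2], [1, 1, 2, 0, 1], 233, false, false⟩,
  ⟨[17, 36, 69], [0, 1, 0, 0, 1, 2], [1, 1, 2, 0, 1], 1169, false, false⟩,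
  ⟨[17, 37, 11], [0, 1, 1, 0, 2], [1, 0, 2, 0, 1, 2], 1189, false, false⟩,
  ⟨[50, 23, 55], [0, 1, 1, 0, 2], [1, 0, 2, 0, 1, 2], 959, false, false⟩,
  ⟨[50, 64, 33], [0, 1, 0, 0, 1, 2], [1, 1, 2, 0, 1], 3722, false, false⟩,
  ⟨[50, 4, 14], [0, 1, 0, 0, 1, 2], [1, 1, 2, 0, 1], 410, false, false⟩,
  ⟨[50, 4, 21], [0, 1, 0, 0, 1, 2], [1, 1, 2, 0, 1], 986, false, false⟩,
  ⟨[50, 61, 1], [0, 0, 1, 2, 1, 0], [1, 0, 1, 1, 2], 1153, false, false⟩,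
  ⟨[51, 4, 14], [0, 1, 0, 0, 1, 2], [1, 1, 2, 0, 1], 411, false, false⟩,
  ⟨[51, 4, 21], [0, 1, 0, 0, 1, 2], [1, 1, 2, 0, 1], 987, false, false⟩,
  ⟨[51, 50, 24], [0, 1, 1, 0, 2], [1, 0, 2, 0, 1, 2], 266, false, false⟩,
  ⟨[51, 50, 60], [0, 1, 1, 0, 2], [1, 0, 2, 0, 1, 2], 1202, false, false⟩,
  ⟨[5, 8, 54], [0, 0, 1, 2, 1, 0], [1, 0, 1, 1, 2], 270, false, false⟩,
  ⟨[5, 8, 55], [0, 0, 1, 2, 1, 0], [1, 0, 1, 1, 2], 271, false, false⟩,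
  ⟨[5, 64, 8], [0, 1, 1, 0, 2], [1, 0, 2, 0, 1, 2], 280, false, false⟩,
  ⟨[5, 65, 8], [0, 1, 1, 0, 2], [1, 0, 2, 0, 1, 2], 281, false, false⟩,
  ⟨[5, 21, 29], [0, 0, 1, 2, 1, 0], [1, 0, 1, 1, 2], 1181, false, false⟩,
  ⟨[5, 21, 54], [0, 0, 1, 2, 1, 0], [1, 0, 1, 1, 2], 1206, false, false⟩,
  ⟨[5, 21, 55], [0, 0, 1, 2, 1, 0], [1, 0, 1, 1, 2], 1207, false, false⟩,
  ⟨[5, 68, 33], [0, 1, 0, 0, 1, 2], [1, 1, 2, 0, 1], 941, false, false⟩,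
  ⟨[5, 36, 69], [0, 1, 0, 0, 1, 2], [1, 1, 2, 0, 1], 1157, false, false⟩,
  ⟨[5, 51, 21], [0, 1, 1, 0, 2], [1, 0, 2, 0, 1, 2], 1203, false, false⟩,
  ⟨[40, 4, 21], [0, 1, 0, 0, 1, 2], [1, 1, 2, 0, 1], 976, false, false⟩,
  ⟨[41, 4, 21], [0, 1, 0, 0, 1, 2], [1, 1, 2, 0, 1], 977, false, false⟩,
  ⟨[41, 40, 64], [0, 1, 1, 0, 2], [1, 0, 2, 0, 1, 2], 1192, false, false⟩,
  ⟨[13, 38, 1], [0, 1, 1, 0, 2], [1, 0, 2, 0, 1, 2], 254, false, false⟩,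
  ⟨[13, 39, 1], [0, 1, 1, 0, 2], [1, 0, 2, 0, 1, 2], 255, false, false⟩,
  ⟨[13, 11, 4], [0, 1, 0, 0, 1, 2], [1, 1, 2, 0, 1], 229, false, false⟩,
  ⟨[13, 36, 69], [0, 1, 0, 0, 1, 2], [1, 1, 2, 0, 1], 1165, false, false⟩,
  ⟨[13, 41, 14], [0, 1, 1, 0, 2], [1, 0, 2, 0, 1, 2], 1193, false, false⟩,
  ⟨[3, 36, 69], [0, 1, 0, 0, 1, 2], [1, 1, 2, 0, 1], 1155, false, false⟩,
  ⟨[3, 3, 23], [0], [1, 1, 2, 0, 2, 0, 1], 1168, false, false⟩,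
  ⟨[50, 43, 42], [0, 0, 1, 2, 1, 0], [1, 0, 1, 1, 2], 618, false, false⟩,
  ⟨[51, 43, 42], [0, 1, 1, 0, 2], [1, 0, 2, 0, 1, 2], 619, false, false⟩,
  ⟨[51, 50, 42], [0, 1, 1, 0, 2], [1, 0, 2, 0, 1, 2], 626, false, false⟩,
  ⟨[24, 51, 16], [0, 0, 1, 2, 1, 0], [1, 0, 1, 1, 2], 232, false, false⟩,
  ⟨[62, 50, 16], [0, 0, 1, 2, 1, 0], [1, 0, 1, 1, 2], 4624, false, false⟩,
  ⟨[63, 50, 16], [0, 0, 1, 2, 1, 0], [1, 0, 1, 1, 2], 4696, false, false⟩,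
  ⟨[0, 24, 51], [0, 1, 0, 0, 1, 2], [1, 1, 2, 0, 1], 216, false, false⟩,
  ⟨[0, 0, 16], [0], [1, 1, 2, 0, 2, 0, 1], 219, false, false⟩,
  ⟨[48, 50, 42], [0, 0, 1, 2, 1, 0], [1, 0, 1, 1, 2], 3786, false, false⟩,
  ⟨[48, 51, 43], [0, 0, 1, 2, 1, 0], [1, 0, 1, 1, 2], 3859, false, false⟩,
  ⟨[49, 50, 42], [0, 0, 1, 2, 1, 0], [1, 0, 1, 1, 2], 3858, false, false⟩,
  ⟨[49, 62, 42], [0, 1, 0, 0, 1], [1, 1, 2, 0, 1, 2], 3576, false, false⟩,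
  ⟨[64, 50, 42], [0, 1, 1, 0, 2], [1, 0, 2, 0, 1, 2], 3794, false, false⟩,
  ⟨[64, 51, 43], [0, 1, 1, 0, 2], [1, 0, 2, 0, 1, 2], 3867, false, false⟩,
  ⟨[64, 24, 5], [0, 0, 1, 2, 1, 0], [1, 0, 1, 1, 2], 2597, false, false⟩,
  ⟨[64, 24, 50], [0, 0, 1, 2, 1, 0], [1, 0, 1, 1, 2], 2642, false, false⟩,
  ⟨[64, 25, 51], [0, 0, 1, 2, 1, 0], [1, 0, 1, 1, 2], 2715, false, false⟩,
  ⟨[64, 48, 42], [0, 1, 1, 0, 2], [1, 0, 2, 0, 1, 2], 3792, false, false⟩,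
  ⟨[64, 48, 43], [0, 1, 1, 0, 2], [1, 0, 2, 0, 1, 2], 3864, false, false⟩,
  ⟨[64, 48, 50], [0, 1, 0, 0, 1, 2], [1, 1, 2, 0, 1], 3808, false, false⟩,
  ⟨[64, 48, 51], [0, 1, 0, 0, 1, 2], [1, 1, 2, 0, 1], 3880, false, false⟩,
  ⟨[64, 49, 62], [0, 0, 1, 2, 1, 0], [1, 0, 1, 1, 2], 1430, false, false⟩,
  ⟨[64, 49, 63], [0, 0, 1, 2, 1, 0], [1, 0, 1, 1, 2], 1431, false, false⟩,
  ⟨[64, 49, 8], [0, 0, 1, 2, 1, 0], [1, 0, 1, 1, 2], 1376, false, false⟩,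
  ⟨[64, 49, 48], [0, 0, 1, 2, 1, 0], [1, 0, 1, 1, 2], 1416, false, false⟩,
  ⟨[65, 50, 42], [0, 1, 1, 0, 2], [1, 0, 2, 0, 1, 2], 3866, false, false⟩,
  ⟨[65, 24, 50], [0, 0, 1, 2, 1, 0], [1, 0, 1, 1, 2], 2714, false, false⟩,
  ⟨[65, 62, 50], [0, 1, 0, 0, 1], [1, 1, 2, 0, 1, 2], 4744, false, false⟩,
  ⟨[65, 49, 42], [0, 1, 1, 0, 2], [1, 0, 2, 0, 1, 2], 3865, false, false⟩,
  ⟨[65, 49, 50], [0, 1, 0, 0, 1, 2], [1, 1, 2, 0, 1], 3881, false, false⟩,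
  ⟨[65, 49, 48], [0, 1, 1, 0, 2], [1, 0, 2, 0, 1, 2], 1417, false, false⟩,
  ⟨[65, 64, 48], [0, 1, 1, 0, 2], [1, 0, 2, 0, 1, 2], 1432, false, false⟩,
  ⟨[34, 48, 43], [0, 1, 1, 0, 2], [1, 0, 2, 0, 1, 2], 1992, false, false⟩,
  ⟨[34, 49, 2], [0, 0, 1, 2, 1, 0], [1, 0, 1, 1, 2], 722, false, false⟩,
  ⟨[34, 49, 62], [0, 0, 1, 2, 1, 0], [1, 0, 1, 1, 2], 782, false, false⟩,
  ⟨[34, 49, 63], [0, 0, 1, 2, 1, 0], [1, 0, 1, 1, 2], 783, false, false⟩,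
  ⟨[34, 49, 0], [0, 0, 1, 2, 1, 0], [1, 0, 1, 1, 2], 720, false, false⟩,
  ⟨[34, 49, 48], [0, 0, 1, 2, 1, 0], [1, 0, 1, 1, 2], 768, false, false⟩,
  ⟨[34, 64, 24], [0, 1, 0, 0, 1, 2], [1, 1, 2, 0, 1], 2626, false, false⟩,
  ⟨[34, 64, 25], [0, 1, 0, 0, 1, 2], [1, 1, 2, 0, 1], 2698, false, false⟩,
  ⟨[34, 65, 16], [0, 0, 1, 2, 1, 0], [1, 0, 1, 1, 2], 1024, false, false⟩,
  ⟨[34, 65, 5], [0, 0, 1, 2, 1, 0], [1, 0, 1, 1, 2], 1013, false, false⟩,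
  ⟨[34, 65, 62], [0, 0, 1, 2, 1, 0], [1, 0, 1, 1, 2], 1070, false, false⟩,
  ⟨[34, 65, 63], [0, 0, 1, 2, 1, 0], [1, 0, 1, 1, 2], 1071, false, false⟩,
  ⟨[34, 65, 64], [0, 0, 1, 2, 1, 0], [1, 0, 1, 1, 2], 1072, false, false⟩,
  ⟨[35, 49, 48], [0, 1, 1, 0, 2], [1, 0, 2, 0, 1, 2], 769, false, false⟩,
  ⟨[35, 65, 24], [0, 1, 0, 0, 1, 2], [1, 1, 2, 0, 1], 2699, false, false⟩,
  ⟨[35, 65, 64], [0, 1, 1, 0, 2], [1, 0, 2, 0, 1, 2], 1073, false, false⟩,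
  ⟨[35, 34, 48], [0, 1, 1, 0, 2], [1, 0, 2, 0, 1, 2], 754, false, false⟩,
  ⟨[52, 24, 50], [0, 0, 1, 2, 1, 0], [1, 0, 1, 1, 2], 2066, false, false⟩,
  ⟨[52, 63, 16], [0, 0, 1, 2, 1, 0], [1, 0, 1, 1, 2], 1384, false, false⟩,
  ⟨[52, 0, 24], [0, 1, 1, 0, 2], [1, 0, 2, 0, 1, 2], 2016, false, false⟩,
  ⟨[52, 48, 51], [0, 1, 0, 0, 1, 2], [1, 1, 2, 0, 1], 3868, false, false⟩,
  ⟨[52, 3, 24], [0, 1, 1, 0, 2], [1, 0, 2, 0, 1, 2], 2019, false, false⟩,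
  ⟨[52, 65, 63], [0, 1, 1, 0, 2], [1, 0, 2, 0, 1, 2], 1433, false, false⟩,
  ⟨[52, 34, 62], [0, 0, 1, 2, 1, 0], [1, 0, 1, 1, 2], 3230, false, false⟩,
  ⟨[52, 34, 48], [0, 0, 1, 2, 1, 0], [1, 0, 1, 1, 2], 3216, false, false⟩,
  ⟨[52, 34, 3], [0, 0, 1, 2, 1, 0], [1, 0, 1, 1, 2], 3171, false, false⟩,
  ⟨[52, 34, 64], [0, 0, 1, 2, 1, 0], [1, 0, 1, 1, 2], 3232, false, false⟩,
  ⟨[53, 25, 51], [0, 0, 1, 2, 1, 0], [1, 0, 1, 1, 2], 2067, false, false⟩,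
  ⟨[53, 34, 64], [0, 0, 1, 2, 1, 0], [1, 0, 1, 1, 2], 3304, false, false⟩,
  ⟨[53, 35, 63], [0, 0, 1, 2, 1, 0], [1, 0, 1, 1, 2], 3231, false, false⟩,
  ⟨[53, 35, 49], [0, 0, 1, 2, 1, 0], [1, 0, 1, 1, 2], 3217, false, false⟩,
  ⟨[53, 35, 65], [0, 0, 1, 2, 1, 0], [1, 0, 1, 1, 2], 3233, false, false⟩,
  ⟨[53, 52, 62], [0, 1, 1, 0, 2], [1, 0, 2, 0, 1, 2], 1420, false, false⟩,
  ⟨[26, 24, 50], [0, 1, 1, 0, 2], [1, 0, 2, 0, 1, 2], 2040, false, false⟩,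
  ⟨[26, 63, 5], [0, 0, 1, 2, 1, 0], [1, 0, 1, 1, 2], 725, false, false⟩,
  ⟨[26, 34, 64], [0, 1, 1, 0, 2], [1, 0, 2, 0, 1, 2], 3202, false, false⟩,
  ⟨[26, 35, 63], [0, 1, 1, 0, 2], [1, 0, 2, 0, 1, 2], 755, false, false⟩,
  ⟨[26, 52, 50], [0, 1, 1, 0, 2], [1, 0, 2, 0, 1, 2], 2068, false, false⟩,
  ⟨[24, 24, 52], [0], [1, 1, 2, 0, 2, 0, 1], 2044, false, false⟩,
  ⟨[26, 52, 24], [0, 1, 0, 0, 1, 2], [1, 1, 2, 0, 1], 2042, false, false⟩,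
  ⟨[26, 52, 64], [0, 1, 1, 0, 2], [1, 0, 2, 0, 1, 2], 3220, false, false⟩,
  ⟨[26, 52, 34], [0, 1, 0, 0, 1, 2], [1, 1, 2, 0, 1], 3194, false, false⟩,
  ⟨[26, 26, 64], [0], [1, 1, 2, 0, 2, 0, 1], 3212, false, false⟩,
  ⟨[26, 53, 0], [0, 0, 1, 2, 1, 0], [1, 0, 1, 1, 2], 432, false, false⟩,
  ⟨[26, 53, 48], [0, 0, 1, 2, 1, 0], [1, 0, 1, 1, 2], 480, false, false⟩,
  ⟨[26, 53, 3], [0, 0, 1, 2, 1, 0], [1, 0, 1, 1, 2], 435, false, false⟩,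
  ⟨[26, 53, 52], [0, 0, 1, 2, 1, 0], [1, 0, 1, 1, 2], 484, false, false⟩,
  ⟨[27, 25, 51], [0, 1, 1, 0, 2], [1, 0, 2, 0, 1, 2], 2041, false, false⟩,
  ⟨[27, 34, 64], [0, 1, 1, 0, 2], [1, 0, 2, 0, 1, 2], 3274, false, false⟩,
  ⟨[27, 35, 65], [0, 1, 1, 0, 2], [1, 0, 2, 0, 1, 2], 3203, false, false⟩,
  ⟨[27, 53, 51], [0, 1, 1, 0, 2], [1, 0, 2, 0, 1, 2], 2069, false, false⟩,
  ⟨[27, 53, 25], [0, 1, 0, 0, 1, 2], [1, 1, 2, 0, 1], 2043, false, false⟩,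
  ⟨[27, 53, 64], [0, 1, 1, 0, 2], [1, 0, 2, 0, 1, 2], 3293, false, false⟩,
  ⟨[27, 53, 65], [0, 1, 1, 0, 2], [1, 0, 2, 0, 1, 2], 3221, false, false⟩,
  ⟨[27, 53, 34], [0, 1, 0, 0, 1, 2], [1, 1, 2, 0, 1], 3267, false, false⟩,
  ⟨[27, 53, 35], [0, 1, 0, 0, 1, 2], [1, 1, 2, 0, 1], 3195, false, false⟩,
  ⟨[27, 26, 62], [0, 1, 1, 0, 2], [1, 0, 2, 0, 1, 2], 746, false, false⟩,
  ⟨[36, 63, 2], [0, 0, 1, 2, 1, 0], [1, 0, 1, 1, 2], 1010, false, false⟩,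
  ⟨[36, 52, 34], [0, 1, 0, 0, 1, 2], [1, 1, 2, 0, 1], 3204, false, false⟩,
  ⟨[36, 53, 50], [0, 0, 1, 2, 1, 0], [1, 0, 1, 1, 2], 842, false, false⟩,
  ⟨[36, 53, 51], [0, 0, 1, 2, 1, 0], [1, 0, 1, 1, 2], 843, false, false⟩,
  ⟨[36, 53, 0], [0, 0, 1, 2, 1, 0], [1, 0, 1, 1, 2], 792, false, false⟩,
  ⟨[36, 53, 3], [0, 0, 1, 2, 1, 0], [1, 0, 1, 1, 2], 795, false, false⟩,
  ⟨[36, 53, 52], [0, 0, 1, 2, 1, 0], [1, 0, 1, 1, 2], 844, false, false⟩,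
  ⟨[37, 53, 52], [0, 1, 1, 0, 2], [1, 0, 2, 0, 1, 2], 845, false, false⟩,
  ⟨[37, 36, 62], [0, 1, 1, 0, 2], [1, 0, 2, 0, 1, 2], 1044, false, false⟩,
  ⟨[37, 36, 52], [0, 1, 1, 0, 2], [1, 0, 2, 0, 1, 2], 828, false, false⟩,
  ⟨[28, 49, 2], [0, 0, 1, 2, 1, 0], [1, 0, 1, 1, 2], 434, false, false⟩,
  ⟨[28, 65, 5], [0, 0, 1, 2, 1, 0], [1, 0, 1, 1, 2], 797, false, false⟩,
  ⟨[28, 35, 16], [0, 0, 1, 2, 1, 0], [1, 0, 1, 1, 2], 88, false, false⟩,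
  ⟨[28, 52, 34], [0, 1, 0, 0, 1, 2], [1, 1, 2, 0, 1], 3196, false, false⟩,
  ⟨[28, 37, 65], [0, 1, 1, 0, 2], [1, 0, 2, 0, 1, 2], 829, false, false⟩,
  ⟨[29, 28, 48], [0, 1, 1, 0, 2], [1, 0, 2, 0, 1, 2], 460, false, false⟩,
  ⟨[19, 42, 2], [0, 1, 1, 0, 2], [1, 0, 2, 0, 1, 2], 762, false, false⟩,
  ⟨[19, 50, 5], [0, 1, 1, 0, 2], [1, 0, 2, 0, 1, 2], 1058, false, false⟩,
  ⟨[19, 51, 5], [0, 1, 1, 0, 2], [1, 0, 2, 0, 1, 2], 1059, false, false⟩,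
  ⟨[19, 0, 50], [0, 0, 1, 2, 1, 0], [1, 0, 1, 1, 2], 482, false, false⟩,
  ⟨[19, 34, 50], [0, 1, 0, 0, 1], [1, 1, 2, 0, 1, 2], 1404, false, false⟩,
  ⟨[19, 34, 51], [0, 1, 0, 0, 1], [1, 1, 2, 0, 1, 2], 1405, false, false⟩,
  ⟨[19, 34, 49], [0, 1, 0, 0, 1, 2], [1, 1, 2, 0, 1], 739, false, false⟩,
  ⟨[19, 34, 65], [0, 1, 0, 0, 1, 2], [1, 1, 2, 0, 1], 1027, false, false⟩,
  ⟨[19, 52, 34], [0, 1, 0, 0, 1, 2], [1, 1, 2, 0, 1], 3187, false, false⟩,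
  ⟨[19, 26, 5], [0, 1, 1, 0, 2], [1, 0, 2, 0, 1, 2], 1034, false, false⟩,
  ⟨[19, 26, 50], [0, 1, 0, 0, 1], [1, 1, 2, 0, 1, 2], 1396, false, false⟩]

/-- masks before -/
def stA1 : ℕ × ℕ × ℕ := (0xc40000000a00000000440000000a00000000000000000000000000000000000000000000000000000004000000000000000004000000000000000000000000000000000000000000000000000804000000000000000804002000000000000000000000000000000000000000000000000000000000000000000000000000040000000000000000000000000000000000000000000000000000000000000000000000400000010200000000c00000030200102000000000000000000300000000000000000000000000000000000000000000000000000000000000000000000000000000000000800000000000000000000000000000000000000000000000000000000c0000000000000000040000000400000000040000000000000000040000000003000080240000000001100080200000050a00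0000000f00000f0f000000400400cc0000333000800400440000111000800000000448200000000f00000ccc300000080000000000000000100f000003413000001404504000100000000004504000100000040000000000000000000003fcf3301ffc50000120000c0000000000000000000000000000000030cc0000300a00100000000000000000000000000000000000000000000000000000000000cc000c000800000000000000000000000000000000000000000000000004000400000000cc0000310000100000000000000000000030000010031204902000000f08000004080000000000000800000000400000010800000000000440000800000000000140000c00d80000000c3fc11004c12000040034741800182000000013310c04970000000503111c044d800000054c7d1b24fff000000135c007bcc20, 0x0, 0x0)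

/-- masks after -/
def stB1 : ℕ × ℕ × ℕ := (0x133cc0000000a00800011440000000a0080000000000000000000000000000000000000001000000000001400000000000000001400000000000000000000000000000000000000000100000000080400000000000000080400200000000000000000000000000000000000000000000000000000000000000000000000000004000000000000000000000000000000003001f0c000000000001000504000000000021040c002210a24000330c04003330a2491200000100000000000030000000000000000000000000000000000000000000000000000001002000040800000003c033101c1c080808000000000000000000000000000000000000000000000000000000c0004000420000000040000000400000000040000000000000000043300c002c3300080241100400141100082200000050a000000000f00000f0f000000400400cc0000333000800400440000111000800000000448200000000f00000ccc300000080000000000000000100f0003c34131f00014945040101000000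00004504000100000040000000000000000000003fcf3301ffc50000120000c0000000000000000000000000000000030cc0000300a0010000000000000000000003c013003010010100000000000000000000303cc000d200a24010333ccc033020a3693a00000000000000000003c00c005004490024333ccc030310a2093000000000000000000003003c01303120492b00c003f48c040840a50000000000008000000004040c0010800000000000440000800000000015140010c00d8d33300cc3ff11824c32000040034741800182333cc401f313e3697b000000503111c044d800000054c7d1b34fff000000135c007bcc20, 0x0, 0x0)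

theorem chain1_ok : (chainOK tab steps1 stA1.1 stA1.2.1 stA1.2.2 &&
    (learnAll steps1 stA1 == stB1) && (stA1.2.1 ||| stA1.1 == stA1.1) &&
    (stA1.2.2 ||| stA1.1 == stA1.1)) = true := by decide +kernel

theorem run1 {P : Type*} [Group P] (S : Sys tab P) {g h : Subgroup.center P} (hg : g * g = 1) (hh : h * h = 1)
    (H : S.Holds g h stA1.1 stA1.2.1 stA1.2.2) : S.Holds g h stB1.1 stB1.2.1 stB1.2.2 := by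
  have h' := chain1_ok
  simp only [Bool.and_eq_true, beq_iff_eq] at h'
  rw [← h'.1.1.2]
  exact S.chain_spec hg hh steps1 _ _ _ H h'.1.2 h'.2 h'.1.1.1

end CfsgLib.Lie.MultExc.TwESixTwo
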