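import Cfsg.Agent.Lib.Lie.MultExc.TwESixTwo.Table

/-!
Deductions of the central corrections, part 2.
-/

set_option autoImplicit false
set_option maxRecDepth 100000
set_option maxHeartbeats 0

open scoped IsMulCommutative

namespace CfsgLib.Lie.MultExc.TwESixTwo

/-- deductions -/
def steps2 : List Step := [
  ⟨[19, 26, 3], [0, 1, 1, 0, 2], [1, 0, 2, 0, 1, 2], 818, false, false⟩,
  ⟨[19, 26, 53], [0, 1, 0, 0, 1, 2], [1, 1, 2, 0, 1], 451, false, false⟩,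
  ⟨[0, 0, 19], [0], [1, 1, 2, 0, 2, 0, 1], 438, false, false⟩,
  ⟨[19, 27, 2], [0, 1, 1, 0, 2], [1, 0, 2, 0, 1, 2], 747, false, false⟩,
  ⟨[19, 27, 5], [0, 1, 1, 0, 2], [1, 0, 2, 0, 1, 2], 1035, false, false⟩,
  ⟨[19, 27, 3], [0, 1, 1, 0, 2], [1, 0, 2, 0, 1, 2], 819, false, false⟩,
  ⟨[19, 36, 53], [0, 1, 0, 0, 1, 2], [1, 1, 2, 0, 1], 811, false, false⟩,
  ⟨[19, 36, 27], [0, 1, 0, 0, 1, 2], [1, 1, 2, 0, 1], 91, false, false⟩,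
  ⟨[19, 37, 5], [0, 1, 1, 0, 2], [1, 0, 2, 0, 1, 2], 1045, false, false⟩,
  ⟨[19, 28, 5], [0, 1, 1, 0, 2], [1, 0, 2, 0, 1, 2], 1036, false, false⟩,
  ⟨[10, 64, 43], [0, 1, 0, 0, 1], [1, 1, 2, 0, 1, 2], 773, false, false⟩,
  ⟨[10, 64, 8], [0, 1, 1, 0, 2], [1, 0, 2, 0, 1, 2], 496, false, false⟩,
  ⟨[10, 64, 3], [0, 1, 1, 0, 2], [1, 0, 2, 0, 1, 2], 136, false, false⟩,
  ⟨[10, 65, 8], [0, 1, 1, 0, 2], [1, 0, 2, 0, 1, 2], 497, false, false⟩,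
  ⟨[10, 65, 3], [0, 1, 1, 0, 2], [1, 0, 2, 0, 1, 2], 137, false, false⟩,
  ⟨[10, 34, 65], [0, 1, 0, 0, 1, 2], [1, 1, 2, 0, 1], 1018, false, false⟩,
  ⟨[10, 52, 16], [0, 1, 1, 0, 2], [1, 0, 2, 0, 1, 2], 1060, false, false⟩,
  ⟨[10, 52, 3], [0, 1, 1, 0, 2], [1, 0, 2, 0, 1, 2], 124, false, false⟩,
  ⟨[10, 52, 34], [0, 1, 0, 0, 1, 2], [1, 1, 2, 0, 1], 3178, false, false⟩,
  ⟨[10, 53, 16], [0, 1, 1, 0, 2], [1, 0, 2, 0, 1, 2], 1061, false, false⟩,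
  ⟨[10, 53, 34], [0, 1, 0, 0, 1, 2], [1, 1, 2, 0, 1], 3250, false, false⟩,
  ⟨[10, 36, 53], [0, 1, 0, 0, 1, 2], [1, 1, 2, 0, 1], 802, false, false⟩,
  ⟨[14, 0, 50], [0, 0, 1, 2, 1, 0], [1, 0, 1, 1, 2], 122, false, false⟩,
  ⟨[14, 48, 8], [0, 1, 1, 0, 2], [1, 0, 2, 0, 1, 2], 840, false, false⟩,
  ⟨[14, 49, 8], [0, 1, 1, 0, 2], [1, 0, 2, 0, 1, 2], 841, false, false⟩,
  ⟨[14, 49, 0], [0, 1, 1, 0, 2], [1, 0, 2, 0, 1, 2], 121, false, false⟩,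
  ⟨[14, 52, 34], [0, 1, 0, 0, 1, 2], [1, 1, 2, 0, 1], 3182, false, false⟩,
  ⟨[14, 26, 53], [0, 1, 0, 0, 1, 2], [1, 1, 2, 0, 1], 446, false, false⟩,
  ⟨[44, 36, 53], [0, 1, 0, 0, 1, 2], [1, 1, 2, 0, 1], 836, false, false⟩,
  ⟨[45, 36, 53], [0, 1, 0, 0, 1, 2], [1, 1, 2, 0, 1], 837, false, false⟩,
  ⟨[6, 62, 16], [0, 1, 1, 0, 2], [1, 0, 2, 0, 1, 2], 854, false, false⟩,
  ⟨[6, 62, 5], [0, 1, 1, 0, 2], [1, 0, 2, 0, 1, 2], 134, false, false⟩,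
  ⟨[6, 63, 16], [0, 1, 1, 0, 2], [1, 0, 2, 0, 1, 2], 855, false, false⟩,
  ⟨[6, 63, 5], [0, 1, 1, 0, 2], [1, 0, 2, 0, 1, 2], 135, false, false⟩,
  ⟨[30, 68, 15], [0, 0, 1, 2, 1, 0], [1, 0, 1, 1, 2], 3903, false, false⟩,
  ⟨[30, 69, 15], [0, 0, 1, 2, 1, 0], [1, 0, 1, 1, 2], 3975, false, false⟩,
  ⟨[52, 69, 68], [0, 0, 1, 2, 1, 0], [1, 0, 1, 1, 2], 1580, false, false⟩,
  ⟨[52, 30, 6], [0, 0, 1, 2, 1, 0], [1, 0, 1, 1, 2], 3030, false, false⟩,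
  ⟨[53, 69, 68], [0, 1, 1, 0, 2], [1, 0, 2, 0, 1, 2], 1581, false, false⟩,
  ⟨[53, 52, 68], [0, 1, 1, 0, 2], [1, 0, 2, 0, 1, 2], 1564, false, false⟩,
  ⟨[62, 6, 15], [0, 1, 0, 0, 1], [1, 1, 2, 0, 1, 2], 4474, false, false⟩,
  ⟨[62, 69, 15], [0, 0, 1, 2, 1, 0], [1, 0, 1, 1, 2], 1671, false, false⟩,
  ⟨[62, 69, 68], [0, 0, 1, 2, 1, 0], [1, 0, 1, 1, 2], 1724, false, false⟩,
  ⟨[62, 30, 15], [0, 0, 1, 2, 1, 0], [1, 0, 1, 1, 2], 3327, false, false⟩,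
  ⟨[62, 30, 6], [0, 0, 1, 2, 1, 0], [1, 0, 1, 1, 2], 3318, false, false⟩,
  ⟨[62, 30, 10], [0, 0, 1, 2, 1, 0], [1, 0, 1, 1, 2], 3322, false, false⟩,
  ⟨[62, 53, 6], [0, 0, 1, 2, 1, 0], [1, 0, 1, 1, 2], 1374, false, false⟩,
  ⟨[62, 53, 10], [0, 0, 1, 2, 1, 0], [1, 0, 1, 1, 2], 1378, false, false⟩,
  ⟨[63, 69, 68], [0, 1, 1, 0, 2], [1, 0, 2, 0, 1, 2], 1725, false, false⟩,
  ⟨[63, 62, 68], [0, 1, 1, 0, 2], [1, 0, 2, 0, 1, 2], 1718, false, false⟩,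
  ⟨[54, 52, 68], [0, 0, 1, 2, 1, 0], [1, 0, 1, 1, 2], 4244, false, false⟩,
  ⟨[54, 53, 69], [0, 0, 1, 2, 1, 0], [1, 0, 1, 1, 2], 4317, false, false⟩,
  ⟨[54, 62, 15], [0, 0, 1, 2, 1, 0], [1, 0, 1, 1, 2], 4767, false, false⟩,
  ⟨[54, 62, 68], [0, 0, 1, 2, 1, 0], [1, 0, 1, 1, 2], 4820, false, false⟩,
  ⟨[54, 63, 15], [0, 0, 1, 2, 1, 0], [1, 0, 1, 1, 2], 4839, false, false⟩,
  ⟨[54, 63, 69], [0, 0, 1, 2, 1, 0], [1, 0, 1, 1, 2], 4893, false, false⟩,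
  ⟨[55, 53, 69], [0, 0, 1, 2, 1, 0], [1, 0, 1, 1, 2], 4245, false, false⟩,
  ⟨[55, 63, 69], [0, 0, 1, 2, 1, 0], [1, 0, 1, 1, 2], 4821, false, false⟩,
  ⟨[21, 62, 69], [0, 1, 0, 0, 1, 2], [1, 1, 2, 0, 1], 1677, false, false⟩,
  ⟨[21, 62, 53], [0, 1, 0, 0, 1, 2], [1, 1, 2, 0, 1], 1389, false, false⟩,
  ⟨[21, 63, 15], [0, 1, 1, 0, 2], [1, 0, 2, 0, 1, 2], 1719, false, false⟩,
  ⟨[21, 54, 52], [0, 1, 0, 0, 1, 2], [1, 1, 2, 0, 1], 4197, false, false⟩,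
  ⟨[21, 54, 53], [0, 1, 0, 0, 1, 2], [1, 1, 2, 0, 1], 4269, false, false⟩,
  ⟨[21, 54, 62], [0, 1, 0, 0, 1, 2], [1, 1, 2, 0, 1], 4773, false, false⟩,
  ⟨[21, 54, 63], [0, 1, 0, 0, 1, 2], [1, 1, 2, 0, 1], 4845, false, false⟩,
  ⟨[23, 62, 53], [0, 1, 0, 0, 1, 2], [1, 1, 2, 0, 1], 1391, false, false⟩,
  ⟨[6, 6, 23], [0], [1, 1, 2, 0, 2, 0, 1], 1387, false, false⟩,
  ⟨[23, 54, 52], [0, 1, 0, 0, 1, 2], [1, 1, 2, 0, 1], 4199, false, false⟩,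
  ⟨[23, 54, 53], [0, 1, 0, 0, 1, 2], [1, 1, 2, 0, 1], 4271, false, false⟩,
  ⟨[23, 54, 62], [0, 1, 0, 0, 1, 2], [1, 1, 2, 0, 1], 4775, false, false⟩,
  ⟨[23, 54, 63], [0, 1, 0, 0, 1, 2], [1, 1, 2, 0, 1], 4847, false, false⟩,
  ⟨[42, 52, 68], [0, 1, 1, 0, 2], [1, 0, 2, 0, 1, 2], 4228, false, false⟩,
  ⟨[42, 53, 69], [0, 1, 1, 0, 2], [1, 0, 2, 0, 1, 2], 4301, false, false⟩,
  ⟨[42, 62, 52], [0, 0, 1, 2, 1, 0], [1, 0, 1, 1, 2], 3508, false, false⟩,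
  ⟨[42, 63, 53], [0, 0, 1, 2, 1, 0], [1, 0, 1, 1, 2], 3581, false, false⟩,
  ⟨[42, 54, 68], [0, 1, 1, 0, 2], [1, 0, 2, 0, 1, 2], 4230, false, false⟩,
  ⟨[42, 54, 69], [0, 1, 1, 0, 2], [1, 0, 2, 0, 1, 2], 4302, false, false⟩,
  ⟨[42, 54, 52], [0, 1, 0, 0, 1, 2], [1, 1, 2, 0, 1], 4218, false, false⟩,
  ⟨[42, 54, 53], [0, 1, 0, 0, 1, 2], [1, 1, 2, 0, 1], 4290, false, false⟩,
  ⟨[42, 55, 30], [0, 0, 1, 2, 1, 0], [1, 0, 1, 1, 2], 678, false, false⟩,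
  ⟨[42, 55, 54], [0, 0, 1, 2, 1, 0], [1, 0, 1, 1, 2], 702, false, false⟩,
  ⟨[42, 21, 10], [0, 1, 0, 0, 1, 2], [1, 1, 2, 0, 1], 1410, false, false⟩,
  ⟨[42, 21, 62], [0, 1, 1, 0, 2], [1, 0, 2, 0, 1, 2], 3477, false, false⟩,
  ⟨[42, 21, 63], [0, 1, 1, 0, 2], [1, 0, 2, 0, 1, 2], 3549, false, false⟩,
  ⟨[42, 21, 55], [0, 1, 1, 0, 2], [1, 0, 2, 0, 1, 2], 669, false, false⟩,
  ⟨[43, 53, 69], [0, 1, 1, 0, 2], [1, 0, 2, 0, 1, 2], 4229, false, false⟩,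
  ⟨[43, 63, 53], [0, 0, 1, 2, 1, 0], [1, 0, 1, 1, 2], 3509, false, false⟩,
  ⟨[43, 55, 69], [0, 1, 1, 0, 2], [1, 0, 2, 0, 1, 2], 4231, false, false⟩,
  ⟨[43, 55, 53], [0, 1, 0, 0, 1, 2], [1, 1, 2, 0, 1], 4219, false, false⟩,
  ⟨[43, 55, 54], [0, 1, 1, 0, 2], [1, 0, 2, 0, 1, 2], 703, false, false⟩,
  ⟨[46, 62, 68], [0, 1, 1, 0, 2], [1, 0, 2, 0, 1, 2], 4814, false, false⟩,
  ⟨[46, 62, 52], [0, 1, 1, 0, 2], [1, 0, 2, 0, 1, 2], 3518, false, false⟩,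
  ⟨[46, 63, 69], [0, 1, 1, 0, 2], [1, 0, 2, 0, 1, 2], 4887, false, false⟩,
  ⟨[46, 63, 53], [0, 1, 1, 0, 2], [1, 0, 2, 0, 1, 2], 3591, false, false⟩,
  ⟨[46, 54, 68], [0, 1, 1, 0, 2], [1, 0, 2, 0, 1, 2], 4806, false, false⟩,
  ⟨[46, 54, 69], [0, 1, 1, 0, 2], [1, 0, 2, 0, 1, 2], 4878, false, false⟩,
  ⟨[46, 55, 15], [0, 0, 1, 2, 1, 0], [1, 0, 1, 1, 2], 879, false, false⟩,
  ⟨[46, 55, 54], [0, 0, 1, 2, 1, 0], [1, 0, 1, 1, 2], 918, false, false⟩,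
  ⟨[46, 23, 6], [0, 1, 0, 0, 1, 2], [1, 1, 2, 0, 1], 1414, false, false⟩,
  ⟨[46, 23, 52], [0, 1, 1, 0, 2], [1, 0, 2, 0, 1, 2], 3479, false, false⟩,
  ⟨[46, 23, 53], [0, 1, 1, 0, 2], [1, 0, 2, 0, 1, 2], 3551, false, false⟩,
  ⟨[46, 23, 55], [0, 1, 1, 0, 2], [1, 0, 2, 0, 1, 2], 887, false, false⟩,
  ⟨[46, 42, 63], [0, 1, 0, 0, 1, 2], [1, 1, 2, 0, 1], 3574, false, false⟩,
  ⟨[46, 43, 6], [0, 0, 1, 2, 1, 0], [1, 0, 1, 1, 2], 510, false, false⟩,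
  ⟨[46, 43, 10], [0, 0, 1, 2, 1, 0], [1, 0, 1, 1, 2], 514, false, false⟩,
  ⟨[46, 43, 30], [0, 0, 1, 2, 1, 0], [1, 0, 1, 1, 2], 534, false, false⟩,
  ⟨[47, 63, 69], [0, 1, 1, 0, 2], [1, 0, 2, 0, 1, 2], 4815, false, false⟩,
  ⟨[47, 63, 53], [0, 1, 1, 0, 2], [1, 0, 2, 0, 1, 2], 3519, false, false⟩,
  ⟨[47, 55, 69], [0, 1, 1, 0, 2], [1, 0, 2, 0, 1, 2], 4807, false, false⟩,
  ⟨[47, 55, 54], [0, 1, 1, 0, 2], [1, 0, 2, 0, 1, 2], 919, false, false⟩,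
  ⟨[47, 43, 63], [0, 1, 0, 0, 1, 2], [1, 1, 2, 0, 1], 3503, false, false⟩,
  ⟨[47, 46, 54], [0, 1, 1, 0, 2], [1, 0, 2, 0, 1, 2], 910, false, false⟩,
  ⟨[19, 42, 68], [0, 1, 0, 0, 1, 2], [1, 1, 2, 0, 1], 4195, false, false⟩,
  ⟨[19, 42, 69], [0, 1, 0, 0, 1, 2], [1, 1, 2, 0, 1], 4267, false, false⟩,
  ⟨[19, 42, 62], [0, 1, 0, 0, 1, 2], [1, 1, 2, 0, 1], 3475, false, false⟩,
  ⟨[19, 42, 63], [0, 1, 0, 0, 1, 2], [1, 1, 2, 0, 1], 3547, false, false⟩,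
  ⟨[19, 46, 68], [0, 1, 0, 0, 1, 2], [1, 1, 2, 0, 1], 4771, false, false⟩,
  ⟨[19, 46, 69], [0, 1, 0, 0, 1, 2], [1, 1, 2, 0, 1], 4843, false, false⟩,
  ⟨[19, 46, 43], [0, 1, 0, 0, 1, 2], [1, 1, 2, 0, 1], 523, false, false⟩,
  ⟨[58, 62, 68], [0, 0, 1, 2, 1, 0], [1, 0, 1, 1, 2], 5108, false, false⟩,
  ⟨[58, 62, 52], [0, 0, 1, 2, 1, 0], [1, 0, 1, 1, 2], 5092, false, false⟩,
  ⟨[58, 63, 69], [0, 0, 1, 2, 1, 0], [1, 0, 1, 1, 2], 5181, false, false⟩,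
  ⟨[58, 63, 53], [0, 0, 1, 2, 1, 0], [1, 0, 1, 1, 2], 5165, false, false⟩,
  ⟨[58, 54, 53], [0, 1, 0, 0, 1, 2], [1, 1, 2, 0, 1], 4306, false, false⟩,
  ⟨[58, 21, 62], [0, 1, 1, 0, 2], [1, 0, 2, 0, 1, 2], 5061, false, false⟩,
  ⟨[58, 21, 63], [0, 1, 1, 0, 2], [1, 0, 2, 0, 1, 2], 5133, false, false⟩,
  ⟨[58, 23, 62], [0, 1, 1, 0, 2], [1, 0, 2, 0, 1, 2], 5063, false, false⟩,
  ⟨[58, 23, 63], [0, 1, 1, 0, 2], [1, 0, 2, 0, 1, 2], 5135, false, false⟩,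
  ⟨[58, 43, 31], [0, 1, 1, 0, 2], [1, 0, 2, 0, 1, 2], 691, false, false⟩,
  ⟨[58, 46, 6], [0, 0, 1, 2, 1, 0], [1, 0, 1, 1, 2], 4038, false, false⟩,
  ⟨[58, 46, 30], [0, 0, 1, 2, 1, 0], [1, 0, 1, 1, 2], 4062, false, false⟩,
  ⟨[58, 46, 54], [0, 0, 1, 2, 1, 0], [1, 0, 1, 1, 2], 4086, false, false⟩,
  ⟨[58, 46, 23], [0, 0, 1, 2, 1, 0], [1, 0, 1, 1, 2], 4055, false, false⟩,
  ⟨[58, 46, 42], [0, 0, 1, 2, 1, 0], [1, 0, 1, 1, 2], 4074, false, false⟩,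
  ⟨[58, 47, 6], [0, 0, 1, 2, 1, 0], [1, 0, 1, 1, 2], 4110, false, false⟩,
  ⟨[58, 47, 30], [0, 0, 1, 2, 1, 0], [1, 0, 1, 1, 2], 4134, false, false⟩,
  ⟨[58, 47, 55], [0, 0, 1, 2, 1, 0], [1, 0, 1, 1, 2], 4159, false, false⟩,
  ⟨[58, 47, 23], [0, 0, 1, 2, 1, 0], [1, 0, 1, 1, 2], 4127, false, false⟩,
  ⟨[58, 47, 43], [0, 0, 1, 2, 1, 0], [1, 0, 1, 1, 2], 4147, false, false⟩,
  ⟨[58, 19, 62], [0, 1, 1, 0, 2], [1, 0, 2, 0, 1, 2], 5059, false, false⟩,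
  ⟨[58, 19, 63], [0, 1, 1, 0, 2], [1, 0, 2, 0, 1, 2], 5131, false, false⟩,
  ⟨[58, 19, 46], [0, 1, 1, 0, 2], [1, 0, 2, 0, 1, 2], 4051, false, false⟩,
  ⟨[58, 19, 47], [0, 1, 1, 0, 2], [1, 0, 2, 0, 1, 2], 4123, false, false⟩,
  ⟨[59, 63, 69], [0, 0, 1, 2, 1, 0], [1, 0, 1, 1, 2], 5109, false, false⟩,
  ⟨[59, 63, 53], [0, 0, 1, 2, 1, 0], [1, 0, 1, 1, 2], 5093, false, false⟩,
  ⟨[59, 46, 31], [0, 0, 1, 2, 1, 0], [1, 0, 1, 1, 2], 4135, false, false⟩,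
  ⟨[59, 46, 54], [0, 0, 1, 2, 1, 0], [1, 0, 1, 1, 2], 4158, false, false⟩,
  ⟨[59, 46, 42], [0, 0, 1, 2, 1, 0], [1, 0, 1, 1, 2], 4146, false, false⟩,
  ⟨[59, 58, 30], [0, 1, 1, 0, 2], [1, 0, 2, 0, 1, 2], 706, false, false⟩,
  ⟨[66, 31, 10], [0, 0, 1, 2, 1, 0], [1, 0, 1, 1, 2], 874, false, false⟩,
  ⟨[66, 62, 52], [0, 1, 1, 0, 2], [1, 0, 2, 0, 1, 2], 5102, false, false⟩,
  ⟨[66, 63, 53], [0, 1, 1, 0, 2], [1, 0, 2, 0, 1, 2], 5175, false, false⟩,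
  ⟨[66, 54, 63], [0, 1, 0, 0, 1, 2], [1, 1, 2, 0, 1], 4890, false, false⟩,
  ⟨[66, 42, 21], [0, 0, 1, 2, 1, 0], [1, 0, 1, 1, 2], 4053, false, false⟩,
  ⟨[66, 43, 21], [0, 0, 1, 2, 1, 0], [1, 0, 1, 1, 2], 4125, false, false⟩,
  ⟨[66, 46, 42], [0, 1, 1, 0, 2], [1, 0, 2, 0, 1, 2], 4078, false, false⟩,
  ⟨[66, 47, 31], [0, 1, 1, 0, 2], [1, 0, 2, 0, 1, 2], 911, false, false⟩,
  ⟨[66, 47, 43], [0, 1, 1, 0, 2], [1, 0, 2, 0, 1, 2], 4151, false, false⟩,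
  ⟨[66, 58, 52], [0, 1, 1, 0, 2], [1, 0, 2, 0, 1, 2], 5098, false, false⟩,
  ⟨[66, 58, 53], [0, 1, 1, 0, 2], [1, 0, 2, 0, 1, 2], 5170, false, false⟩,
  ⟨[66, 58, 62], [0, 1, 0, 0, 1, 2], [1, 1, 2, 0, 1], 5106, false, false⟩,
  ⟨[66, 58, 63], [0, 1, 0, 0, 1, 2], [1, 1, 2, 0, 1], 5178, false, false⟩,
  ⟨[66, 58, 42], [0, 1, 1, 0, 2], [1, 0, 2, 0, 1, 2], 4090, false, false⟩,
  ⟨[66, 58, 43], [0, 1, 1, 0, 2], [1, 0, 2, 0, 1, 2], 4162, false, false⟩,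
  ⟨[66, 58, 46], [0, 1, 0, 0, 1, 2], [1, 1, 2, 0, 1], 4098, false, false⟩,
  ⟨[66, 58, 47], [0, 1, 0, 0, 1, 2], [1, 1, 2, 0, 1], 4170, false, false⟩,
  ⟨[66, 59, 68], [0, 0, 1, 2, 1, 0], [1, 0, 1, 1, 2], 1652, false, false⟩,
  ⟨[66, 59, 69], [0, 0, 1, 2, 1, 0], [1, 0, 1, 1, 2], 1653, false, false⟩,
  ⟨[66, 59, 54], [0, 0, 1, 2, 1, 0], [1, 0, 1, 1, 2], 1638, false, false⟩,
  ⟨[66, 59, 55], [0, 0, 1, 2, 1, 0], [1, 0, 1, 1, 2], 1639, false, false⟩,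
  ⟨[66, 59, 21], [0, 0, 1, 2, 1, 0], [1, 0, 1, 1, 2], 1605, false, false⟩,
  ⟨[66, 59, 23], [0, 0, 1, 2, 1, 0], [1, 0, 1, 1, 2], 1607, false, false⟩,
  ⟨[66, 59, 19], [0, 0, 1, 2, 1, 0], [1, 0, 1, 1, 2], 1603, false, false⟩,
  ⟨[66, 59, 58], [0, 0, 1, 2, 1, 0], [1, 0, 1, 1, 2], 1642, false, false⟩,
  ⟨[67, 63, 53], [0, 1, 1, 0, 2], [1, 0, 2, 0, 1, 2], 5103, false, false⟩,
  ⟨[67, 46, 42], [0, 1, 1, 0, 2], [1, 0, 2, 0, 1, 2], 4150, false, false⟩,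
  ⟨[67, 59, 53], [0, 1, 1, 0, 2], [1, 0, 2, 0, 1, 2], 5099, false, false⟩,
  ⟨[67, 59, 63], [0, 1, 0, 0, 1, 2], [1, 1, 2, 0, 1], 5107, false, false⟩,
  ⟨[67, 59, 42], [0, 1, 1, 0, 2], [1, 0, 2, 0, 1, 2], 4163, false, false⟩,
  ⟨[67, 59, 46], [0, 1, 0, 0, 1, 2], [1, 1, 2, 0, 1], 4171, false, false⟩,
  ⟨[67, 59, 58], [0, 1, 1, 0, 2], [1, 0, 2, 0, 1, 2], 1643, false, false⟩,
  ⟨[67, 66, 30], [0, 1, 1, 0, 2], [1, 0, 2, 0, 1, 2], 930, false, false⟩,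
  ⟨[67, 66, 58], [0, 1, 1, 0, 2], [1, 0, 2, 0, 1, 2], 1650, false, false⟩,
  ⟨[48, 68, 15], [0, 0, 1, 2, 1, 0], [1, 0, 1, 1, 2], 5055, false, false⟩,
  ⟨[48, 69, 15], [0, 0, 1, 2, 1, 0], [1, 0, 1, 1, 2], 5127, false, false⟩,
  ⟨[48, 31, 15], [0, 0, 1, 2, 1, 0], [1, 0, 1, 1, 2], 519, false, false⟩,
  ⟨[48, 54, 15], [0, 0, 1, 2, 1, 0], [1, 0, 1, 1, 2], 4047, false, false⟩,
  ⟨[48, 55, 15], [0, 0, 1, 2, 1, 0], [1, 0, 1, 1, 2], 4119, false, false⟩,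
  ⟨[48, 46, 43], [0, 1, 0, 0, 1, 2], [1, 1, 2, 0, 1], 552, false, false⟩,
  ⟨[48, 58, 62], [0, 1, 0, 0, 1, 2], [1, 1, 2, 0, 1], 5088, false, false⟩,
  ⟨[48, 48, 68], [0], [1, 1, 2, 0, 2, 0, 1], 5110, false, false⟩,
  ⟨[48, 58, 63], [0, 1, 0, 0, 1, 2], [1, 1, 2, 0, 1], 5160, false, false⟩,
  ⟨[48, 48, 69], [0], [1, 1, 2, 0, 2, 0, 1], 5183, false, false⟩,
  ⟨[48, 58, 46], [0, 1, 0, 0, 1, 2], [1, 1, 2, 0, 1], 4080, false, false⟩,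
  ⟨[48, 58, 47], [0, 1, 0, 0, 1, 2], [1, 1, 2, 0, 1], 4152, false, false⟩,
  ⟨[48, 59, 6], [0, 0, 1, 2, 1, 0], [1, 0, 1, 1, 2], 1302, false, false⟩,
  ⟨[48, 59, 52], [0, 0, 1, 2, 1, 0], [1, 0, 1, 1, 2], 1348, false, false⟩,
  ⟨[48, 59, 53], [0, 0, 1, 2, 1, 0], [1, 0, 1, 1, 2], 1349, false, false⟩,
  ⟨[48, 59, 21], [0, 0, 1, 2, 1, 0], [1, 0, 1, 1, 2], 1317, false, false⟩,
  ⟨[48, 59, 23], [0, 0, 1, 2, 1, 0], [1, 0, 1, 1, 2], 1319, false, false⟩,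
  ⟨[48, 59, 42], [0, 0, 1, 2, 1, 0], [1, 0, 1, 1, 2], 1338, false, false⟩,
  ⟨[48, 59, 43], [0, 0, 1, 2, 1, 0], [1, 0, 1, 1, 2], 1339, false, false⟩,
  ⟨[48, 59, 19], [0, 0, 1, 2, 1, 0], [1, 0, 1, 1, 2], 1315, false, false⟩,
  ⟨[48, 59, 58], [0, 0, 1, 2, 1, 0], [1, 0, 1, 1, 2], 1354, false, false⟩,
  ⟨[48, 67, 15], [0, 0, 1, 2, 1, 0], [1, 0, 1, 1, 2], 1455, false, false⟩,
  ⟨[48, 67, 10], [0, 0, 1, 2, 1, 0], [1, 0, 1, 1, 2], 1450, false, false⟩,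
  ⟨[48, 67, 62], [0, 0, 1, 2, 1, 0], [1, 0, 1, 1, 2], 1502, false, false⟩,
  ⟨[48, 67, 63], [0, 0, 1, 2, 1, 0], [1, 0, 1, 1, 2], 1503, false, false⟩,
  ⟨[48, 67, 21], [0, 0, 1, 2, 1, 0], [1, 0, 1, 1, 2], 1461, false, false⟩,
  ⟨[48, 67, 23], [0, 0, 1, 2, 1, 0], [1, 0, 1, 1, 2], 1463, false, false⟩,
  ⟨[48, 67, 46], [0, 0, 1, 2, 1, 0], [1, 0, 1, 1, 2], 1486, false, false⟩,
  ⟨[48, 67, 47], [0, 0, 1, 2, 1, 0], [1, 0, 1, 1, 2], 1487, false, false⟩,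
  ⟨[48, 67, 19], [0, 0, 1, 2, 1, 0], [1, 0, 1, 1, 2], 1459, false, false⟩,
  ⟨[48, 67, 66], [0, 0, 1, 2, 1, 0], [1, 0, 1, 1, 2], 1506, false, false⟩,
  ⟨[49, 46, 43], [0, 1, 0, 0, 1, 2], [1, 1, 2, 0, 1], 553, false, false⟩,
  ⟨[49, 59, 63], [0, 1, 0, 0, 1, 2], [1, 1, 2, 0, 1], 5089, false, false⟩,
  ⟨[49, 59, 46], [0, 1, 0, 0, 1, 2], [1, 1, 2, 0, 1], 4153, false, false⟩,
  ⟨[49, 59, 58], [0, 1, 1, 0, 2], [1, 0, 2, 0, 1, 2], 1355, false, false⟩,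
  ⟨[49, 67, 66], [0, 1, 1, 0, 2], [1, 0, 2, 0, 1, 2], 1507, false, false⟩,
  ⟨[49, 48, 58], [0, 1, 1, 0, 2], [1, 0, 2, 0, 1, 2], 1344, false, false⟩,
  ⟨[49, 48, 66], [0, 1, 1, 0, 2], [1, 0, 2, 0, 1, 2], 1488, false, false⟩,
  ⟨[9, 68, 15], [0, 1, 1, 0, 2], [1, 0, 2, 0, 1, 2], 932, false, false⟩,
  ⟨[9, 69, 15], [0, 1, 1, 0, 2], [1, 0, 2, 0, 1, 2], 933, false, false⟩,
  ⟨[9, 52, 10], [0, 1, 1, 0, 2], [1, 0, 2, 0, 1, 2], 556, false, false⟩,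
  ⟨[9, 53, 10], [0, 1, 1, 0, 2], [1, 0, 2, 0, 1, 2], 557, false, false⟩,
  ⟨[9, 54, 53], [0, 1, 0, 0, 1], [1, 1, 2, 0, 1, 2], 707, false, false⟩,
  ⟨[9, 23, 52], [0, 0, 1, 2, 1, 0], [1, 0, 1, 1, 2], 1636, false, false⟩,
  ⟨[9, 23, 53], [0, 0, 1, 2, 1, 0], [1, 0, 1, 1, 2], 1637, false, false⟩,
  ⟨[9, 46, 68], [0, 1, 0, 0, 1], [1, 1, 2, 0, 1, 2], 714, false, false⟩,
  ⟨[9, 46, 69], [0, 1, 0, 0, 1], [1, 1, 2, 0, 1, 2], 715, false, false⟩,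
  ⟨[9, 46, 52], [0, 1, 0, 0, 1], [1, 1, 2, 0, 1, 2], 696, false, false⟩,
  ⟨[9, 46, 53], [0, 1, 0, 0, 1], [1, 1, 2, 0, 1, 2], 697, false, false⟩,
  ⟨[9, 46, 55], [0, 1, 0, 0, 1, 2], [1, 1, 2, 0, 1], 873, false, false⟩,
  ⟨[9, 46, 23], [0, 1, 1, 0, 2], [1, 0, 2, 0, 1, 2], 1630, false, false⟩,
  ⟨[9, 46, 43], [0, 1, 0, 0, 1, 2], [1, 1, 2, 0, 1], 513, false, false⟩,
  ⟨[9, 19, 68], [0, 0, 1, 2, 1, 0], [1, 0, 1, 1, 2], 1364, false, false⟩,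
  ⟨[9, 19, 69], [0, 0, 1, 2, 1, 0], [1, 0, 1, 1, 2], 1365, false, false⟩,
  ⟨[9, 19, 46], [0, 0, 1, 2, 1, 0], [1, 0, 1, 1, 2], 1342, false, false⟩,
  ⟨[9, 19, 47], [0, 0, 1, 2, 1, 0], [1, 0, 1, 1, 2], 1343, false, false⟩,
  ⟨[9, 66, 10], [0, 1, 1, 0, 2], [1, 0, 2, 0, 1, 2], 570, false, false⟩,
  ⟨[9, 66, 19], [0, 1, 1, 0, 2], [1, 0, 2, 0, 1, 2], 1362, false, false⟩,
  ⟨[9, 66, 59], [0, 1, 0, 0, 1, 2], [1, 1, 2, 0, 1], 1593, false, false⟩,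
  ⟨[9, 9, 23], [0], [1, 1, 2, 0, 2, 0, 1], 1606, false, false⟩,
  ⟨[9, 67, 15], [0, 1, 1, 0, 2], [1, 0, 2, 0, 1, 2], 931, false, false⟩,
  ⟨[9, 67, 10], [0, 1, 1, 0, 2], [1, 0, 2, 0, 1, 2], 571, false, false⟩,
  ⟨[9, 67, 23], [0, 1, 1, 0, 2], [1, 0, 2, 0, 1, 2], 1651, false, false⟩,
  ⟨[9, 67, 19], [0, 1, 1, 0, 2], [1, 0, 2, 0, 1, 2], 1363, false, false⟩,
  ⟨[9, 48, 15], [0, 1, 1, 0, 2], [1, 0, 2, 0, 1, 2], 912, false, false⟩,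
  ⟨[9, 48, 23], [0, 1, 1, 0, 2], [1, 0, 2, 0, 1, 2], 1632, false, false⟩,
  ⟨[9, 48, 59], [0, 1, 0, 0, 1, 2], [1, 1, 2, 0, 1], 1305, false, false⟩]

/-- masks before -/
def stA2 : ℕ × ℕ × ℕ := (0x133cc0000000a00800011440000000a0080000000000000000000000000000000000000001000000000001400000000000000001400000000000000000000000000000000000000000100000000080400000000000000080400200000000000000000000000000000000000000000000000000000000000000000000000000004000000000000000000000000000000003001f0c000000000001000504000000000021040c002210a24000330c04003330a2491200000100000000000030000000000000000000000000000000000000000000000000000001002000040800000003c033101c1c080808000000000000000000000000000000000000000000000000000000c0004000420000000040000000400000000040000000000000000043300c002c3300080241100400141100082200000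050a000000000f00000f0f000000400400cc0000333000800400440000111000800000000448200000000f00000ccc300000080000000000000000100f0003c34131f0001494504010100000000004504000100000040000000000000000000003fcf3301ffc50000120000c0000000000000000000000000000000030cc0000300a0010000000000000000000003c013003010010100000000000000000000303cc000d200a24010333ccc033020a3693a00000000000000000003c00c005004490024333ccc030310a2093000000000000000000003003c01303120492b00c003f48c040840a50000000000008000000004040c0010800000000000440000800000000015140010c00d8d33300cc3ff11824c32000040034741800182333cc401f313e3697b000000503111c044d800000054c7d1b34fff000000135c007bcc20, 0x0, 0x0)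

/-- masks after -/
def stB2 : ℕ × ℕ × ℕ := (0xa48421000000a880007ccc33000000a88000133cc0000000a00800011440000000a00800248040000000a8800030c0c0000000a88000010000000000014000000000000000014000000000000000000000000000000000000400001000000000804000000000000000804002200460040000a800003000f00c0000a800000c0cc3cc00c0a88040040441440040a8804000004000000000800000000000000000800003001f0c000000000001000504000000000021040c002210a24000330c04003330a24912008021400000a8000030c030800000a8000000000000000000000000000000000000844001002000040800040003c033101c1c084c08000000000000000000000000000000000040000000000000000000c0004000420000000040000000400000000040000000000000000043300c002c3300080241100400141100082200000050a000000000f00000f0f000000400400cc0000333000800400440000111000800000000448200000000f00000ccc3000000800000000000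00000100f0003c34131f0001494504010100000000004504000100000040000000000000000000003fcf3301ffc500001230c0c00000002080003c0cf1400000e80200330cd0000300a001000cc001c00000a8840003c013443010a905403c0c31cc0000a80240303cc000d200a24010333ccc033020a3693a00000000000000000003c03c00701c490424333ccc030310a209303c00c1c0000080860003c03f31303d284d2b00c023f48c0c0840a50c0cc3080040a000000004040c00108000000c0033440040888640030015140010c84dcd33300cc3ff11824c32000040034741800182333cc401f313e3697b000000503111c044d803c01654c7d1bb4fff000000135c007bcc20, 0x0, 0x0)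

theorem chain2_ok : (chainOK tab steps2 stA2.1 stA2.2.1 stA2.2.2 &&
    (learnAll steps2 stA2 == stB2) && (stA2.2.1 ||| stA2.1 == stA2.1) &&
    (stA2.2.2 ||| stA2.1 == stA2.1)) = true := by decide +kernel

theorem run2 {P : Type*} [Group P] (S : Sys tab P) {g h : Subgroup.center P} (hg : g * g = 1) (hh : h * h = 1)
    (H : S.Holds g h stA2.1 stA2.2.1 stA2.2.2) : S.Holds g h stB2.1 stB2.2.1 stB2.2.2 := by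
  have h' := chain2_ok
  simp only [Bool.and_eq_true, beq_iff_eq] at h'
  rw [← h'.1.1.2]
  exact S.chain_spec hg hh steps2 _ _ _ H h'.1.2 h'.2 h'.1.1.1

end CfsgLib.Lie.MultExc.TwESixTwo
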