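import Cfsg.Agent.Lib.Lie.MultExc.TwESixTwo.Table

/-!
Deductions of the central corrections, part 3.
-/

set_option autoImplicit false
set_option maxRecDepth 100000
set_option maxHeartbeats 0

open scoped IsMulCommutative

namespace CfsgLib.Lie.MultExc.TwESixTwo

/-- deductions -/
def steps3 : List Step := [
  ⟨[9, 48, 67], [0, 1, 0, 0, 1, 2], [1, 1, 2, 0, 1], 1449, false, false⟩,
  ⟨[9, 49, 15], [0, 1, 1, 0, 2], [1, 0, 2, 0, 1, 2], 913, false, false⟩,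
  ⟨[9, 49, 23], [0, 1, 1, 0, 2], [1, 0, 2, 0, 1, 2], 1633, false, false⟩,
  ⟨[9, 49, 19], [0, 1, 1, 0, 2], [1, 0, 2, 0, 1, 2], 1345, false, false⟩,
  ⟨[12, 21, 62], [0, 0, 1, 2, 1, 0], [1, 0, 1, 1, 2], 1646, false, false⟩,
  ⟨[12, 21, 63], [0, 0, 1, 2, 1, 0], [1, 0, 1, 1, 2], 1647, false, false⟩,
  ⟨[12, 42, 68], [0, 1, 0, 0, 1], [1, 1, 2, 0, 1, 2], 922, false, false⟩,
  ⟨[12, 42, 69], [0, 1, 0, 0, 1], [1, 1, 2, 0, 1, 2], 923, false, false⟩,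
  ⟨[12, 42, 21], [0, 1, 1, 0, 2], [1, 0, 2, 0, 1, 2], 1626, false, false⟩,
  ⟨[12, 46, 43], [0, 1, 0, 0, 1, 2], [1, 1, 2, 0, 1], 516, false, false⟩,
  ⟨[12, 19, 68], [0, 0, 1, 2, 1, 0], [1, 0, 1, 1, 2], 1508, false, false⟩,
  ⟨[12, 19, 69], [0, 0, 1, 2, 1, 0], [1, 0, 1, 1, 2], 1509, false, false⟩,
  ⟨[12, 19, 42], [0, 0, 1, 2, 1, 0], [1, 0, 1, 1, 2], 1482, false, false⟩,
  ⟨[12, 19, 43], [0, 0, 1, 2, 1, 0], [1, 0, 1, 1, 2], 1483, false, false⟩,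
  ⟨[12, 58, 6], [0, 1, 1, 0, 2], [1, 0, 2, 0, 1, 2], 562, false, false⟩,
  ⟨[12, 58, 62], [0, 1, 0, 0, 1, 2], [1, 1, 2, 0, 1], 5052, false, false⟩,
  ⟨[12, 58, 63], [0, 1, 0, 0, 1, 2], [1, 1, 2, 0, 1], 5124, false, false⟩,
  ⟨[12, 58, 46], [0, 1, 0, 0, 1, 2], [1, 1, 2, 0, 1], 4044, false, false⟩,
  ⟨[12, 58, 47], [0, 1, 0, 0, 1, 2], [1, 1, 2, 0, 1], 4116, false, false⟩,
  ⟨[12, 58, 19], [0, 1, 1, 0, 2], [1, 0, 2, 0, 1, 2], 1498, false, false⟩,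
  ⟨[12, 59, 6], [0, 1, 1, 0, 2], [1, 0, 2, 0, 1, 2], 563, false, false⟩,
  ⟨[12, 59, 19], [0, 1, 1, 0, 2], [1, 0, 2, 0, 1, 2], 1499, false, false⟩,
  ⟨[12, 66, 59], [0, 1, 0, 0, 1, 2], [1, 1, 2, 0, 1], 1596, false, false⟩,
  ⟨[12, 48, 59], [0, 1, 0, 0, 1, 2], [1, 1, 2, 0, 1], 1308, false, false⟩,
  ⟨[12, 48, 67], [0, 1, 0, 0, 1, 2], [1, 1, 2, 0, 1], 1452, false, false⟩,
  ⟨[12, 49, 19], [0, 1, 1, 0, 2], [1, 0, 2, 0, 1, 2], 1489, false, false⟩,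
  ⟨[70, 55, 15], [0, 0, 1, 2, 1, 0], [1, 0, 1, 1, 2], 1599, false, false⟩,
  ⟨[70, 43, 10], [0, 0, 1, 2, 1, 0], [1, 0, 1, 1, 2], 1306, false, false⟩,
  ⟨[70, 58, 63], [0, 1, 0, 0, 1, 2], [1, 1, 2, 0, 1], 5182, false, false⟩,
  ⟨[70, 58, 46], [0, 1, 0, 0, 1, 2], [1, 1, 2, 0, 1], 4102, false, false⟩,
  ⟨[30, 30, 70], [0], [1, 1, 2, 0, 2, 0, 1], 4088, false, false⟩,
  ⟨[70, 59, 46], [0, 1, 0, 0, 1, 2], [1, 1, 2, 0, 1], 4174, false, false⟩,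
  ⟨[70, 9, 10], [0, 1, 0, 0, 1, 2], [1, 1, 2, 0, 1], 574, false, false⟩,
  ⟨[71, 58, 47], [0, 1, 0, 0, 1, 2], [1, 1, 2, 0, 1], 4175, false, false⟩,
  ⟨[30, 30, 71], [0], [1, 1, 2, 0, 2, 0, 1], 4161, false, false⟩,
  ⟨[71, 9, 10], [0, 1, 0, 0, 1, 2], [1, 1, 2, 0, 1], 575, false, false⟩,
  ⟨[71, 70, 54], [0, 1, 1, 0, 2], [1, 0, 2, 0, 1, 2], 1654, false, false⟩,
  ⟨[71, 70, 42], [0, 1, 1, 0, 2], [1, 0, 2, 0, 1, 2], 1366, false, false⟩,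
  ⟨[71, 70, 46], [0, 1, 1, 0, 2], [1, 0, 2, 0, 1, 2], 1510, false, false⟩,
  ⟨[7, 21, 62], [0, 0, 1, 2, 1, 0], [1, 0, 1, 1, 2], 1358, false, false⟩,
  ⟨[7, 21, 63], [0, 0, 1, 2, 1, 0], [1, 0, 1, 1, 2], 1359, false, false⟩,
  ⟨[7, 21, 54], [0, 0, 1, 2, 1, 0], [1, 0, 1, 1, 2], 1350, false, false⟩,
  ⟨[7, 21, 55], [0, 0, 1, 2, 1, 0], [1, 0, 1, 1, 2], 1351, false, false⟩,
  ⟨[7, 23, 52], [0, 0, 1, 2, 1, 0], [1, 0, 1, 1, 2], 1492, false, false⟩,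
  ⟨[7, 23, 53], [0, 0, 1, 2, 1, 0], [1, 0, 1, 1, 2], 1493, false, false⟩,
  ⟨[7, 23, 54], [0, 0, 1, 2, 1, 0], [1, 0, 1, 1, 2], 1494, false, false⟩,
  ⟨[7, 23, 55], [0, 0, 1, 2, 1, 0], [1, 0, 1, 1, 2], 1495, false, false⟩,
  ⟨[7, 58, 46], [0, 1, 0, 0, 1, 2], [1, 1, 2, 0, 1], 4039, false, false⟩,
  ⟨[7, 66, 59], [0, 1, 0, 0, 1, 2], [1, 1, 2, 0, 1], 1591, false, false⟩,
  ⟨[7, 48, 59], [0, 1, 0, 0, 1, 2], [1, 1, 2, 0, 1], 1303, false, false⟩,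
  ⟨[7, 48, 67], [0, 1, 0, 0, 1, 2], [1, 1, 2, 0, 1], 1447, false, false⟩,
  ⟨[7, 7, 23], [0], [1, 1, 2, 0, 2, 0, 1], 1460, false, false⟩,
  ⟨[7, 71, 21], [0, 1, 1, 0, 2], [1, 0, 2, 0, 1, 2], 1367, false, false⟩,
  ⟨[7, 71, 23], [0, 1, 1, 0, 2], [1, 0, 2, 0, 1, 2], 1511, false, false⟩,
  ⟨[56, 58, 47], [0, 1, 0, 0, 1, 2], [1, 1, 2, 0, 1], 4160, false, false⟩,
  ⟨[56, 66, 59], [0, 1, 0, 0, 1, 2], [1, 1, 2, 0, 1], 1640, false, false⟩,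
  ⟨[56, 48, 59], [0, 1, 0, 0, 1, 2], [1, 1, 2, 0, 1], 1352, false, false⟩,
  ⟨[56, 48, 67], [0, 1, 0, 0, 1, 2], [1, 1, 2, 0, 1], 1496, false, false⟩,
  ⟨[56, 71, 69], [0, 1, 1, 0, 2], [1, 0, 2, 0, 1, 2], 1655, false, false⟩,
  ⟨[57, 66, 59], [0, 1, 0, 0, 1, 2], [1, 1, 2, 0, 1], 1641, false, false⟩,
  ⟨[57, 48, 59], [0, 1, 0, 0, 1, 2], [1, 1, 2, 0, 1], 1353, false, false⟩,
  ⟨[57, 48, 67], [0, 1, 0, 0, 1, 2], [1, 1, 2, 0, 1], 1497, false, false⟩,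
  ⟨[22, 30, 6], [0, 1, 1, 0, 2], [1, 0, 2, 0, 1, 2], 1326, false, false⟩,
  ⟨[22, 31, 6], [0, 1, 1, 0, 2], [1, 0, 2, 0, 1, 2], 1327, false, false⟩,
  ⟨[22, 48, 59], [0, 1, 0, 0, 1, 2], [1, 1, 2, 0, 1], 1318, false, false⟩,
  ⟨[6, 6, 22], [0], [1, 1, 2, 0, 2, 0, 1], 1314, false, false⟩,
  ⟨[22, 48, 67], [0, 1, 0, 0, 1, 2], [1, 1, 2, 0, 1], 1462, false, false⟩,
  ⟨[18, 48, 67], [0, 1, 0, 0, 1, 2], [1, 1, 2, 0, 1], 1458, false, false⟩,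
  ⟨[17, 10, 5], [0, 0, 1, 2, 1, 0], [1, 0, 1, 1, 2], 1085, false, false⟩,
  ⟨[17, 10, 34], [0, 0, 1, 2, 1, 0], [1, 0, 1, 1, 2], 1114, false, false⟩,
  ⟨[66, 5, 22], [0, 1, 0, 0, 1], [1, 1, 2, 0, 1, 2], 4769, false, false⟩,
  ⟨[66, 10, 35], [0, 1, 1, 0, 2], [1, 0, 2, 0, 1, 2], 1090, false, false⟩,
  ⟨[66, 17, 35], [0, 1, 1, 0, 2], [1, 0, 2, 0, 1, 2], 1097, false, false⟩,
  ⟨[67, 5, 22], [0, 1, 0, 0, 1], [1, 1, 2, 0, 1, 2], 4841, false, false⟩,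
  ⟨[67, 66, 34], [0, 1, 1, 0, 2], [1, 0, 2, 0, 1, 2], 1146, false, false⟩,
  ⟨[20, 17, 10], [0, 1, 0, 0, 1, 2], [1, 1, 2, 0, 1], 1100, false, false⟩,
  ⟨[20, 67, 5], [0, 1, 1, 0, 2], [1, 0, 2, 0, 1, 2], 1147, false, false⟩,
  ⟨[32, 22, 48], [0, 1, 1, 0, 2], [1, 0, 2, 0, 1, 2], 3046, false, false⟩,
  ⟨[32, 66, 22], [0, 0, 1, 2, 1, 0], [1, 0, 1, 1, 2], 3910, false, false⟩,
  ⟨[32, 66, 17], [0, 0, 1, 2, 1, 0], [1, 0, 1, 1, 2], 3905, false, false⟩,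
  ⟨[33, 66, 22], [0, 0, 1, 2, 1, 0], [1, 0, 1, 1, 2], 3982, false, false⟩,
  ⟨[33, 66, 5], [0, 0, 1, 2, 1, 0], [1, 0, 1, 1, 2], 3965, false, false⟩,
  ⟨[33, 66, 17], [0, 0, 1, 2, 1, 0], [1, 0, 1, 1, 2], 3977, false, false⟩,
  ⟨[42, 66, 22], [0, 0, 1, 2, 1, 0], [1, 0, 1, 1, 2], 4054, false, false⟩,
  ⟨[42, 67, 22], [0, 0, 1, 2, 1, 0], [1, 0, 1, 1, 2], 4126, false, false⟩,
  ⟨[42, 20, 34], [0, 1, 1, 0, 2], [1, 0, 2, 0, 1, 2], 1892, false, false⟩,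
  ⟨[42, 20, 35], [0, 1, 1, 0, 2], [1, 0, 2, 0, 1, 2], 1964, false, false⟩,
  ⟨[42, 20, 66], [0, 1, 1, 0, 2], [1, 0, 2, 0, 1, 2], 4052, false, false⟩,
  ⟨[42, 20, 67], [0, 1, 1, 0, 2], [1, 0, 2, 0, 1, 2], 4124, false, false⟩,
  ⟨[24, 66, 5], [0, 0, 1, 2, 1, 0], [1, 0, 1, 1, 2], 2741, false, false⟩,
  ⟨[24, 66, 34], [0, 0, 1, 2, 1, 0], [1, 0, 1, 1, 2], 2770, false, false⟩,
  ⟨[24, 67, 35], [0, 0, 1, 2, 1, 0], [1, 0, 1, 1, 2], 2843, false, false⟩,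
  ⟨[24, 15, 66], [0, 1, 1, 0, 2], [1, 0, 2, 0, 1, 2], 2751, false, false⟩,
  ⟨[25, 66, 34], [0, 0, 1, 2, 1, 0], [1, 0, 1, 1, 2], 2842, false, false⟩,
  ⟨[26, 66, 48], [0, 0, 1, 2, 1, 0], [1, 0, 1, 1, 2], 3360, false, false⟩,
  ⟨[26, 20, 66], [0, 1, 1, 0, 2], [1, 0, 2, 0, 1, 2], 3332, false, false⟩,
  ⟨[27, 66, 34], [0, 0, 1, 2, 1, 0], [1, 0, 1, 1, 2], 3418, false, false⟩,
  ⟨[27, 67, 49], [0, 0, 1, 2, 1, 0], [1, 0, 1, 1, 2], 3361, false, false⟩,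
  ⟨[54, 66, 34], [0, 1, 1, 0, 2], [1, 0, 2, 0, 1, 2], 2802, false, false⟩,
  ⟨[54, 67, 35], [0, 1, 1, 0, 2], [1, 0, 2, 0, 1, 2], 2875, false, false⟩,
  ⟨[54, 43, 22], [0, 0, 1, 2, 1, 0], [1, 0, 1, 1, 2], 670, false, false⟩,
  ⟨[54, 43, 33], [0, 0, 1, 2, 1, 0], [1, 0, 1, 1, 2], 681, false, false⟩,
  ⟨[54, 24, 34], [0, 1, 1, 0, 2], [1, 0, 2, 0, 1, 2], 2760, false, false⟩,
  ⟨[24, 24, 66], [0], [1, 1, 2, 0, 2, 0, 1], 2774, false, false⟩,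
  ⟨[54, 24, 35], [0, 1, 1, 0, 2], [1, 0, 2, 0, 1, 2], 2832, false, false⟩,
  ⟨[24, 24, 67], [0], [1, 1, 2, 0, 2, 0, 1], 2847, false, false⟩,
  ⟨[54, 24, 66], [0, 1, 0, 0, 1, 2], [1, 1, 2, 0, 1], 2790, false, false⟩,
  ⟨[54, 24, 67], [0, 1, 0, 0, 1, 2], [1, 1, 2, 0, 1], 2862, false, false⟩,
  ⟨[54, 25, 5], [0, 0, 1, 2, 1, 0], [1, 0, 1, 1, 2], 293, false, false⟩,
  ⟨[54, 25, 17], [0, 0, 1, 2, 1, 0], [1, 0, 1, 1, 2], 305, false, false⟩,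
  ⟨[54, 25, 15], [0, 0, 1, 2, 1, 0], [1, 0, 1, 1, 2], 303, false, false⟩,
  ⟨[54, 26, 15], [0, 0, 1, 2, 1, 0], [1, 0, 1, 1, 2], 2175, false, false⟩,
  ⟨[54, 26, 24], [0, 0, 1, 2, 1, 0], [1, 0, 1, 1, 2], 2184, false, false⟩,
  ⟨[54, 27, 15], [0, 0, 1, 2, 1, 0], [1, 0, 1, 1, 2], 2247, false, false⟩,
  ⟨[54, 27, 24], [0, 0, 1, 2, 1, 0], [1, 0, 1, 1, 2], 2256, false, false⟩,
  ⟨[55, 66, 34], [0, 1, 1, 0, 2], [1, 0, 2, 0, 1, 2], 2874, false, false⟩,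
  ⟨[55, 25, 34], [0, 1, 1, 0, 2], [1, 0, 2, 0, 1, 2], 2833, false, false⟩,
  ⟨[55, 25, 66], [0, 1, 0, 0, 1, 2], [1, 1, 2, 0, 1], 2863, false, false⟩,
  ⟨[55, 27, 25], [0, 0, 1, 2, 1, 0], [1, 0, 1, 1, 2], 2185, false, false⟩,
  ⟨[56, 66, 34], [0, 1, 1, 0, 2], [1, 0, 2, 0, 1, 2], 3378, false, false⟩,
  ⟨[56, 33, 17], [0, 0, 1, 2, 1, 0], [1, 0, 1, 1, 2], 665, false, false⟩,
  ⟨[56, 24, 17], [0, 0, 1, 2, 1, 0], [1, 0, 1, 1, 2], 2177, false, false⟩,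
  ⟨[56, 26, 34], [0, 1, 1, 0, 2], [1, 0, 2, 0, 1, 2], 3338, false, false⟩,
  ⟨[26, 26, 66], [0], [1, 1, 2, 0, 2, 0, 1], 3358, false, false⟩,
  ⟨[56, 26, 24], [0, 1, 1, 0, 2], [1, 0, 2, 0, 1, 2], 2186, false, false⟩,
  ⟨[56, 27, 20], [0, 0, 1, 2, 1, 0], [1, 0, 1, 1, 2], 524, false, false⟩,
  ⟨[56, 27, 26], [0, 0, 1, 2, 1, 0], [1, 0, 1, 1, 2], 530, false, false⟩,
  ⟨[56, 54, 24], [0, 1, 1, 0, 2], [1, 0, 2, 0, 1, 2], 2214, false, false⟩,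
  ⟨[56, 54, 26], [0, 1, 0, 0, 1, 2], [1, 1, 2, 0, 1], 2216, false, false⟩,
  ⟨[24, 24, 56], [0], [1, 1, 2, 0, 2, 0, 1], 2190, false, false⟩,
  ⟨[57, 66, 34], [0, 1, 1, 0, 2], [1, 0, 2, 0, 1, 2], 3450, false, false⟩,
  ⟨[57, 27, 34], [0, 1, 1, 0, 2], [1, 0, 2, 0, 1, 2], 3411, false, false⟩,
  ⟨[57, 27, 66], [0, 1, 0, 0, 1, 2], [1, 1, 2, 0, 1], 3441, false, false⟩,
  ⟨[57, 27, 67], [0, 1, 0, 0, 1, 2], [1, 1, 2, 0, 1], 3369, false, false⟩,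
  ⟨[57, 27, 24], [0, 1, 1, 0, 2], [1, 0, 2, 0, 1, 2], 2259, false, false⟩,
  ⟨[57, 27, 25], [0, 1, 1, 0, 2], [1, 0, 2, 0, 1, 2], 2187, false, false⟩,
  ⟨[57, 27, 26], [0, 1, 1, 0, 2], [1, 0, 2, 0, 1, 2], 531, false, false⟩,
  ⟨[57, 54, 24], [0, 1, 1, 0, 2], [1, 0, 2, 0, 1, 2], 2286, false, false⟩,
  ⟨[57, 54, 27], [0, 1, 0, 0, 1, 2], [1, 1, 2, 0, 1], 2289, false, false⟩,
  ⟨[57, 55, 25], [0, 1, 1, 0, 2], [1, 0, 2, 0, 1, 2], 2215, false, false⟩,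
  ⟨[57, 55, 27], [0, 1, 0, 0, 1, 2], [1, 1, 2, 0, 1], 2217, false, false⟩,
  ⟨[57, 56, 26], [0, 1, 1, 0, 2], [1, 0, 2, 0, 1, 2], 560, false, false⟩,
  ⟨[38, 33, 22], [0, 0, 1, 2, 1, 0], [1, 0, 1, 1, 2], 310, false, false⟩,
  ⟨[38, 26, 66], [0, 1, 0, 0, 1, 2], [1, 1, 2, 0, 1], 3350, false, false⟩,
  ⟨[38, 27, 20], [0, 0, 1, 2, 1, 0], [1, 0, 1, 1, 2], 164, false, false⟩,
  ⟨[38, 27, 15], [0, 0, 1, 2, 1, 0], [1, 0, 1, 1, 2], 159, false, false⟩,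
  ⟨[38, 57, 22], [0, 0, 1, 2, 1, 0], [1, 0, 1, 1, 2], 886, false, false⟩,
  ⟨[38, 57, 17], [0, 0, 1, 2, 1, 0], [1, 0, 1, 1, 2], 881, false, false⟩,
  ⟨[38, 57, 20], [0, 0, 1, 2, 1, 0], [1, 0, 1, 1, 2], 884, false, false⟩,
  ⟨[38, 57, 56], [0, 0, 1, 2, 1, 0], [1, 0, 1, 1, 2], 920, false, false⟩,
  ⟨[39, 27, 67], [0, 1, 0, 0, 1, 2], [1, 1, 2, 0, 1], 3351, false, false⟩,
  ⟨[39, 57, 56], [0, 1, 1, 0, 2], [1, 0, 2, 0, 1, 2], 921, false, false⟩,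
  ⟨[39, 38, 56], [0, 1, 1, 0, 2], [1, 0, 2, 0, 1, 2], 902, false, false⟩,
  ⟨[46, 43, 22], [0, 0, 1, 2, 1, 0], [1, 0, 1, 1, 2], 526, false, false⟩,
  ⟨[46, 25, 17], [0, 0, 1, 2, 1, 0], [1, 0, 1, 1, 2], 161, false, false⟩,
  ⟨[46, 55, 5], [0, 0, 1, 2, 1, 0], [1, 0, 1, 1, 2], 869, false, false⟩,
  ⟨[46, 57, 43], [0, 1, 1, 0, 2], [1, 0, 2, 0, 1, 2], 561, false, false⟩,
  ⟨[46, 39, 55], [0, 1, 1, 0, 2], [1, 0, 2, 0, 1, 2], 903, false, false⟩,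
  ⟨[0, 54, 48], [0, 1, 0, 0, 1], [1, 1, 2, 0, 1, 2], 56, false, false⟩,
  ⟨[0, 54, 49], [0, 1, 0, 0, 1], [1, 1, 2, 0, 1, 2], 57, false, false⟩,
  ⟨[0, 54, 20], [0, 1, 1, 0, 2], [1, 0, 2, 0, 1, 2], 558, false, false⟩,
  ⟨[0, 54, 43], [0, 1, 0, 0, 1, 2], [1, 1, 2, 0, 1], 648, false, false⟩,
  ⟨[0, 0, 22], [0], [1, 1, 2, 0, 2, 0, 1], 657, false, false⟩,
  ⟨[0, 54, 25], [0, 1, 0, 0, 1, 2], [1, 1, 2, 0, 1], 288, false, false⟩,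
  ⟨[0, 0, 17], [0], [1, 1, 2, 0, 2, 0, 1], 292, false, false⟩,
  ⟨[0, 55, 20], [0, 1, 1, 0, 2], [1, 0, 2, 0, 1, 2], 559, false, false⟩,
  ⟨[0, 56, 17], [0, 1, 1, 0, 2], [1, 0, 2, 0, 1, 2], 344, false, false⟩,
  ⟨[0, 56, 15], [0, 1, 1, 0, 2], [1, 0, 2, 0, 1, 2], 200, false, false⟩,
  ⟨[0, 56, 27], [0, 1, 0, 0, 1, 2], [1, 1, 2, 0, 1], 504, false, false⟩,
  ⟨[0, 0, 20], [0], [1, 1, 2, 0, 2, 0, 1], 511, false, false⟩,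
  ⟨[0, 57, 17], [0, 1, 1, 0, 2], [1, 0, 2, 0, 1, 2], 345, false, false⟩,
  ⟨[0, 57, 15], [0, 1, 1, 0, 2], [1, 0, 2, 0, 1, 2], 201, false, false⟩,
  ⟨[0, 38, 27], [0, 1, 0, 0, 1, 2], [1, 1, 2, 0, 1], 144, false, false⟩,
  ⟨[0, 0, 15], [0], [1, 1, 2, 0, 2, 0, 1], 146, false, false⟩,
  ⟨[0, 38, 57], [0, 1, 0, 0, 1, 2], [1, 1, 2, 0, 1], 864, false, false⟩,
  ⟨[0, 46, 22], [0, 1, 1, 0, 2], [1, 0, 2, 0, 1, 2], 694, false, false⟩,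
  ⟨[0, 46, 17], [0, 1, 1, 0, 2], [1, 0, 2, 0, 1, 2], 334, false, false⟩,
  ⟨[0, 47, 22], [0, 1, 1, 0, 2], [1, 0, 2, 0, 1, 2], 695, false, false⟩,
  ⟨[9, 66, 5], [0, 1, 1, 0, 2], [1, 0, 2, 0, 1, 2], 354, false, false⟩,
  ⟨[9, 67, 5], [0, 1, 1, 0, 2], [1, 0, 2, 0, 1, 2], 355, false, false⟩,
  ⟨[9, 24, 48], [0, 1, 0, 0, 1], [1, 1, 2, 0, 1, 2], 674, false, false⟩,
  ⟨[9, 24, 49], [0, 1, 0, 0, 1], [1, 1, 2, 0, 1, 2], 675, false, false⟩,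
  ⟨[9, 24, 10], [0, 1, 1, 0, 2], [1, 0, 2, 0, 1, 2], 528, false, false⟩,
  ⟨[9, 24, 15], [0, 1, 1, 0, 2], [1, 0, 2, 0, 1, 2], 888, false, false⟩,
  ⟨[9, 54, 25], [0, 1, 0, 0, 1, 2], [1, 1, 2, 0, 1], 297, false, false⟩,
  ⟨[9, 54, 26], [0, 1, 0, 0, 1, 2], [1, 1, 2, 0, 1], 2169, false, false⟩,
  ⟨[4, 66, 10], [0, 1, 1, 0, 2], [1, 0, 2, 0, 1, 2], 210, false, false⟩,
  ⟨[4, 67, 10], [0, 1, 1, 0, 2], [1, 0, 2, 0, 1, 2], 211, false, false⟩,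
  ⟨[4, 42, 20], [0, 1, 1, 0, 2], [1, 0, 2, 0, 1, 2], 906, false, false⟩,
  ⟨[4, 54, 26], [0, 1, 0, 0, 1, 2], [1, 1, 2, 0, 1], 2164, false, false⟩,
  ⟨[4, 54, 27], [0, 1, 0, 0, 1, 2], [1, 1, 2, 0, 1], 2236, false, false⟩,
  ⟨[4, 56, 27], [0, 1, 0, 0, 1, 2], [1, 1, 2, 0, 1], 508, false, false⟩,
  ⟨[4, 38, 57], [0, 1, 0, 0, 1, 2], [1, 1, 2, 0, 1], 868, false, false⟩,
  ⟨[7, 38, 57], [0, 1, 0, 0, 1, 2], [1, 1, 2, 0, 1], 871, false, false⟩,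
  ⟨[2, 38, 57], [0, 1, 0, 0, 1, 2], [1, 1, 2, 0, 1], 866, false, false⟩,
  ⟨[2, 2, 22], [0], [1, 1, 2, 0, 2, 0, 1], 876, false, false⟩,
  ⟨[17, 56, 19], [0, 1, 1, 0, 2], [1, 0, 2, 0, 1, 2], 1712, false, false⟩,
  ⟨[17, 57, 19], [0, 1, 1, 0, 2], [1, 0, 2, 0, 1, 2], 1713, false, false⟩,
  ⟨[23, 40, 56], [0, 1, 0, 0, 1, 2], [1, 1, 2, 0, 1], 3911, false, false⟩,
  ⟨[23, 40, 57], [0, 1, 0, 0, 1, 2], [1, 1, 2, 0, 1], 3983, false, false⟩,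
  ⟨[64, 42, 28], [0, 0, 1, 2, 1, 0], [1, 0, 1, 1, 2], 3772, false, false⟩,
  ⟨[64, 42, 19], [0, 0, 1, 2, 1, 0], [1, 0, 1, 1, 2], 3763, false, false⟩,
  ⟨[64, 43, 28], [0, 0, 1, 2, 1, 0], [1, 0, 1, 1, 2], 3844, false, false⟩,
  ⟨[64, 43, 19], [0, 0, 1, 2, 1, 0], [1, 0, 1, 1, 2], 3835, false, false⟩,
  ⟨[64, 17, 19], [0, 1, 0, 0, 1], [1, 1, 2, 0, 1, 2], 4631, false, false⟩,
  ⟨[64, 17, 56], [0, 1, 1, 0, 2], [1, 0, 2, 0, 1, 2], 5057, false, false⟩,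
  ⟨[64, 17, 57], [0, 1, 1, 0, 2], [1, 0, 2, 0, 1, 2], 5129, false, false⟩,
  ⟨[65, 42, 29], [0, 0, 1, 2, 1, 0], [1, 0, 1, 1, 2], 3845, false, false⟩,
  ⟨[65, 17, 19], [0, 1, 0, 0, 1], [1, 1, 2, 0, 1, 2], 4703, false, false⟩,
  ⟨[11, 64, 42], [0, 1, 0, 0, 1, 2], [1, 1, 2, 0, 1], 3755, false, false⟩,
  ⟨[11, 64, 43], [0, 1, 0, 0, 1, 2], [1, 1, 2, 0, 1], 3827, false, false⟩,
  ⟨[54, 42, 28], [0, 1, 1, 0, 2], [1, 0, 2, 0, 1, 2], 2346, false, false⟩,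
  ⟨[54, 42, 29], [0, 1, 1, 0, 2], [1, 0, 2, 0, 1, 2], 2418, false, false⟩,
  ⟨[54, 40, 28], [0, 1, 1, 0, 2], [1, 0, 2, 0, 1, 2], 2344, false, false⟩,
  ⟨[54, 41, 29], [0, 1, 1, 0, 2], [1, 0, 2, 0, 1, 2], 2417, false, false⟩,
  ⟨[54, 64, 17], [0, 0, 1, 2, 1, 0], [1, 0, 1, 1, 2], 4913, false, false⟩,
  ⟨[54, 64, 40], [0, 0, 1, 2, 1, 0], [1, 0, 1, 1, 2], 4936, false, false⟩,
  ⟨[54, 65, 17], [0, 0, 1, 2, 1, 0], [1, 0, 1, 1, 2], 4985, false, false⟩,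
  ⟨[54, 65, 41], [0, 0, 1, 2, 1, 0], [1, 0, 1, 1, 2], 5009, false, false⟩,
  ⟨[55, 43, 28], [0, 1, 1, 0, 2], [1, 0, 2, 0, 1, 2], 2419, false, false⟩,
  ⟨[55, 40, 28], [0, 1, 1, 0, 2], [1, 0, 2, 0, 1, 2], 2416, false, false⟩,
  ⟨[55, 64, 40], [0, 0, 1, 2, 1, 0], [1, 0, 1, 1, 2], 5008, false, false⟩,
  ⟨[32, 64, 40], [0, 0, 1, 2, 1, 0], [1, 0, 1, 1, 2], 3640, false, false⟩,
  ⟨[32, 64, 3], [0, 0, 1, 2, 1, 0], [1, 0, 1, 1, 2], 3603, false, false⟩,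
  ⟨[33, 64, 40], [0, 0, 1, 2, 1, 0], [1, 0, 1, 1, 2], 3712, false, false⟩,
  ⟨[33, 65, 41], [0, 0, 1, 2, 1, 0], [1, 0, 1, 1, 2], 3641, false, false⟩,
  ⟨[70, 64, 42], [0, 1, 0, 0, 1, 2], [1, 1, 2, 0, 1], 3814, false, false⟩,
  ⟨[28, 28, 70], [0], [1, 1, 2, 0, 2, 0, 1], 3796, false, false⟩,
  ⟨[70, 65, 42], [0, 1, 0, 0, 1, 2], [1, 1, 2, 0, 1], 3886, false, false⟩,
  ⟨[70, 11, 43], [0, 1, 1, 0, 2], [1, 0, 2, 0, 1, 2], 1307, false, false⟩,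
  ⟨[70, 11, 17], [0, 1, 0, 0, 1, 2], [1, 1, 2, 0, 1], 1222, false, false⟩,
  ⟨[70, 54, 64], [0, 1, 0, 0, 1, 2], [1, 1, 2, 0, 1], 4966, false, false⟩,
  ⟨[40, 40, 70], [0], [1, 1, 2, 0, 2, 0, 1], 4964, false, false⟩,
  ⟨[70, 54, 65], [0, 1, 0, 0, 1, 2], [1, 1, 2, 0, 1], 5038, false, false⟩,
  ⟨[70, 55, 17], [0, 0, 1, 2, 1, 0], [1, 0, 1, 1, 2], 1601, false, false⟩,
  ⟨[70, 32, 56], [0, 0, 1, 2, 1, 0], [1, 0, 1, 1, 2], 4232, false, false⟩,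
  ⟨[70, 32, 17], [0, 0, 1, 2, 1, 0], [1, 0, 1, 1, 2], 4193, false, false⟩,
  ⟨[70, 32, 11], [0, 0, 1, 2, 1, 0], [1, 0, 1, 1, 2], 4187, false, false⟩,
  ⟨[70, 33, 57], [0, 0, 1, 2, 1, 0], [1, 0, 1, 1, 2], 4305, false, false⟩,
  ⟨[70, 33, 17], [0, 0, 1, 2, 1, 0], [1, 0, 1, 1, 2], 4265, false, false⟩,
  ⟨[70, 33, 11], [0, 0, 1, 2, 1, 0], [1, 0, 1, 1, 2], 4259, false, false⟩,
  ⟨[71, 64, 43], [0, 1, 0, 0, 1, 2], [1, 1, 2, 0, 1], 3887, false, false⟩,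
  ⟨[28, 28, 71], [0], [1, 1, 2, 0, 2, 0, 1], 3869, false, false⟩,
  ⟨[71, 11, 17], [0, 1, 0, 0, 1, 2], [1, 1, 2, 0, 1], 1223, false, false⟩,
  ⟨[71, 55, 64], [0, 1, 0, 0, 1, 2], [1, 1, 2, 0, 1], 5039, false, false⟩,
  ⟨[40, 40, 71], [0], [1, 1, 2, 0, 2, 0, 1], 5037, false, false⟩,
  ⟨[71, 33, 57], [0, 0, 1, 2, 1, 0], [1, 0, 1, 1, 2], 4233, false, false⟩,
  ⟨[52, 23, 3], [0, 1, 0, 0, 1, 2], [1, 1, 2, 0, 1], 1204, false, false⟩,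
  ⟨[52, 32, 64], [0, 1, 0, 0, 1, 2], [1, 1, 2, 0, 1], 3652, false, false⟩,
  ⟨[52, 32, 54], [0, 1, 1, 0, 2], [1, 0, 2, 0, 1, 2], 4208, false, false⟩]

/-- masks before -/
def stA3 : ℕ × ℕ × ℕ := (0xa48421000000a880007ccc33000000a88000133cc0000000a00800011440000000a00800248040000000a8800030c0c0000000a88000010000000000014000000000000000014000000000000000000000000000000000000400001000000000804000000000000000804002200460040000a800003000f00c0000a800000c0cc3cc00c0a88040040441440040a8804000004000000000800000000000000000800003001f0c000000000001000504000000000021040c002210a24000330c04003330a24912008021400000a8000030c030800000a8000000000000000000000000000000000000844001002000040800040003c033101c1c084c08000000000000000000000000000000000040000000000000000000c0004000420000000040000000400000000040000000000000000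043300c002c3300080241100400141100082200000050a000000000f00000f0f000000400400cc0000333000800400440000111000800000000448200000000f00000ccc300000080000000000000000100f0003c34131f0001494504010100000000004504000100000040000000000000000000003fcf3301ffc500001230c0c00000002080003c0cf1400000e80200330cd0000300a001000cc001c00000a8840003c013443010a905403c0c31cc0000a80240303cc000d200a24010333ccc033020a3693a00000000000000000003c03c00701c490424333ccc030310a209303c00c1c0000080860003c03f31303d284d2b00c023f48c0c0840a50c0cc3080040a000000004040c00108000000c0033440040888640030015140010c84dcd33300cc3ff11824c32000040034741800182333cc401f313e3697b000000503111c044d803c01654c7d1bb4fff000000135c007bcc20, 0x0, 0x0)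

/-- masks after -/
def stB3 : ℕ × ℕ × ℕ := (0xe48421000000aa90007ccc33000000aa9000f33cc0030000a20800511440010000a20800248040000000aa800030c0c0000000aa8000010000000000814000000000000000814000000000000000000000000000000000000400001000000000804000000000000000804002200660040000aa08003003f00c0100aa0800cc0fc3cc00c0f89040440541440040f890c0000040000000c28020000000000000c28000c3003f0c003008080041001504001008080021040c012210a24000330c14033330a2491a008021400000a8000030c030800000a8000004020000040800000004020340c00410844001002000040800040003c033101c1c084c08000000000000000000000000000000400040000000000000000000c000400042000000004c00c000cc0300000044004000440100802043300c002c3300080241100400141100082200000050a000000000f00000f0f000000400400cc00f0333000800400440050111000800000240448209008010f003c0ccc34f028290000000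000000000100f0003c34131f0001494504010100001000004504000100001040000000000000000000003fcf3301ffc500001230c3c0000000208000fccff3440000ea9280330cd0000300a00100fccff3cc0000fc968003c013443010a90540fccff3cc00c0ec1ec0303cc000d200a24010f33cdc033020a3693a0c000000040012042003c03c00701c490424333ccc030310a209303c0fc3c4c001d296b503c03f31303d284d2b00c023f48c0c0840a50c0cc3c8024ce202010004040c0010800000cc0ff344004dd896d1030015140010c84dcd33300cc3ff11824c320c0340434741c283b3333cc401f313e3697b0c0300503111d2c4dd03c01654c7d1bb4fff000300135c007bcc20, 0x0, 0x0)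

theorem chain3_ok : (chainOK tab steps3 stA3.1 stA3.2.1 stA3.2.2 &&
    (learnAll steps3 stA3 == stB3) && (stA3.2.1 ||| stA3.1 == stA3.1) &&
    (stA3.2.2 ||| stA3.1 == stA3.1)) = true := by decide +kernel

theorem run3 {P : Type*} [Group P] (S : Sys tab P) {g h : Subgroup.center P} (hg : g * g = 1) (hh : h * h = 1)
    (H : S.Holds g h stA3.1 stA3.2.1 stA3.2.2) : S.Holds g h stB3.1 stB3.2.1 stB3.2.2 := by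
  have h' := chain3_ok
  simp only [Bool.and_eq_true, beq_iff_eq] at h'
  rw [← h'.1.1.2]
  exact S.chain_spec hg hh steps3 _ _ _ H h'.1.2 h'.2 h'.1.1.1

end CfsgLib.Lie.MultExc.TwESixTwo
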