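import Cfsg.Agent.Lib.Lie.MultExc.TwESixTwo.Table

/-!
Deductions of the central corrections, part 4.
-/

set_option autoImplicit false
set_option maxRecDepth 100000
set_option maxHeartbeats 0

open scoped IsMulCommutative

namespace CfsgLib.Lie.MultExc.TwESixTwo

/-- deductions -/
def steps4 : List Step := [
  ⟨[52, 33, 3], [0, 0, 1, 2, 1, 0], [1, 0, 1, 1, 2], 579, false, false⟩,
  ⟨[52, 33, 11], [0, 0, 1, 2, 1, 0], [1, 0, 1, 1, 2], 587, false, false⟩,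
  ⟨[52, 33, 32], [0, 0, 1, 2, 1, 0], [1, 0, 1, 1, 2], 608, false, false⟩,
  ⟨[52, 70, 54], [0, 1, 1, 0, 2], [1, 0, 2, 0, 1, 2], 4246, false, false⟩,
  ⟨[32, 32, 70], [0], [1, 1, 2, 0, 2, 0, 1], 4234, false, false⟩,
  ⟨[53, 23, 3], [0, 1, 0, 0, 1, 2], [1, 1, 2, 0, 1], 1205, false, false⟩,
  ⟨[53, 33, 64], [0, 1, 0, 0, 1, 2], [1, 1, 2, 0, 1], 3725, false, false⟩,
  ⟨[53, 33, 65], [0, 1, 0, 0, 1, 2], [1, 1, 2, 0, 1], 3653, false, false⟩,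
  ⟨[53, 33, 54], [0, 1, 1, 0, 2], [1, 0, 2, 0, 1, 2], 4281, false, false⟩,
  ⟨[53, 33, 55], [0, 1, 1, 0, 2], [1, 0, 2, 0, 1, 2], 4209, false, false⟩,
  ⟨[53, 33, 32], [0, 1, 1, 0, 2], [1, 0, 2, 0, 1, 2], 609, false, false⟩,
  ⟨[53, 70, 54], [0, 1, 1, 0, 2], [1, 0, 2, 0, 1, 2], 4318, false, false⟩,
  ⟨[33, 33, 70], [0], [1, 1, 2, 0, 2, 0, 1], 4307, false, false⟩,
  ⟨[53, 71, 55], [0, 1, 1, 0, 2], [1, 0, 2, 0, 1, 2], 4247, false, false⟩,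
  ⟨[53, 52, 32], [0, 1, 1, 0, 2], [1, 0, 2, 0, 1, 2], 628, false, false⟩,
  ⟨[16, 54, 64], [0, 1, 0, 0, 1, 2], [1, 1, 2, 0, 1], 4912, false, false⟩,
  ⟨[16, 54, 65], [0, 1, 0, 0, 1, 2], [1, 1, 2, 0, 1], 4984, false, false⟩,
  ⟨[16, 32, 64], [0, 1, 0, 0, 1, 2], [1, 1, 2, 0, 1], 3616, false, false⟩,
  ⟨[16, 33, 64], [0, 1, 0, 0, 1, 2], [1, 1, 2, 0, 1], 3688, false, false⟩,
  ⟨[16, 70, 55], [0, 1, 0, 0, 1, 2], [1, 1, 2, 0, 1], 1600, false, false⟩,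
  ⟨[16, 70, 32], [0, 1, 0, 0, 1, 2], [1, 1, 2, 0, 1], 4192, false, false⟩,
  ⟨[16, 70, 33], [0, 1, 0, 0, 1, 2], [1, 1, 2, 0, 1], 4264, false, false⟩,
  ⟨[16, 52, 33], [0, 1, 0, 0, 1, 2], [1, 1, 2, 0, 1], 592, false, false⟩,
  ⟨[9, 19, 28], [0, 0, 1, 2, 1, 0], [1, 0, 1, 1, 2], 1324, false, false⟩,
  ⟨[9, 70, 40], [0, 1, 0, 0, 1, 2], [1, 1, 2, 0, 1], 4905, false, false⟩,
  ⟨[9, 70, 41], [0, 1, 0, 0, 1, 2], [1, 1, 2, 0, 1], 4977, false, false⟩,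
  ⟨[9, 70, 11], [0, 1, 1, 0, 2], [1, 0, 2, 0, 1, 2], 646, false, false⟩,
  ⟨[9, 70, 32], [0, 1, 0, 0, 1, 2], [1, 1, 2, 0, 1], 4185, false, false⟩,
  ⟨[9, 70, 33], [0, 1, 0, 0, 1, 2], [1, 1, 2, 0, 1], 4257, false, false⟩,
  ⟨[9, 71, 11], [0, 1, 1, 0, 2], [1, 0, 2, 0, 1, 2], 647, false, false⟩,
  ⟨[9, 52, 40], [0, 1, 0, 0, 1, 2], [1, 1, 2, 0, 1], 3609, false, false⟩,
  ⟨[9, 52, 33], [0, 1, 0, 0, 1, 2], [1, 1, 2, 0, 1], 585, false, false⟩,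
  ⟨[9, 53, 40], [0, 1, 0, 0, 1, 2], [1, 1, 2, 0, 1], 3681, false, false⟩,
  ⟨[9, 53, 11], [0, 1, 1, 0, 2], [1, 0, 2, 0, 1, 2], 629, false, false⟩,
  ⟨[9, 16, 3], [0, 0, 1, 2, 1, 0], [1, 0, 1, 1, 2], 939, false, false⟩,
  ⟨[9, 16, 70], [0, 0, 1, 2, 1, 0], [1, 0, 1, 1, 2], 1006, false, false⟩,
  ⟨[9, 16, 71], [0, 0, 1, 2, 1, 0], [1, 0, 1, 1, 2], 1007, false, false⟩,
  ⟨[9, 16, 52], [0, 0, 1, 2, 1, 0], [1, 0, 1, 1, 2], 988, false, false⟩,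
  ⟨[9, 16, 53], [0, 0, 1, 2, 1, 0], [1, 0, 1, 1, 2], 989, false, false⟩,
  ⟨[18, 64, 17], [0, 1, 1, 0, 2], [1, 0, 2, 0, 1, 2], 1648, false, false⟩,
  ⟨[18, 65, 17], [0, 1, 1, 0, 2], [1, 0, 2, 0, 1, 2], 1649, false, false⟩,
  ⟨[18, 54, 28], [0, 1, 0, 0, 1], [1, 1, 2, 0, 1, 2], 1328, false, false⟩,
  ⟨[18, 54, 29], [0, 1, 0, 0, 1], [1, 1, 2, 0, 1, 2], 1329, false, false⟩,
  ⟨[18, 54, 3], [0, 1, 1, 0, 2], [1, 0, 2, 0, 1, 2], 630, false, false⟩,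
  ⟨[18, 54, 64], [0, 1, 0, 0, 1, 2], [1, 1, 2, 0, 1], 4914, false, false⟩,
  ⟨[18, 54, 65], [0, 1, 0, 0, 1, 2], [1, 1, 2, 0, 1], 4986, false, false⟩,
  ⟨[18, 55, 3], [0, 1, 1, 0, 2], [1, 0, 2, 0, 1, 2], 631, false, false⟩,
  ⟨[18, 32, 17], [0, 1, 1, 0, 2], [1, 0, 2, 0, 1, 2], 1616, false, false⟩,
  ⟨[18, 32, 64], [0, 1, 0, 0, 1, 2], [1, 1, 2, 0, 1], 3618, false, false⟩,
  ⟨[18, 33, 64], [0, 1, 0, 0, 1, 2], [1, 1, 2, 0, 1], 3690, false, false⟩,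
  ⟨[18, 70, 55], [0, 1, 0, 0, 1, 2], [1, 1, 2, 0, 1], 1602, false, false⟩,
  ⟨[18, 70, 32], [0, 1, 0, 0, 1, 2], [1, 1, 2, 0, 1], 4194, false, false⟩,
  ⟨[18, 70, 33], [0, 1, 0, 0, 1, 2], [1, 1, 2, 0, 1], 4266, false, false⟩,
  ⟨[18, 52, 33], [0, 1, 0, 0, 1, 2], [1, 1, 2, 0, 1], 594, false, false⟩,
  ⟨[18, 16, 28], [0, 0, 1, 2, 1, 0], [1, 0, 1, 1, 2], 1540, false, false⟩,
  ⟨[18, 16, 19], [0, 0, 1, 2, 1, 0], [1, 0, 1, 1, 2], 1531, false, false⟩,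
  ⟨[18, 16, 11], [0, 0, 1, 2, 1, 0], [1, 0, 1, 1, 2], 1523, false, false⟩,
  ⟨[18, 16, 70], [0, 0, 1, 2, 1, 0], [1, 0, 1, 1, 2], 1582, false, false⟩,
  ⟨[18, 16, 71], [0, 0, 1, 2, 1, 0], [1, 0, 1, 1, 2], 1583, false, false⟩,
  ⟨[68, 19, 28], [0, 1, 1, 0, 2], [1, 0, 2, 0, 1, 2], 3619, false, false⟩,
  ⟨[68, 53, 3], [0, 0, 1, 2, 1, 0], [1, 0, 1, 1, 2], 1515, false, false⟩,
  ⟨[68, 16, 33], [0, 1, 1, 0, 2], [1, 0, 2, 0, 1, 2], 952, false, false⟩,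
  ⟨[68, 16, 53], [0, 1, 1, 0, 2], [1, 0, 2, 0, 1, 2], 1528, false, false⟩,
  ⟨[68, 9, 11], [0, 1, 0, 0, 1, 2], [1, 1, 2, 0, 1], 644, false, false⟩,
  ⟨[68, 9, 33], [0, 1, 1, 0, 2], [1, 0, 2, 0, 1, 2], 945, false, false⟩,
  ⟨[68, 9, 53], [0, 1, 1, 0, 2], [1, 0, 2, 0, 1, 2], 1521, false, false⟩,
  ⟨[68, 18, 33], [0, 1, 1, 0, 2], [1, 0, 2, 0, 1, 2], 954, false, false⟩,
  ⟨[68, 18, 53], [0, 1, 1, 0, 2], [1, 0, 2, 0, 1, 2], 1530, false, false⟩,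
  ⟨[69, 19, 28], [0, 1, 1, 0, 2], [1, 0, 2, 0, 1, 2], 3691, false, false⟩,
  ⟨[69, 9, 11], [0, 1, 0, 0, 1, 2], [1, 1, 2, 0, 1], 645, false, false⟩,
  ⟨[50, 43, 19], [0, 0, 1, 2, 1, 0], [1, 0, 1, 1, 2], 595, false, false⟩,
  ⟨[50, 70, 32], [0, 1, 0, 0, 1, 2], [1, 1, 2, 0, 1], 4226, false, false⟩,
  ⟨[50, 70, 33], [0, 1, 0, 0, 1, 2], [1, 1, 2, 0, 1], 4298, false, false⟩,
  ⟨[50, 71, 17], [0, 0, 1, 2, 1, 0], [1, 0, 1, 1, 2], 1529, false, false⟩,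
  ⟨[50, 9, 23], [0, 1, 0, 0, 1, 2], [1, 1, 2, 0, 1], 1634, false, false⟩,
  ⟨[51, 71, 33], [0, 1, 0, 0, 1, 2], [1, 1, 2, 0, 1], 4227, false, false⟩,
  ⟨[51, 9, 23], [0, 1, 0, 0, 1, 2], [1, 1, 2, 0, 1], 1635, false, false⟩,
  ⟨[51, 50, 70], [0, 1, 1, 0, 2], [1, 0, 2, 0, 1, 2], 1562, false, false⟩,
  ⟨[22, 3, 42], [0, 0, 1, 2, 1, 0], [1, 0, 1, 1, 2], 978, false, false⟩,
  ⟨[22, 3, 43], [0, 0, 1, 2, 1, 0], [1, 0, 1, 1, 2], 979, false, false⟩,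
  ⟨[22, 11, 43], [0, 0, 1, 2, 1, 0], [1, 0, 1, 1, 2], 1555, false, false⟩,
  ⟨[22, 11, 40], [0, 0, 1, 2, 1, 0], [1, 0, 1, 1, 2], 1552, false, false⟩,
  ⟨[22, 70, 32], [0, 1, 0, 0, 1, 2], [1, 1, 2, 0, 1], 4198, false, false⟩,
  ⟨[22, 70, 33], [0, 1, 0, 0, 1, 2], [1, 1, 2, 0, 1], 4270, false, false⟩,
  ⟨[22, 52, 33], [0, 1, 0, 0, 1, 2], [1, 1, 2, 0, 1], 598, false, false⟩,
  ⟨[22, 9, 16], [0, 1, 0, 0, 1, 2], [1, 1, 2, 0, 1], 958, false, false⟩,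
  ⟨[3, 3, 22], [0], [1, 1, 2, 0, 2, 0, 1], 949, false, false⟩,
  ⟨[22, 18, 16], [0, 1, 0, 0, 1, 2], [1, 1, 2, 0, 1], 1534, false, false⟩,
  ⟨[22, 51, 11], [0, 1, 1, 0, 2], [1, 0, 2, 0, 1, 2], 1563, false, false⟩,
  ⟨[8, 17, 56], [0, 0, 1, 2, 1, 0], [1, 0, 1, 1, 2], 992, false, false⟩,
  ⟨[8, 17, 57], [0, 0, 1, 2, 1, 0], [1, 0, 1, 1, 2], 993, false, false⟩,
  ⟨[8, 23, 56], [0, 0, 1, 2, 1, 0], [1, 0, 1, 1, 2], 1568, false, false⟩,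
  ⟨[8, 23, 57], [0, 0, 1, 2, 1, 0], [1, 0, 1, 1, 2], 1569, false, false⟩,
  ⟨[13, 18, 16], [0, 1, 0, 0, 1, 2], [1, 1, 2, 0, 1], 1525, false, false⟩,
  ⟨[64, 67, 66], [0, 0, 1, 2, 1, 0], [1, 0, 1, 1, 2], 1722, false, false⟩,
  ⟨[65, 67, 66], [0, 1, 1, 0, 2], [1, 0, 2, 0, 1, 2], 1723, false, false⟩,
  ⟨[65, 64, 66], [0, 1, 1, 0, 2], [1, 0, 2, 0, 1, 2], 1720, false, false⟩,
  ⟨[38, 64, 66], [0, 0, 1, 2, 1, 0], [1, 0, 1, 1, 2], 4386, false, false⟩,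
  ⟨[39, 64, 66], [0, 0, 1, 2, 1, 0], [1, 0, 1, 1, 2], 4458, false, false⟩,
  ⟨[39, 65, 67], [0, 0, 1, 2, 1, 0], [1, 0, 1, 1, 2], 4387, false, false⟩,
  ⟨[36, 64, 66], [0, 1, 1, 0, 2], [1, 0, 2, 0, 1, 2], 4384, false, false⟩,
  ⟨[36, 38, 66], [0, 1, 1, 0, 2], [1, 0, 2, 0, 1, 2], 4358, false, false⟩,
  ⟨[36, 38, 64], [0, 1, 0, 0, 1, 2], [1, 1, 2, 0, 1], 4356, false, false⟩,
  ⟨[37, 64, 66], [0, 1, 1, 0, 2], [1, 0, 2, 0, 1, 2], 4456, false, false⟩,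
  ⟨[37, 65, 67], [0, 1, 1, 0, 2], [1, 0, 2, 0, 1, 2], 4385, false, false⟩,
  ⟨[37, 39, 64], [0, 1, 0, 0, 1, 2], [1, 1, 2, 0, 1], 4429, false, false⟩,
  ⟨[37, 39, 65], [0, 1, 0, 0, 1, 2], [1, 1, 2, 0, 1], 4357, false, false⟩,
  ⟨[6, 23, 11], [0, 0, 1, 2, 1, 0], [1, 0, 1, 1, 2], 1379, false, false⟩,
  ⟨[48, 38, 23], [0, 0, 1, 2, 1, 0], [1, 0, 1, 1, 2], 3335, false, false⟩,
  ⟨[48, 7, 38], [0, 1, 1, 0, 2], [1, 0, 2, 0, 1, 2], 3319, false, false⟩,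
  ⟨[48, 36, 23], [0, 0, 1, 2, 1, 0], [1, 0, 1, 1, 2], 3191, false, false⟩,
  ⟨[48, 37, 23], [0, 0, 1, 2, 1, 0], [1, 0, 1, 1, 2], 3263, false, false⟩,
  ⟨[48, 60, 66], [0, 0, 1, 2, 1, 0], [1, 0, 1, 1, 2], 4530, false, false⟩,
  ⟨[48, 60, 64], [0, 0, 1, 2, 1, 0], [1, 0, 1, 1, 2], 4528, false, false⟩,
  ⟨[48, 60, 23], [0, 0, 1, 2, 1, 0], [1, 0, 1, 1, 2], 4487, false, false⟩,
  ⟨[48, 61, 66], [0, 0, 1, 2, 1, 0], [1, 0, 1, 1, 2], 4602, false, false⟩,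
  ⟨[48, 61, 64], [0, 0, 1, 2, 1, 0], [1, 0, 1, 1, 2], 4600, false, false⟩,
  ⟨[48, 61, 23], [0, 0, 1, 2, 1, 0], [1, 0, 1, 1, 2], 4559, false, false⟩,
  ⟨[48, 6, 36], [0, 1, 1, 0, 2], [1, 0, 2, 0, 1, 2], 3174, false, false⟩,
  ⟨[49, 60, 67], [0, 0, 1, 2, 1, 0], [1, 0, 1, 1, 2], 4603, false, false⟩,
  ⟨[49, 60, 65], [0, 0, 1, 2, 1, 0], [1, 0, 1, 1, 2], 4601, false, false⟩,
  ⟨[20, 38, 64], [0, 1, 0, 0, 1], [1, 1, 2, 0, 1, 2], 1500, false, false⟩,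
  ⟨[20, 39, 64], [0, 1, 0, 0, 1], [1, 1, 2, 0, 1, 2], 1501, false, false⟩,
  ⟨[20, 60, 11], [0, 1, 1, 0, 2], [1, 0, 2, 0, 1, 2], 1428, false, false⟩,
  ⟨[20, 61, 11], [0, 1, 1, 0, 2], [1, 0, 2, 0, 1, 2], 1429, false, false⟩,
  ⟨[20, 6, 23], [0, 1, 0, 0, 1, 2], [1, 1, 2, 0, 1], 1388, false, false⟩,
  ⟨[20, 48, 60], [0, 1, 0, 0, 1, 2], [1, 1, 2, 0, 1], 4484, false, false⟩,
  ⟨[20, 48, 61], [0, 1, 0, 0, 1, 2], [1, 1, 2, 0, 1], 4556, false, false⟩,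
  ⟨[5, 20, 64], [0, 0, 1, 2, 1, 0], [1, 0, 1, 1, 2], 1144, false, false⟩,
  ⟨[5, 20, 65], [0, 0, 1, 2, 1, 0], [1, 0, 1, 1, 2], 1145, false, false⟩,
  ⟨[5, 20, 23], [0, 0, 1, 2, 1, 0], [1, 0, 1, 1, 2], 1103, false, false⟩,
  ⟨[5, 20, 38], [0, 0, 1, 2, 1, 0], [1, 0, 1, 1, 2], 1118, false, false⟩,
  ⟨[5, 20, 39], [0, 0, 1, 2, 1, 0], [1, 0, 1, 1, 2], 1119, false, false⟩,
  ⟨[5, 20, 60], [0, 0, 1, 2, 1, 0], [1, 0, 1, 1, 2], 1140, false, false⟩,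
  ⟨[5, 20, 61], [0, 0, 1, 2, 1, 0], [1, 0, 1, 1, 2], 1141, false, false⟩,
  ⟨[19, 48, 60], [0, 1, 0, 0, 1, 2], [1, 1, 2, 0, 1], 4483, false, false⟩,
  ⟨[19, 48, 61], [0, 1, 0, 0, 1, 2], [1, 1, 2, 0, 1], 4555, false, false⟩,
  ⟨[19, 5, 66], [0, 0, 1, 2, 1, 0], [1, 0, 1, 1, 2], 1074, false, false⟩,
  ⟨[19, 5, 67], [0, 0, 1, 2, 1, 0], [1, 0, 1, 1, 2], 1075, false, false⟩,
  ⟨[19, 5, 11], [0, 0, 1, 2, 1, 0], [1, 0, 1, 1, 2], 1019, false, false⟩,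
  ⟨[19, 5, 23], [0, 0, 1, 2, 1, 0], [1, 0, 1, 1, 2], 1031, false, false⟩,
  ⟨[19, 5, 60], [0, 0, 1, 2, 1, 0], [1, 0, 1, 1, 2], 1068, false, false⟩,
  ⟨[19, 5, 61], [0, 0, 1, 2, 1, 0], [1, 0, 1, 1, 2], 1069, false, false⟩,
  ⟨[26, 60, 24], [0, 0, 1, 2, 1, 0], [1, 0, 1, 1, 2], 2472, false, false⟩,
  ⟨[26, 20, 60], [0, 1, 1, 0, 2], [1, 0, 2, 0, 1, 2], 2468, false, false⟩,
  ⟨[26, 19, 60], [0, 1, 1, 0, 2], [1, 0, 2, 0, 1, 2], 2467, false, false⟩,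
  ⟨[27, 60, 24], [0, 0, 1, 2, 1, 0], [1, 0, 1, 1, 2], 2544, false, false⟩,
  ⟨[27, 20, 60], [0, 1, 1, 0, 2], [1, 0, 2, 0, 1, 2], 2540, false, false⟩,
  ⟨[27, 19, 60], [0, 1, 1, 0, 2], [1, 0, 2, 0, 1, 2], 2539, false, false⟩,
  ⟨[46, 60, 64], [0, 1, 1, 0, 2], [1, 0, 2, 0, 1, 2], 4524, false, false⟩,
  ⟨[46, 60, 65], [0, 1, 1, 0, 2], [1, 0, 2, 0, 1, 2], 4596, false, false⟩,
  ⟨[46, 60, 36], [0, 1, 1, 0, 2], [1, 0, 2, 0, 1, 2], 2508, false, false⟩,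
  ⟨[46, 60, 37], [0, 1, 1, 0, 2], [1, 0, 2, 0, 1, 2], 2580, false, false⟩,
  ⟨[46, 6, 64], [0, 1, 1, 0, 2], [1, 0, 2, 0, 1, 2], 4470, false, false⟩,
  ⟨[46, 6, 65], [0, 1, 1, 0, 2], [1, 0, 2, 0, 1, 2], 4542, false, false⟩,
  ⟨[46, 6, 36], [0, 1, 1, 0, 2], [1, 0, 2, 0, 1, 2], 2454, false, false⟩,
  ⟨[46, 6, 37], [0, 1, 1, 0, 2], [1, 0, 2, 0, 1, 2], 2526, false, false⟩,
  ⟨[46, 48, 64], [0, 1, 1, 0, 2], [1, 0, 2, 0, 1, 2], 4512, false, false⟩,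
  ⟨[46, 48, 60], [0, 1, 0, 0, 1, 2], [1, 1, 2, 0, 1], 4510, false, false⟩,
  ⟨[46, 49, 65], [0, 1, 1, 0, 2], [1, 0, 2, 0, 1, 2], 4585, false, false⟩,
  ⟨[46, 49, 60], [0, 1, 0, 0, 1, 2], [1, 1, 2, 0, 1], 4582, false, false⟩,
  ⟨[46, 19, 61], [0, 1, 1, 0, 2], [1, 0, 2, 0, 1, 2], 1099, false, false⟩,
  ⟨[46, 19, 5], [0, 1, 0, 0, 1, 2], [1, 1, 2, 0, 1], 1054, false, false⟩,
  ⟨[46, 26, 36], [0, 1, 1, 0, 2], [1, 0, 2, 0, 1, 2], 2474, false, false⟩,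
  ⟨[46, 27, 37], [0, 1, 1, 0, 2], [1, 0, 2, 0, 1, 2], 2547, false, false⟩,
  ⟨[47, 61, 64], [0, 1, 1, 0, 2], [1, 0, 2, 0, 1, 2], 4597, false, false⟩,
  ⟨[47, 61, 37], [0, 1, 1, 0, 2], [1, 0, 2, 0, 1, 2], 2509, false, false⟩,
  ⟨[47, 48, 64], [0, 1, 1, 0, 2], [1, 0, 2, 0, 1, 2], 4584, false, false⟩,
  ⟨[47, 48, 61], [0, 1, 0, 0, 1, 2], [1, 1, 2, 0, 1], 4583, false, false⟩,
  ⟨[47, 27, 37], [0, 1, 1, 0, 2], [1, 0, 2, 0, 1, 2], 2475, false, false⟩,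
  ⟨[47, 46, 60], [0, 1, 1, 0, 2], [1, 0, 2, 0, 1, 2], 1126, false, false⟩,
  ⟨[44, 48, 60], [0, 1, 0, 0, 1, 2], [1, 1, 2, 0, 1], 4508, false, false⟩,
  ⟨[44, 49, 60], [0, 1, 0, 0, 1, 2], [1, 1, 2, 0, 1], 4580, false, false⟩,
  ⟨[44, 20, 61], [0, 1, 1, 0, 2], [1, 0, 2, 0, 1, 2], 1028, false, false⟩,
  ⟨[44, 47, 23], [0, 0, 1, 2, 1, 0], [1, 0, 1, 1, 2], 743, false, false⟩,
  ⟨[44, 47, 6], [0, 0, 1, 2, 1, 0], [1, 0, 1, 1, 2], 726, false, false⟩,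
  ⟨[44, 47, 20], [0, 0, 1, 2, 1, 0], [1, 0, 1, 1, 2], 740, false, false⟩,
  ⟨[45, 48, 61], [0, 1, 0, 0, 1, 2], [1, 1, 2, 0, 1], 4581, false, false⟩,
  ⟨[45, 44, 60], [0, 1, 1, 0, 2], [1, 0, 2, 0, 1, 2], 1052, false, false⟩,
  ⟨[62, 7, 39], [0, 1, 1, 0, 2], [1, 0, 2, 0, 1, 2], 1087, false, false⟩,
  ⟨[62, 6, 37], [0, 1, 1, 0, 2], [1, 0, 2, 0, 1, 2], 1014, false, false⟩,
  ⟨[62, 48, 61], [0, 1, 0, 0, 1, 2], [1, 1, 2, 0, 1], 4598, false, false⟩,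
  ⟨[62, 5, 7], [0, 1, 0, 0, 1, 2], [1, 1, 2, 0, 1], 206, false, false⟩,
  ⟨[62, 5, 20], [0, 1, 0, 0, 1, 2], [1, 1, 2, 0, 1], 1142, false, false⟩,
  ⟨[62, 26, 60], [0, 1, 0, 0, 1, 2], [1, 1, 2, 0, 1], 2510, false, false⟩,
  ⟨[24, 24, 62], [0], [1, 1, 2, 0, 2, 0, 1], 2482, false, false⟩,
  ⟨[62, 27, 11], [0, 0, 1, 2, 1, 0], [1, 0, 1, 1, 2], 731, false, false⟩,
  ⟨[63, 5, 7], [0, 1, 0, 0, 1, 2], [1, 1, 2, 0, 1], 207, false, false⟩,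
  ⟨[63, 5, 20], [0, 1, 0, 0, 1, 2], [1, 1, 2, 0, 1], 1143, false, false⟩,
  ⟨[63, 27, 60], [0, 1, 0, 0, 1, 2], [1, 1, 2, 0, 1], 2583, false, false⟩,
  ⟨[63, 27, 61], [0, 1, 0, 0, 1, 2], [1, 1, 2, 0, 1], 2511, false, false⟩,
  ⟨[2, 36, 66], [0, 1, 0, 0, 1], [1, 1, 2, 0, 1, 2], 204, false, false⟩,
  ⟨[2, 37, 66], [0, 1, 0, 0, 1], [1, 1, 2, 0, 1, 2], 205, false, false⟩,
  ⟨[2, 37, 23], [0, 1, 1, 0, 2], [1, 0, 2, 0, 1, 2], 1117, false, false⟩,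
  ⟨[2, 60, 11], [0, 1, 1, 0, 2], [1, 0, 2, 0, 1, 2], 132, false, false⟩,
  ⟨[2, 61, 11], [0, 1, 1, 0, 2], [1, 0, 2, 0, 1, 2], 133, false, false⟩,
  ⟨[2, 48, 23], [0, 1, 1, 0, 2], [1, 0, 2, 0, 1, 2], 1128, false, false⟩,
  ⟨[2, 49, 23], [0, 1, 1, 0, 2], [1, 0, 2, 0, 1, 2], 1129, false, false⟩,
  ⟨[2, 5, 20], [0, 1, 0, 0, 1, 2], [1, 1, 2, 0, 1], 1082, false, false⟩,
  ⟨[2, 2, 23], [0], [1, 1, 2, 0, 2, 0, 1], 1095, false, false⟩,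
  ⟨[2, 19, 66], [0, 0, 1, 2, 1, 0], [1, 0, 1, 1, 2], 786, false, false⟩,
  ⟨[2, 19, 67], [0, 0, 1, 2, 1, 0], [1, 0, 1, 1, 2], 787, false, false⟩,
  ⟨[2, 19, 61], [0, 0, 1, 2, 1, 0], [1, 0, 1, 1, 2], 781, false, false⟩,
  ⟨[1, 48, 23], [0, 1, 1, 0, 2], [1, 0, 2, 0, 1, 2], 1056, false, false⟩,
  ⟨[1, 49, 23], [0, 1, 1, 0, 2], [1, 0, 2, 0, 1, 2], 1057, false, false⟩,
  ⟨[1, 20, 64], [0, 0, 1, 2, 1, 0], [1, 0, 1, 1, 2], 784, false, false⟩,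
  ⟨[1, 20, 65], [0, 0, 1, 2, 1, 0], [1, 0, 1, 1, 2], 785, false, false⟩,
  ⟨[1, 19, 5], [0, 1, 0, 0, 1, 2], [1, 1, 2, 0, 1], 1009, false, false⟩,
  ⟨[1, 1, 23], [0], [1, 1, 2, 0, 2, 0, 1], 1022, false, false⟩,
  ⟨[1, 26, 60], [0, 1, 0, 0, 1, 2], [1, 1, 2, 0, 1], 2449, false, false⟩,
  ⟨[1, 27, 60], [0, 1, 0, 0, 1, 2], [1, 1, 2, 0, 1], 2521, false, false⟩,
  ⟨[1, 46, 61], [0, 1, 0, 0, 1, 2], [1, 1, 2, 0, 1], 1081, false, false⟩,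
  ⟨[1, 44, 47], [0, 1, 0, 0, 1, 2], [1, 1, 2, 0, 1], 721, false, false⟩,
  ⟨[1, 1, 20], [0], [1, 1, 2, 0, 2, 0, 1], 730, false, false⟩,
  ⟨[15, 19, 5], [0, 1, 0, 0, 1, 2], [1, 1, 2, 0, 1], 1023, false, false⟩,
  ⟨[15, 44, 47], [0, 1, 0, 0, 1, 2], [1, 1, 2, 0, 1], 735, false, false⟩,
  ⟨[22, 40, 52], [0, 1, 0, 0, 1, 2], [1, 1, 2, 0, 1], 3622, false, false⟩,
  ⟨[22, 40, 53], [0, 1, 0, 0, 1, 2], [1, 1, 2, 0, 1], 3694, false, false⟩,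
  ⟨[34, 50, 40], [0, 0, 1, 2, 1, 0], [1, 0, 1, 1, 2], 2632, false, false⟩,
  ⟨[34, 51, 40], [0, 0, 1, 2, 1, 0], [1, 0, 1, 1, 2], 2704, false, false⟩,
  ⟨[35, 50, 41], [0, 0, 1, 2, 1, 0], [1, 0, 1, 1, 2], 2705, false, false⟩,
  ⟨[44, 34, 50], [0, 1, 0, 0, 1, 2], [1, 1, 2, 0, 1], 2636, false, false⟩,
  ⟨[44, 35, 50], [0, 1, 0, 0, 1, 2], [1, 1, 2, 0, 1], 2708, false, false⟩,
  ⟨[45, 34, 51], [0, 1, 0, 0, 1, 2], [1, 1, 2, 0, 1], 2709, false, false⟩,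
  ⟨[5, 22, 40], [0, 0, 1, 2, 1, 0], [1, 0, 1, 1, 2], 1264, false, false⟩,
  ⟨[5, 22, 41], [0, 0, 1, 2, 1, 0], [1, 0, 1, 1, 2], 1265, false, false⟩,
  ⟨[5, 50, 22], [0, 1, 1, 0, 2], [1, 0, 2, 0, 1, 2], 1274, false, false⟩,
  ⟨[5, 51, 22], [0, 1, 1, 0, 2], [1, 0, 2, 0, 1, 2], 1275, false, false⟩,
  ⟨[66, 22, 52], [0, 1, 1, 0, 2], [1, 0, 2, 0, 1, 2], 5062, false, false⟩,
  ⟨[66, 22, 53], [0, 1, 1, 0, 2], [1, 0, 2, 0, 1, 2], 5134, false, false⟩,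
  ⟨[66, 22, 41], [0, 1, 1, 0, 2], [1, 0, 2, 0, 1, 2], 1246, false, false⟩,
  ⟨[66, 50, 22], [0, 0, 1, 2, 1, 0], [1, 0, 1, 1, 2], 4918, false, false⟩,
  ⟨[66, 51, 22], [0, 0, 1, 2, 1, 0], [1, 0, 1, 1, 2], 4990, false, false⟩,
  ⟨[66, 10, 22], [0, 1, 0, 0, 1], [1, 1, 2, 0, 1, 2], 4772, false, false⟩,
  ⟨[66, 20, 52], [0, 1, 1, 0, 2], [1, 0, 2, 0, 1, 2], 5060, false, false⟩,
  ⟨[66, 20, 53], [0, 1, 1, 0, 2], [1, 0, 2, 0, 1, 2], 5132, false, false⟩,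
  ⟨[66, 44, 34], [0, 0, 1, 2, 1, 0], [1, 0, 1, 1, 2], 4498, false, false⟩,
  ⟨[66, 45, 34], [0, 0, 1, 2, 1, 0], [1, 0, 1, 1, 2], 4570, false, false⟩,
  ⟨[66, 5, 41], [0, 1, 1, 0, 2], [1, 0, 2, 0, 1, 2], 1229, false, false⟩,
  ⟨[67, 10, 22], [0, 1, 0, 0, 1], [1, 1, 2, 0, 1, 2], 4844, false, false⟩,
  ⟨[67, 66, 40], [0, 1, 1, 0, 2], [1, 0, 2, 0, 1, 2], 1290, false, false⟩,
  ⟨[36, 66, 40], [0, 0, 1, 2, 1, 0], [1, 0, 1, 1, 2], 4360, false, false⟩,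
  ⟨[36, 66, 34], [0, 0, 1, 2, 1, 0], [1, 0, 1, 1, 2], 4354, false, false⟩,
  ⟨[36, 66, 5], [0, 0, 1, 2, 1, 0], [1, 0, 1, 1, 2], 4325, false, false⟩,
  ⟨[37, 66, 40], [0, 0, 1, 2, 1, 0], [1, 0, 1, 1, 2], 4432, false, false⟩,
  ⟨[37, 66, 34], [0, 0, 1, 2, 1, 0], [1, 0, 1, 1, 2], 4426, false, false⟩,
  ⟨[37, 66, 5], [0, 0, 1, 2, 1, 0], [1, 0, 1, 1, 2], 4397, false, false⟩,
  ⟨[37, 67, 35], [0, 0, 1, 2, 1, 0], [1, 0, 1, 1, 2], 4355, false, false⟩,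
  ⟨[70, 50, 40], [0, 1, 1, 0, 2], [1, 0, 2, 0, 1, 2], 4946, false, false⟩,
  ⟨[70, 50, 41], [0, 1, 1, 0, 2], [1, 0, 2, 0, 1, 2], 5018, false, false⟩]

/-- masks before -/
def stA4 : ℕ × ℕ × ℕ := (0xe48421000000aa90007ccc33000000aa9000f33cc0030000a20800511440010000a20800248040000000aa800030c0c0000000aa8000010000000000814000000000000000814000000000000000000000000000000000000400001000000000804000000000000000804002200660040000aa08003003f00c0100aa0800cc0fc3cc00c0f89040440541440040f890c0000040000000c28020000000000000c28000c3003f0c003008080041001504001008080021040c012210a24000330c14033330a2491a008021400000a8000030c030800000a8000004020000040800000004020340c00410844001002000040800040003c033101c1c084c08000000000000000000000000000000400040000000000000000000c000400042000000004c00c000cc0300000044004000440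100802043300c002c3300080241100400141100082200000050a000000000f00000f0f000000400400cc00f0333000800400440050111000800000240448209008010f003c0ccc34f028290000000000000000100f0003c34131f0001494504010100001000004504000100001040000000000000000000003fcf3301ffc500001230c3c0000000208000fccff3440000ea9280330cd0000300a00100fccff3cc0000fc968003c013443010a90540fccff3cc00c0ec1ec0303cc000d200a24010f33cdc033020a3693a0c000000040012042003c03c00701c490424333ccc030310a209303c0fc3c4c001d296b503c03f31303d284d2b00c023f48c0c0840a50c0cc3c8024ce202010004040c0010800000cc0ff344004dd896d1030015140010c84dcd33300cc3ff11824c320c0340434741c283b3333cc401f313e3697b0c0300503111d2c4dd03c01654c7d1bb4fff000300135c007bcc20, 0x0, 0x0)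

/-- masks after -/
def stB4 : ℕ × ℕ × ℕ := (0xe48421000000fa90007ccc33000000fa9000f33cc4030000e70a00511444010000e70a00248040000000ba800030c0c0000000ba80000100000000008140000000000000008140000f7003f004009800400510015004009804400510000124008040200f0000017c00804022600e64040200ef0a00f007fc0c0300ef0a00cc0fc3cc00c0f89040440541440040f890c0000040000000c28020000000000000c28000c3003f0c003008080041001504001008080021042c012210ef4200330c34033330ef4b1a008021400000a8000030c030800000a8000004020000040800000004020340c0049084c001002000040880040003c033101c1c884c48000000000000000000000000000000400040000000000000000000c000400042000000004c00c000cc0300000044004000440100802043300c332c3300080241100411141100082200900050a009180042f0f000f0f40d180442400cc00f0333000800400440050111000800000240448209008010f003c0ccc34f028290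000000000000000100f0003c34131f0001494504010100001000004504000100001040000000000000000000003fcf3301ffc50000123dc3c0000000208000ffcfff440100ef9280f30fdc090310ef2b08fcfff3cc0000fc968003f013443010b90d40fccff3cc03d0ec1ec0343ccc03d200e24030f33cfc033020a3693a0ff00340e4009a84a60ff03f50701cd9cc66f33ffc0f0310e72b383c0fc3c4c001d296b503c03f31303d284d2b0fe023f48c0c98cce70c0cc3c8024ce20201f004f40c0310cd0a08cc0ff344004dd896d1030015140010c84dcd33300cc3ff11824c320c0340434741c283b3333cc401f313e3697b0cf300503111d2c4dd03f01654c7d1bb4fff000300135c007bcc20, 0x0, 0x0)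

theorem chain4_ok : (chainOK tab steps4 stA4.1 stA4.2.1 stA4.2.2 &&
    (learnAll steps4 stA4 == stB4) && (stA4.2.1 ||| stA4.1 == stA4.1) &&
    (stA4.2.2 ||| stA4.1 == stA4.1)) = true := by decide +kernel

theorem run4 {P : Type*} [Group P] (S : Sys tab P) {g h : Subgroup.center P} (hg : g * g = 1) (hh : h * h = 1)
    (H : S.Holds g h stA4.1 stA4.2.1 stA4.2.2) : S.Holds g h stB4.1 stB4.2.1 stB4.2.2 := by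
  have h' := chain4_ok
  simp only [Bool.and_eq_true, beq_iff_eq] at h'
  rw [← h'.1.1.2]
  exact S.chain_spec hg hh steps4 _ _ _ H h'.1.2 h'.2 h'.1.1.1

end CfsgLib.Lie.MultExc.TwESixTwo
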