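import Cfsg.Agent.Lib.Lie.MultExc.TwESixTwo.Table

/-!
Deductions of the central corrections, part 5.
-/

set_option autoImplicit false
set_option maxRecDepth 100000
set_option maxHeartbeats 0

open scoped IsMulCommutative

namespace CfsgLib.Lie.MultExc.TwESixTwo

/-- deductions -/
def steps5 : List Step := [
  ⟨[70, 45, 44], [0, 0, 1, 2, 1, 0], [1, 0, 1, 1, 2], 1412, false, false⟩,
  ⟨[70, 66, 40], [0, 1, 1, 0, 2], [1, 0, 2, 0, 1, 2], 4962, false, false⟩,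
  ⟨[70, 66, 44], [0, 1, 0, 0, 1, 2], [1, 1, 2, 0, 1], 4534, false, false⟩,
  ⟨[34, 34, 70], [0], [1, 1, 2, 0, 2, 0, 1], 4526, false, false⟩,
  ⟨[70, 67, 41], [0, 1, 1, 0, 2], [1, 0, 2, 0, 1, 2], 5035, false, false⟩,
  ⟨[70, 67, 44], [0, 1, 0, 0, 1, 2], [1, 1, 2, 0, 1], 4606, false, false⟩,
  ⟨[70, 36, 52], [0, 0, 1, 2, 1, 0], [1, 0, 1, 1, 2], 4660, false, false⟩,
  ⟨[70, 36, 50], [0, 0, 1, 2, 1, 0], [1, 0, 1, 1, 2], 4658, false, false⟩,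
  ⟨[70, 36, 44], [0, 0, 1, 2, 1, 0], [1, 0, 1, 1, 2], 4652, false, false⟩,
  ⟨[70, 37, 53], [0, 0, 1, 2, 1, 0], [1, 0, 1, 1, 2], 4733, false, false⟩,
  ⟨[70, 37, 50], [0, 0, 1, 2, 1, 0], [1, 0, 1, 1, 2], 4730, false, false⟩,
  ⟨[70, 37, 44], [0, 0, 1, 2, 1, 0], [1, 0, 1, 1, 2], 4724, false, false⟩,
  ⟨[71, 51, 40], [0, 1, 1, 0, 2], [1, 0, 2, 0, 1, 2], 5019, false, false⟩,
  ⟨[71, 45, 44], [0, 1, 1, 0, 2], [1, 0, 2, 0, 1, 2], 1413, false, false⟩,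
  ⟨[71, 66, 40], [0, 1, 1, 0, 2], [1, 0, 2, 0, 1, 2], 5034, false, false⟩,
  ⟨[71, 66, 45], [0, 1, 0, 0, 1, 2], [1, 1, 2, 0, 1], 4607, false, false⟩,
  ⟨[34, 34, 71], [0], [1, 1, 2, 0, 2, 0, 1], 4599, false, false⟩,
  ⟨[71, 37, 53], [0, 0, 1, 2, 1, 0], [1, 0, 1, 1, 2], 4661, false, false⟩,
  ⟨[71, 37, 51], [0, 0, 1, 2, 1, 0], [1, 0, 1, 1, 2], 4659, false, false⟩,
  ⟨[71, 37, 45], [0, 0, 1, 2, 1, 0], [1, 0, 1, 1, 2], 4653, false, false⟩,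
  ⟨[71, 70, 44], [0, 1, 1, 0, 2], [1, 0, 2, 0, 1, 2], 1438, false, false⟩,
  ⟨[11, 20, 34], [0, 0, 1, 2, 1, 0], [1, 0, 1, 1, 2], 1402, false, false⟩,
  ⟨[11, 70, 36], [0, 1, 0, 0, 1, 2], [1, 1, 2, 0, 1], 4619, false, false⟩,
  ⟨[11, 70, 37], [0, 1, 0, 0, 1, 2], [1, 1, 2, 0, 1], 4691, false, false⟩,
  ⟨[11, 71, 20], [0, 1, 1, 0, 2], [1, 0, 2, 0, 1, 2], 1439, false, false⟩,
  ⟨[17, 36, 66], [0, 1, 0, 0, 1, 2], [1, 1, 2, 0, 1], 4337, false, false⟩,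
  ⟨[17, 37, 66], [0, 1, 0, 0, 1, 2], [1, 1, 2, 0, 1], 4409, false, false⟩,
  ⟨[17, 70, 10], [0, 1, 1, 0, 2], [1, 0, 2, 0, 1, 2], 1150, false, false⟩,
  ⟨[17, 70, 34], [0, 1, 0, 0, 1, 2], [1, 1, 2, 0, 1], 4481, false, false⟩,
  ⟨[17, 70, 35], [0, 1, 0, 0, 1, 2], [1, 1, 2, 0, 1], 4553, false, false⟩,
  ⟨[17, 70, 36], [0, 1, 0, 0, 1, 2], [1, 1, 2, 0, 1], 4625, false, false⟩,
  ⟨[17, 70, 37], [0, 1, 0, 0, 1, 2], [1, 1, 2, 0, 1], 4697, false, false⟩,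
  ⟨[17, 71, 10], [0, 1, 1, 0, 2], [1, 0, 2, 0, 1, 2], 1151, false, false⟩,
  ⟨[17, 11, 34], [0, 0, 1, 2, 1, 0], [1, 0, 1, 1, 2], 1186, false, false⟩,
  ⟨[17, 11, 35], [0, 0, 1, 2, 1, 0], [1, 0, 1, 1, 2], 1187, false, false⟩,
  ⟨[68, 20, 53], [0, 1, 1, 0, 2], [1, 0, 2, 0, 1, 2], 1532, false, false⟩,
  ⟨[68, 20, 34], [0, 1, 1, 0, 2], [1, 0, 2, 0, 1, 2], 4340, false, false⟩,
  ⟨[68, 44, 20], [0, 0, 1, 2, 1, 0], [1, 0, 1, 1, 2], 4628, false, false⟩,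
  ⟨[68, 5, 20], [0, 1, 0, 0, 1, 2], [1, 1, 2, 0, 1], 1148, false, false⟩,
  ⟨[68, 36, 44], [0, 1, 1, 0, 2], [1, 0, 2, 0, 1, 2], 4644, false, false⟩,
  ⟨[68, 36, 66], [0, 1, 0, 0, 1, 2], [1, 1, 2, 0, 1], 4388, false, false⟩,
  ⟨[34, 34, 68], [0], [1, 1, 2, 0, 2, 0, 1], 4380, false, false⟩,
  ⟨[68, 70, 44], [0, 1, 1, 0, 2], [1, 0, 2, 0, 1, 2], 4678, false, false⟩,
  ⟨[36, 36, 70], [0], [1, 1, 2, 0, 2, 0, 1], 4672, false, false⟩,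
  ⟨[68, 70, 36], [0, 1, 0, 0, 1, 2], [1, 1, 2, 0, 1], 4676, false, false⟩,
  ⟨[68, 11, 20], [0, 1, 0, 0, 1, 2], [1, 1, 2, 0, 1], 1436, false, false⟩,
  ⟨[69, 20, 34], [0, 1, 1, 0, 2], [1, 0, 2, 0, 1, 2], 4412, false, false⟩,
  ⟨[69, 44, 20], [0, 0, 1, 2, 1, 0], [1, 0, 1, 1, 2], 4700, false, false⟩,
  ⟨[69, 5, 20], [0, 1, 0, 0, 1, 2], [1, 1, 2, 0, 1], 1149, false, false⟩,
  ⟨[69, 37, 44], [0, 1, 1, 0, 2], [1, 0, 2, 0, 1, 2], 4717, false, false⟩,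
  ⟨[69, 37, 45], [0, 1, 1, 0, 2], [1, 0, 2, 0, 1, 2], 4645, false, false⟩,
  ⟨[69, 37, 66], [0, 1, 0, 0, 1, 2], [1, 1, 2, 0, 1], 4461, false, false⟩,
  ⟨[34, 34, 69], [0], [1, 1, 2, 0, 2, 0, 1], 4453, false, false⟩,
  ⟨[69, 37, 67], [0, 1, 0, 0, 1, 2], [1, 1, 2, 0, 1], 4389, false, false⟩,
  ⟨[69, 70, 44], [0, 1, 1, 0, 2], [1, 0, 2, 0, 1, 2], 4750, false, false⟩,
  ⟨[37, 37, 70], [0], [1, 1, 2, 0, 2, 0, 1], 4745, false, false⟩,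
  ⟨[69, 70, 37], [0, 1, 0, 0, 1, 2], [1, 1, 2, 0, 1], 4749, false, false⟩,
  ⟨[69, 71, 45], [0, 1, 1, 0, 2], [1, 0, 2, 0, 1, 2], 4679, false, false⟩,
  ⟨[69, 71, 37], [0, 1, 0, 0, 1, 2], [1, 1, 2, 0, 1], 4677, false, false⟩,
  ⟨[69, 11, 20], [0, 1, 0, 0, 1, 2], [1, 1, 2, 0, 1], 1437, false, false⟩,
  ⟨[21, 44, 40], [0, 1, 0, 0, 1], [1, 1, 2, 0, 1, 2], 1548, false, false⟩,
  ⟨[21, 44, 41], [0, 1, 0, 0, 1], [1, 1, 2, 0, 1, 2], 1549, false, false⟩,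
  ⟨[21, 5, 44], [0, 0, 1, 2, 1, 0], [1, 0, 1, 1, 2], 1196, false, false⟩,
  ⟨[21, 66, 10], [0, 1, 1, 0, 2], [1, 0, 2, 0, 1, 2], 1434, false, false⟩,
  ⟨[21, 66, 44], [0, 1, 0, 0, 1, 2], [1, 1, 2, 0, 1], 4485, false, false⟩,
  ⟨[21, 66, 45], [0, 1, 0, 0, 1, 2], [1, 1, 2, 0, 1], 4557, false, false⟩,
  ⟨[21, 66, 5], [0, 1, 1, 0, 2], [1, 0, 2, 0, 1, 2], 1218, false, false⟩,
  ⟨[21, 67, 10], [0, 1, 1, 0, 2], [1, 0, 2, 0, 1, 2], 1435, false, false⟩,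
  ⟨[21, 67, 5], [0, 1, 1, 0, 2], [1, 0, 2, 0, 1, 2], 1219, false, false⟩,
  ⟨[21, 36, 66], [0, 1, 0, 0, 1, 2], [1, 1, 2, 0, 1], 4341, false, false⟩,
  ⟨[21, 37, 66], [0, 1, 0, 0, 1, 2], [1, 1, 2, 0, 1], 4413, false, false⟩,
  ⟨[21, 70, 36], [0, 1, 0, 0, 1, 2], [1, 1, 2, 0, 1], 4629, false, false⟩,
  ⟨[21, 70, 37], [0, 1, 0, 0, 1, 2], [1, 1, 2, 0, 1], 4701, false, false⟩,
  ⟨[15, 66, 44], [0, 1, 0, 0, 1, 2], [1, 1, 2, 0, 1], 4479, false, false⟩,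
  ⟨[15, 66, 45], [0, 1, 0, 0, 1, 2], [1, 1, 2, 0, 1], 4551, false, false⟩,
  ⟨[15, 36, 66], [0, 1, 0, 0, 1, 2], [1, 1, 2, 0, 1], 4335, false, false⟩,
  ⟨[15, 37, 66], [0, 1, 0, 0, 1, 2], [1, 1, 2, 0, 1], 4407, false, false⟩,
  ⟨[15, 70, 45], [0, 1, 0, 0, 1, 2], [1, 1, 2, 0, 1], 1383, false, false⟩,
  ⟨[15, 70, 36], [0, 1, 0, 0, 1, 2], [1, 1, 2, 0, 1], 4623, false, false⟩,
  ⟨[15, 70, 37], [0, 1, 0, 0, 1, 2], [1, 1, 2, 0, 1], 4695, false, false⟩,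
  ⟨[15, 11, 70], [0, 0, 1, 2, 1, 0], [1, 0, 1, 1, 2], 1078, false, false⟩,
  ⟨[15, 11, 71], [0, 0, 1, 2, 1, 0], [1, 0, 1, 1, 2], 1079, false, false⟩,
  ⟨[15, 68, 37], [0, 1, 0, 0, 1, 2], [1, 1, 2, 0, 1], 1167, false, false⟩,
  ⟨[15, 68, 11], [0, 1, 1, 0, 2], [1, 0, 2, 0, 1, 2], 1076, false, false⟩,
  ⟨[15, 69, 11], [0, 1, 1, 0, 2], [1, 0, 2, 0, 1, 2], 1077, false, false⟩,
  ⟨[15, 21, 40], [0, 0, 1, 2, 1, 0], [1, 0, 1, 1, 2], 1696, false, false⟩,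
  ⟨[15, 21, 41], [0, 0, 1, 2, 1, 0], [1, 0, 1, 1, 2], 1697, false, false⟩,
  ⟨[15, 21, 22], [0, 0, 1, 2, 1, 0], [1, 0, 1, 1, 2], 1678, false, false⟩,
  ⟨[15, 21, 20], [0, 0, 1, 2, 1, 0], [1, 0, 1, 1, 2], 1676, false, false⟩,
  ⟨[15, 21, 44], [0, 0, 1, 2, 1, 0], [1, 0, 1, 1, 2], 1700, false, false⟩,
  ⟨[15, 21, 36], [0, 0, 1, 2, 1, 0], [1, 0, 1, 1, 2], 1692, false, false⟩,
  ⟨[15, 21, 37], [0, 0, 1, 2, 1, 0], [1, 0, 1, 1, 2], 1693, false, false⟩,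
  ⟨[15, 21, 70], [0, 0, 1, 2, 1, 0], [1, 0, 1, 1, 2], 1726, false, false⟩,
  ⟨[15, 21, 71], [0, 0, 1, 2, 1, 0], [1, 0, 1, 1, 2], 1727, false, false⟩,
  ⟨[15, 21, 17], [0, 0, 1, 2, 1, 0], [1, 0, 1, 1, 2], 1673, false, false⟩,
  ⟨[62, 22, 53], [0, 1, 1, 0, 2], [1, 0, 2, 0, 1, 2], 1390, false, false⟩,
  ⟨[62, 22, 40], [0, 1, 1, 0, 2], [1, 0, 2, 0, 1, 2], 4342, false, false⟩,
  ⟨[62, 50, 22], [0, 0, 1, 2, 1, 0], [1, 0, 1, 1, 2], 4630, false, false⟩,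
  ⟨[62, 36, 66], [0, 1, 0, 0, 1, 2], [1, 1, 2, 0, 1], 4382, false, false⟩,
  ⟨[62, 70, 36], [0, 1, 0, 0, 1, 2], [1, 1, 2, 0, 1], 4670, false, false⟩,
  ⟨[62, 17, 37], [0, 1, 1, 0, 2], [1, 0, 2, 0, 1, 2], 1025, false, false⟩,
  ⟨[62, 17, 11], [0, 1, 0, 0, 1, 2], [1, 1, 2, 0, 1], 1214, false, false⟩,
  ⟨[62, 69, 5], [0, 0, 1, 2, 1, 0], [1, 0, 1, 1, 2], 1661, false, false⟩,
  ⟨[62, 69, 11], [0, 0, 1, 2, 1, 0], [1, 0, 1, 1, 2], 1667, false, false⟩,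
  ⟨[62, 21, 37], [0, 1, 1, 0, 2], [1, 0, 2, 0, 1, 2], 1029, false, false⟩,
  ⟨[63, 22, 40], [0, 1, 1, 0, 2], [1, 0, 2, 0, 1, 2], 4414, false, false⟩,
  ⟨[63, 50, 22], [0, 0, 1, 2, 1, 0], [1, 0, 1, 1, 2], 4702, false, false⟩,
  ⟨[63, 37, 66], [0, 1, 0, 0, 1, 2], [1, 1, 2, 0, 1], 4455, false, false⟩,
  ⟨[63, 37, 67], [0, 1, 0, 0, 1, 2], [1, 1, 2, 0, 1], 4383, false, false⟩,
  ⟨[63, 70, 37], [0, 1, 0, 0, 1, 2], [1, 1, 2, 0, 1], 4743, false, false⟩,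
  ⟨[63, 71, 37], [0, 1, 0, 0, 1, 2], [1, 1, 2, 0, 1], 4671, false, false⟩,
  ⟨[63, 17, 11], [0, 1, 0, 0, 1, 2], [1, 1, 2, 0, 1], 1215, false, false⟩,
  ⟨[19, 36, 66], [0, 1, 0, 0, 1, 2], [1, 1, 2, 0, 1], 4339, false, false⟩,
  ⟨[19, 37, 66], [0, 1, 0, 0, 1, 2], [1, 1, 2, 0, 1], 4411, false, false⟩,
  ⟨[19, 70, 36], [0, 1, 0, 0, 1, 2], [1, 1, 2, 0, 1], 4627, false, false⟩,
  ⟨[19, 70, 37], [0, 1, 0, 0, 1, 2], [1, 1, 2, 0, 1], 4699, false, false⟩,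
  ⟨[19, 17, 50], [0, 0, 1, 2, 1, 0], [1, 0, 1, 1, 2], 1706, false, false⟩,
  ⟨[19, 17, 51], [0, 0, 1, 2, 1, 0], [1, 0, 1, 1, 2], 1707, false, false⟩,
  ⟨[19, 68, 37], [0, 1, 0, 0, 1, 2], [1, 1, 2, 0, 1], 1171, false, false⟩,
  ⟨[19, 15, 21], [0, 1, 0, 0, 1, 2], [1, 1, 2, 0, 1], 1675, false, false⟩,
  ⟨[60, 51, 22], [0, 0, 1, 2, 1, 0], [1, 0, 1, 1, 2], 1174, false, false⟩,
  ⟨[60, 70, 36], [0, 1, 0, 0, 1, 2], [1, 1, 2, 0, 1], 4668, false, false⟩,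
  ⟨[60, 70, 37], [0, 1, 0, 0, 1, 2], [1, 1, 2, 0, 1], 4740, false, false⟩,
  ⟨[60, 71, 10], [0, 0, 1, 2, 1, 0], [1, 0, 1, 1, 2], 1666, false, false⟩,
  ⟨[61, 71, 37], [0, 1, 0, 0, 1, 2], [1, 1, 2, 0, 1], 4669, false, false⟩,
  ⟨[61, 60, 70], [0, 1, 1, 0, 2], [1, 0, 2, 0, 1, 2], 1716, false, false⟩,
  ⟨[64, 61, 67], [0, 1, 1, 0, 2], [1, 0, 2, 0, 1, 2], 1717, false, false⟩,
  ⟨[16, 20, 52], [0, 0, 1, 2, 1, 0], [1, 0, 1, 1, 2], 1708, false, false⟩,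
  ⟨[16, 20, 53], [0, 0, 1, 2, 1, 0], [1, 0, 1, 1, 2], 1709, false, false⟩,
  ⟨[16, 15, 21], [0, 1, 0, 0, 1, 2], [1, 1, 2, 0, 1], 1672, false, false⟩,
  ⟨[14, 15, 21], [0, 1, 0, 0, 1, 2], [1, 1, 2, 0, 1], 1670, false, false⟩,
  ⟨[14, 14, 22], [0], [1, 1, 2, 0, 2, 0, 1], 1679, false, false⟩,
  ⟨[18, 68, 44], [0, 1, 0, 0, 1], [1, 1, 2, 0, 1, 2], 1360, false, false⟩,
  ⟨[18, 69, 44], [0, 1, 0, 0, 1], [1, 1, 2, 0, 1, 2], 1361, false, false⟩,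
  ⟨[42, 1, 45], [0, 1, 1, 0, 2], [1, 0, 2, 0, 1, 2], 433, false, false⟩,
  ⟨[42, 64, 44], [0, 0, 1, 2, 1, 0], [1, 0, 1, 1, 2], 3788, false, false⟩,
  ⟨[42, 64, 1], [0, 0, 1, 2, 1, 0], [1, 0, 1, 1, 2], 3745, false, false⟩,
  ⟨[42, 65, 44], [0, 0, 1, 2, 1, 0], [1, 0, 1, 1, 2], 3860, false, false⟩,
  ⟨[42, 18, 45], [0, 1, 1, 0, 2], [1, 0, 2, 0, 1, 2], 450, false, false⟩,
  ⟨[42, 18, 64], [0, 1, 1, 0, 2], [1, 0, 2, 0, 1, 2], 3762, false, false⟩,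
  ⟨[42, 18, 65], [0, 1, 1, 0, 2], [1, 0, 2, 0, 1, 2], 3834, false, false⟩,
  ⟨[42, 40, 4], [0, 0, 1, 2, 1, 0], [1, 0, 1, 1, 2], 2308, false, false⟩,
  ⟨[42, 41, 4], [0, 0, 1, 2, 1, 0], [1, 0, 1, 1, 2], 2380, false, false⟩,
  ⟨[42, 36, 1], [0, 0, 1, 2, 1, 0], [1, 0, 1, 1, 2], 2017, false, false⟩,
  ⟨[42, 9, 40], [0, 1, 1, 0, 2], [1, 0, 2, 0, 1, 2], 2313, false, false⟩,
  ⟨[42, 9, 41], [0, 1, 1, 0, 2], [1, 0, 2, 0, 1, 2], 2385, false, false⟩,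
  ⟨[43, 64, 45], [0, 0, 1, 2, 1, 0], [1, 0, 1, 1, 2], 3861, false, false⟩,
  ⟨[16, 18, 44], [0, 0, 1, 2, 1, 0], [1, 0, 1, 1, 2], 1556, false, false⟩,
  ⟨[16, 18, 45], [0, 0, 1, 2, 1, 0], [1, 0, 1, 1, 2], 1557, false, false⟩,
  ⟨[58, 42, 64], [0, 1, 0, 0, 1, 2], [1, 1, 2, 0, 1], 3802, false, false⟩,
  ⟨[58, 43, 64], [0, 1, 0, 0, 1, 2], [1, 1, 2, 0, 1], 3874, false, false⟩,
  ⟨[58, 6, 65], [0, 1, 1, 0, 2], [1, 0, 2, 0, 1, 2], 1518, false, false⟩,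
  ⟨[58, 6, 36], [0, 1, 1, 0, 2], [1, 0, 2, 0, 1, 2], 3606, false, false⟩,
  ⟨[58, 6, 37], [0, 1, 1, 0, 2], [1, 0, 2, 0, 1, 2], 3678, false, false⟩,
  ⟨[58, 0, 41], [0, 1, 1, 0, 2], [1, 0, 2, 0, 1, 2], 936, false, false⟩,
  ⟨[58, 0, 36], [0, 1, 1, 0, 2], [1, 0, 2, 0, 1, 2], 3600, false, false⟩,
  ⟨[58, 16, 44], [0, 1, 1, 0, 2], [1, 0, 2, 0, 1, 2], 3760, false, false⟩,
  ⟨[58, 16, 45], [0, 1, 1, 0, 2], [1, 0, 2, 0, 1, 2], 3832, false, false⟩,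
  ⟨[58, 16, 6], [0, 1, 0, 0, 1, 2], [1, 1, 2, 0, 1], 850, false, false⟩,
  ⟨[59, 42, 65], [0, 1, 0, 0, 1, 2], [1, 1, 2, 0, 1], 3875, false, false⟩,
  ⟨[59, 16, 6], [0, 1, 0, 0, 1, 2], [1, 1, 2, 0, 1], 851, false, false⟩,
  ⟨[52, 16, 0], [0, 1, 0, 0, 1, 2], [1, 1, 2, 0, 1], 268, false, false⟩,
  ⟨[53, 16, 0], [0, 1, 0, 0, 1, 2], [1, 1, 2, 0, 1], 269, false, false⟩,
  ⟨[32, 53, 1], [0, 0, 1, 2, 1, 0], [1, 0, 1, 1, 2], 577, false, false⟩,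
  ⟨[32, 53, 6], [0, 0, 1, 2, 1, 0], [1, 0, 1, 1, 2], 582, false, false⟩,
  ⟨[32, 53, 0], [0, 0, 1, 2, 1, 0], [1, 0, 1, 1, 2], 576, false, false⟩,
  ⟨[28, 18, 65], [0, 1, 1, 0, 2], [1, 0, 2, 0, 1, 2], 810, false, false⟩,
  ⟨[28, 9, 41], [0, 1, 1, 0, 2], [1, 0, 2, 0, 1, 2], 225, false, false⟩,
  ⟨[28, 59, 4], [0, 0, 1, 2, 1, 0], [1, 0, 1, 1, 2], 580, false, false⟩,
  ⟨[21, 0, 45], [0, 0, 1, 2, 1, 0], [1, 0, 1, 1, 2], 621, false, false⟩,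
  ⟨[21, 0, 36], [0, 0, 1, 2, 1, 0], [1, 0, 1, 1, 2], 612, false, false⟩,
  ⟨[21, 0, 37], [0, 0, 1, 2, 1, 0], [1, 0, 1, 1, 2], 613, false, false⟩,
  ⟨[21, 32, 53], [0, 1, 0, 0, 1, 2], [1, 1, 2, 0, 1], 597, false, false⟩,
  ⟨[0, 0, 21], [0], [1, 1, 2, 0, 2, 0, 1], 584, false, false⟩,
  ⟨[13, 58, 36], [0, 1, 0, 0, 1, 2], [1, 1, 2, 0, 1], 3613, false, false⟩,
  ⟨[13, 58, 37], [0, 1, 0, 0, 1, 2], [1, 1, 2, 0, 1], 3685, false, false⟩,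
  ⟨[13, 52, 37], [0, 1, 0, 0, 1, 2], [1, 1, 2, 0, 1], 805, false, false⟩,
  ⟨[13, 32, 53], [0, 1, 0, 0, 1, 2], [1, 1, 2, 0, 1], 589, false, false⟩,
  ⟨[58, 25, 30], [0, 0, 1, 2, 1, 0], [1, 0, 1, 1, 2], 2406, false, false⟩,
  ⟨[9, 68, 5], [0, 1, 1, 0, 2], [1, 0, 2, 0, 1, 2], 356, false, false⟩,
  ⟨[9, 69, 5], [0, 1, 1, 0, 2], [1, 0, 2, 0, 1, 2], 357, false, false⟩,
  ⟨[9, 52, 1], [0, 1, 1, 0, 2], [1, 0, 2, 0, 1, 2], 52, false, false⟩,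
  ⟨[9, 53, 1], [0, 1, 1, 0, 2], [1, 0, 2, 0, 1, 2], 53, false, false⟩,
  ⟨[4, 58, 6], [0, 1, 1, 0, 2], [1, 0, 2, 0, 1, 2], 58, false, false⟩,
  ⟨[4, 59, 6], [0, 1, 1, 0, 2], [1, 0, 2, 0, 1, 2], 59, false, false⟩,
  ⟨[50, 58, 24], [0, 1, 0, 0, 1, 2], [1, 1, 2, 0, 1], 2354, false, false⟩,
  ⟨[50, 59, 24], [0, 1, 0, 0, 1, 2], [1, 1, 2, 0, 1], 2426, false, false⟩,
  ⟨[50, 9, 1], [0, 1, 0, 0, 1, 2], [1, 1, 2, 0, 1], 50, false, false⟩,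
  ⟨[51, 58, 25], [0, 1, 0, 0, 1, 2], [1, 1, 2, 0, 1], 2427, false, false⟩,
  ⟨[51, 9, 1], [0, 1, 0, 0, 1, 2], [1, 1, 2, 0, 1], 51, false, false⟩,
  ⟨[23, 9, 13], [0, 0, 1, 2, 1, 0], [1, 0, 1, 1, 2], 1597, false, false⟩,
  ⟨[20, 23, 9], [0, 1, 0, 0, 1, 2], [1, 1, 2, 0, 1], 1604, false, false⟩,
  ⟨[34, 56, 62], [0, 0, 1, 2, 1, 0], [1, 0, 1, 1, 2], 3374, false, false⟩,
  ⟨[34, 57, 63], [0, 0, 1, 2, 1, 0], [1, 0, 1, 1, 2], 3447, false, false⟩,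
  ⟨[35, 57, 63], [0, 0, 1, 2, 1, 0], [1, 0, 1, 1, 2], 3375, false, false⟩,
  ⟨[40, 56, 13], [0, 0, 1, 2, 1, 0], [1, 0, 1, 1, 2], 3901, false, false⟩,
  ⟨[40, 56, 68], [0, 0, 1, 2, 1, 0], [1, 0, 1, 1, 2], 3956, false, false⟩,
  ⟨[40, 57, 13], [0, 0, 1, 2, 1, 0], [1, 0, 1, 1, 2], 3973, false, false⟩,
  ⟨[40, 57, 69], [0, 0, 1, 2, 1, 0], [1, 0, 1, 1, 2], 4029, false, false⟩,
  ⟨[41, 57, 69], [0, 0, 1, 2, 1, 0], [1, 0, 1, 1, 2], 3957, false, false⟩,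
  ⟨[60, 56, 13], [0, 0, 1, 2, 1, 0], [1, 0, 1, 1, 2], 4765, false, false⟩,
  ⟨[60, 57, 13], [0, 0, 1, 2, 1, 0], [1, 0, 1, 1, 2], 4837, false, false⟩,
  ⟨[60, 22, 56], [0, 1, 1, 0, 2], [1, 0, 2, 0, 1, 2], 4774, false, false⟩,
  ⟨[60, 22, 57], [0, 1, 1, 0, 2], [1, 0, 2, 0, 1, 2], 4846, false, false⟩,
  ⟨[30, 56, 68], [0, 1, 1, 0, 2], [1, 0, 2, 0, 1, 2], 3944, false, false⟩,
  ⟨[30, 57, 69], [0, 1, 1, 0, 2], [1, 0, 2, 0, 1, 2], 4017, false, false⟩,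
  ⟨[30, 20, 68], [0, 1, 1, 0, 2], [1, 0, 2, 0, 1, 2], 3908, false, false⟩,
  ⟨[30, 20, 69], [0, 1, 1, 0, 2], [1, 0, 2, 0, 1, 2], 3980, false, false⟩,
  ⟨[30, 34, 56], [0, 1, 0, 0, 1, 2], [1, 1, 2, 0, 1], 3342, false, false⟩,
  ⟨[30, 34, 57], [0, 1, 0, 0, 1, 2], [1, 1, 2, 0, 1], 3414, false, false⟩,
  ⟨[30, 40, 68], [0, 1, 1, 0, 2], [1, 0, 2, 0, 1, 2], 3928, false, false⟩,
  ⟨[30, 40, 56], [0, 1, 0, 0, 1, 2], [1, 1, 2, 0, 1], 3918, false, false⟩,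
  ⟨[30, 30, 68], [0], [1, 1, 2, 0, 2, 0, 1], 3942, false, false⟩,
  ⟨[30, 40, 57], [0, 1, 0, 0, 1, 2], [1, 1, 2, 0, 1], 3990, false, false⟩,
  ⟨[30, 30, 69], [0], [1, 1, 2, 0, 2, 0, 1], 4015, false, false⟩,
  ⟨[30, 41, 13], [0, 0, 1, 2, 1, 0], [1, 0, 1, 1, 2], 301, false, false⟩,
  ⟨[30, 60, 22], [0, 0, 1, 2, 1, 0], [1, 0, 1, 1, 2], 2758, false, false⟩,
  ⟨[30, 60, 40], [0, 0, 1, 2, 1, 0], [1, 0, 1, 1, 2], 2776, false, false⟩,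
  ⟨[30, 61, 40], [0, 0, 1, 2, 1, 0], [1, 0, 1, 1, 2], 2848, false, false⟩,
  ⟨[31, 57, 69], [0, 1, 1, 0, 2], [1, 0, 2, 0, 1, 2], 3945, false, false⟩,
  ⟨[31, 35, 57], [0, 1, 0, 0, 1, 2], [1, 1, 2, 0, 1], 3343, false, false⟩,
  ⟨[31, 60, 41], [0, 0, 1, 2, 1, 0], [1, 0, 1, 1, 2], 2849, false, false⟩,
  ⟨[46, 56, 68], [0, 1, 1, 0, 2], [1, 0, 2, 0, 1, 2], 4808, false, false⟩,
  ⟨[46, 57, 69], [0, 1, 1, 0, 2], [1, 0, 2, 0, 1, 2], 4881, false, false⟩,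
  ⟨[46, 60, 68], [0, 1, 1, 0, 2], [1, 0, 2, 0, 1, 2], 4812, false, false⟩,
  ⟨[46, 60, 69], [0, 1, 1, 0, 2], [1, 0, 2, 0, 1, 2], 4884, false, false⟩,
  ⟨[46, 60, 40], [0, 1, 1, 0, 2], [1, 0, 2, 0, 1, 2], 2796, false, false⟩,
  ⟨[46, 60, 41], [0, 1, 1, 0, 2], [1, 0, 2, 0, 1, 2], 2868, false, false⟩,
  ⟨[46, 61, 22], [0, 0, 1, 2, 1, 0], [1, 0, 1, 1, 2], 1102, false, false⟩,
  ⟨[46, 30, 40], [0, 1, 1, 0, 2], [1, 0, 2, 0, 1, 2], 2766, false, false⟩,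
  ⟨[46, 30, 60], [0, 1, 0, 0, 1, 2], [1, 1, 2, 0, 1], 2782, false, false⟩,
  ⟨[46, 31, 41], [0, 1, 1, 0, 2], [1, 0, 2, 0, 1, 2], 2839, false, false⟩,
  ⟨[46, 31, 60], [0, 1, 0, 0, 1, 2], [1, 1, 2, 0, 1], 2854, false, false⟩,
  ⟨[47, 57, 69], [0, 1, 1, 0, 2], [1, 0, 2, 0, 1, 2], 4809, false, false⟩,
  ⟨[47, 61, 69], [0, 1, 1, 0, 2], [1, 0, 2, 0, 1, 2], 4813, false, false⟩,
  ⟨[47, 61, 40], [0, 1, 1, 0, 2], [1, 0, 2, 0, 1, 2], 2869, false, false⟩,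
  ⟨[47, 30, 40], [0, 1, 1, 0, 2], [1, 0, 2, 0, 1, 2], 2838, false, false⟩,
  ⟨[47, 30, 61], [0, 1, 0, 0, 1, 2], [1, 1, 2, 0, 1], 2855, false, false⟩,
  ⟨[54, 34, 7], [0, 0, 1, 2, 1, 0], [1, 0, 1, 1, 2], 2743, false, false⟩,
  ⟨[54, 35, 7], [0, 0, 1, 2, 1, 0], [1, 0, 1, 1, 2], 2815, false, false⟩,
  ⟨[54, 61, 13], [0, 0, 1, 2, 1, 0], [1, 0, 1, 1, 2], 1237, false, false⟩,
  ⟨[54, 61, 20], [0, 0, 1, 2, 1, 0], [1, 0, 1, 1, 2], 1244, false, false⟩,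
  ⟨[66, 41, 9], [0, 0, 1, 2, 1, 0], [1, 0, 1, 1, 2], 1233, false, false⟩,
  ⟨[66, 31, 13], [0, 0, 1, 2, 1, 0], [1, 0, 1, 1, 2], 877, false, false⟩,
  ⟨[5, 22, 62], [0, 0, 1, 2, 1, 0], [1, 0, 1, 1, 2], 1286, false, false⟩,
  ⟨[5, 22, 63], [0, 0, 1, 2, 1, 0], [1, 0, 1, 1, 2], 1287, false, false⟩,
  ⟨[5, 30, 68], [0, 1, 0, 0, 1], [1, 1, 2, 0, 1, 2], 414, false, false⟩,
  ⟨[5, 30, 69], [0, 1, 0, 0, 1], [1, 1, 2, 0, 1, 2], 415, false, false⟩,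
  ⟨[5, 30, 20], [0, 1, 1, 0, 2], [1, 0, 2, 0, 1, 2], 1110, false, false⟩,
  ⟨[5, 46, 68], [0, 1, 0, 0, 1], [1, 1, 2, 0, 1, 2], 426, false, false⟩]

/-- masks before -/
def stA5 : ℕ × ℕ × ℕ := (0xe48421000000fa90007ccc33000000fa9000f33cc4030000e70a00511444010000e70a00248040000000ba800030c0c0000000ba80000100000000008140000000000000008140000f7003f004009800400510015004009804400510000124008040200f0000017c00804022600e64040200ef0a00f007fc0c0300ef0a00cc0fc3cc00c0f89040440541440040f890c0000040000000c28020000000000000c28000c3003f0c003008080041001504001008080021042c012210ef4200330c34033330ef4b1a008021400000a8000030c030800000a8000004020000040800000004020340c0049084c001002000040880040003c033101c1c884c48000000000000000000000000000000400040000000000000000000c000400042000000004c00c000cc0300000044004000440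100802043300c332c3300080241100411141100082200900050a009180042f0f000f0f40d180442400cc00f0333000800400440050111000800000240448209008010f003c0ccc34f028290000000000000000100f0003c34131f0001494504010100001000004504000100001040000000000000000000003fcf3301ffc50000123dc3c0000000208000ffcfff440100ef9280f30fdc090310ef2b08fcfff3cc0000fc968003f013443010b90d40fccff3cc03d0ec1ec0343ccc03d200e24030f33cfc033020a3693a0ff00340e4009a84a60ff03f50701cd9cc66f33ffc0f0310e72b383c0fc3c4c001d296b503c03f31303d284d2b0fe023f48c0c98cce70c0cc3c8024ce20201f004f40c0310cd0a08cc0ff344004dd896d1030015140010c84dcd33300cc3ff11824c320c0340434741c283b3333cc401f313e3697b0cf300503111d2c4dd03f01654c7d1bb4fff000300135c007bcc20, 0x0, 0x0)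

/-- masks after -/
def stB5 : ℕ × ℕ × ℕ := (0xe48421000000fa90007ccc33000000fa9000ff3ccc030000e70a00551444010000e70a00249240000000faa00030f3c0000000faa000639024102000fbc800f1f03c303000fbc800cff003f00400ba8040455001500400ba844025b000012400fac0203fd000017c00fac022600e64040200ef0a00f007fc0c0300ef0a00cc0fc3cc00c0f89040440541440040f890c02002c0000040d2a020300340010040d2a000c30c3f3c00300d08004104151400100d080221042c012210ef6240330c34033330ef6b5b008021400000a8000030c030800000a8000004820000044800000004c20340c0c49084c001002000040880040003c033101c1c884c48000000000000000000000000000000400040000000000000000000c000400042000000004c30c0c3ccc30000804410404144414080a043300c332c3300080241100411141100082200900050a009180042f0f000f0f40d180442400ccc0f0373000a10400444050111000a10000240448209008010f003c0ccc34f028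290000000000000000100f0003c34131f00014b4504010100001000004504000100001040000000000000000000003fcf3301ffc5000012fdf3fc133000fbcc20ffcfff440100ffb280f30fdc393310ff2b48fcfff3cc0000fc9680fff013743410f98d40ffcff3cc03d0ec1ec034fccc03d200f26230fffcfc133c20ebe93afff00340e440da84a6fff03f50701cfbcc66f33ffc0f0310e72b393c0fc3c4c001d2b6b503cc3f31303d2c6d2b0fe023f48c0c98cce70c0cc3c8024ce20201f004f42c3310ed2b5bcc0ff344004dd896d1030015140010cc4dcf3730ccc3ff11824c323c0340434741c2a3b3333cf401f313e36b7b0cf300503111d2c4dd03f01654c7d1bb4fff000f3c135c007bcc20, 0x0, 0x0)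

theorem chain5_ok : (chainOK tab steps5 stA5.1 stA5.2.1 stA5.2.2 &&
    (learnAll steps5 stA5 == stB5) && (stA5.2.1 ||| stA5.1 == stA5.1) &&
    (stA5.2.2 ||| stA5.1 == stA5.1)) = true := by decide +kernel

theorem run5 {P : Type*} [Group P] (S : Sys tab P) {g h : Subgroup.center P} (hg : g * g = 1) (hh : h * h = 1)
    (H : S.Holds g h stA5.1 stA5.2.1 stA5.2.2) : S.Holds g h stB5.1 stB5.2.1 stB5.2.2 := by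
  have h' := chain5_ok
  simp only [Bool.and_eq_true, beq_iff_eq] at h'
  rw [← h'.1.1.2]
  exact S.chain_spec hg hh steps5 _ _ _ H h'.1.2 h'.2 h'.1.1.1

end CfsgLib.Lie.MultExc.TwESixTwo
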