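import Cfsg.Agent.Lib.Lie.MultExc.TwESixTwo.Table

/-!
Deductions of the central corrections, part 6.
-/

set_option autoImplicit false
set_option maxRecDepth 100000
set_option maxHeartbeats 0

open scoped IsMulCommutative

namespace CfsgLib.Lie.MultExc.TwESixTwo

/-- deductions -/
def steps6 : List Step := [
  ⟨[5, 46, 69], [0, 1, 0, 0, 1], [1, 1, 2, 0, 1, 2], 427, false, false⟩,
  ⟨[5, 46, 22], [0, 1, 1, 0, 2], [1, 0, 2, 0, 1, 2], 1270, false, false⟩,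
  ⟨[5, 47, 22], [0, 1, 1, 0, 2], [1, 0, 2, 0, 1, 2], 1271, false, false⟩,
  ⟨[5, 54, 20], [0, 1, 1, 0, 2], [1, 0, 2, 0, 1, 2], 1134, false, false⟩,
  ⟨[5, 55, 20], [0, 1, 1, 0, 2], [1, 0, 2, 0, 1, 2], 1135, false, false⟩,
  ⟨[2, 56, 23], [0, 1, 1, 0, 2], [1, 0, 2, 0, 1, 2], 1136, false, false⟩,
  ⟨[2, 57, 23], [0, 1, 1, 0, 2], [1, 0, 2, 0, 1, 2], 1137, false, false⟩,
  ⟨[2, 22, 62], [0, 0, 1, 2, 1, 0], [1, 0, 1, 1, 2], 926, false, false⟩,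
  ⟨[2, 22, 63], [0, 0, 1, 2, 1, 0], [1, 0, 1, 1, 2], 927, false, false⟩,
  ⟨[2, 40, 23], [0, 1, 1, 0, 2], [1, 0, 2, 0, 1, 2], 1120, false, false⟩,
  ⟨[2, 40, 22], [0, 1, 1, 0, 2], [1, 0, 2, 0, 1, 2], 904, false, false⟩,
  ⟨[2, 41, 23], [0, 1, 1, 0, 2], [1, 0, 2, 0, 1, 2], 1121, false, false⟩,
  ⟨[2, 60, 22], [0, 1, 1, 0, 2], [1, 0, 2, 0, 1, 2], 924, false, false⟩,
  ⟨[2, 61, 22], [0, 1, 1, 0, 2], [1, 0, 2, 0, 1, 2], 925, false, false⟩,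
  ⟨[2, 30, 41], [0, 1, 0, 0, 1, 2], [1, 1, 2, 0, 1], 290, false, false⟩,
  ⟨[2, 54, 61], [0, 1, 0, 0, 1, 2], [1, 1, 2, 0, 1], 1226, false, false⟩,
  ⟨[4, 56, 23], [0, 1, 1, 0, 2], [1, 0, 2, 0, 1, 2], 1280, false, false⟩,
  ⟨[4, 57, 23], [0, 1, 1, 0, 2], [1, 0, 2, 0, 1, 2], 1281, false, false⟩,
  ⟨[4, 30, 60], [0, 1, 0, 0, 1, 2], [1, 1, 2, 0, 1], 2740, false, false⟩,
  ⟨[4, 46, 61], [0, 1, 0, 0, 1, 2], [1, 1, 2, 0, 1], 1084, false, false⟩,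
  ⟨[15, 24, 13], [0, 1, 1, 0, 2], [1, 0, 2, 0, 1, 2], 1248, false, false⟩,
  ⟨[15, 25, 13], [0, 1, 1, 0, 2], [1, 0, 2, 0, 1, 2], 1249, false, false⟩,
  ⟨[15, 54, 61], [0, 1, 0, 0, 1, 2], [1, 1, 2, 0, 1], 1239, false, false⟩,
  ⟨[58, 25, 12], [0, 0, 1, 2, 1, 0], [1, 0, 1, 1, 2], 2388, false, false⟩,
  ⟨[44, 20, 58], [0, 1, 1, 0, 2], [1, 0, 2, 0, 1, 2], 3764, false, false⟩,
  ⟨[44, 20, 59], [0, 1, 1, 0, 2], [1, 0, 2, 0, 1, 2], 3836, false, false⟩,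
  ⟨[46, 25, 12], [0, 0, 1, 2, 1, 0], [1, 0, 1, 1, 2], 156, false, false⟩,
  ⟨[1, 46, 25], [0, 1, 0, 0, 1, 2], [1, 1, 2, 0, 1], 145, false, false⟩,
  ⟨[52, 46, 20], [0, 0, 1, 2, 1, 0], [1, 0, 1, 1, 2], 3476, false, false⟩,
  ⟨[52, 46, 44], [0, 0, 1, 2, 1, 0], [1, 0, 1, 1, 2], 3500, false, false⟩,
  ⟨[53, 46, 20], [0, 0, 1, 2, 1, 0], [1, 0, 1, 1, 2], 3548, false, false⟩,
  ⟨[56, 33, 12], [0, 0, 1, 2, 1, 0], [1, 0, 1, 1, 2], 660, false, false⟩,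
  ⟨[56, 2, 33], [0, 1, 1, 0, 2], [1, 0, 2, 0, 1, 2], 650, false, false⟩,
  ⟨[56, 52, 46], [0, 1, 0, 0, 1, 2], [1, 1, 2, 0, 1], 3512, false, false⟩,
  ⟨[56, 53, 20], [0, 0, 1, 2, 1, 0], [1, 0, 1, 1, 2], 1316, false, false⟩,
  ⟨[57, 53, 46], [0, 1, 0, 0, 1, 2], [1, 1, 2, 0, 1], 3585, false, false⟩,
  ⟨[57, 53, 47], [0, 1, 0, 0, 1, 2], [1, 1, 2, 0, 1], 3513, false, false⟩,
  ⟨[28, 56, 58], [0, 0, 1, 2, 1, 0], [1, 0, 1, 1, 2], 3082, false, false⟩,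
  ⟨[28, 56, 32], [0, 0, 1, 2, 1, 0], [1, 0, 1, 1, 2], 3056, false, false⟩,
  ⟨[30, 56, 52], [0, 1, 1, 0, 2], [1, 0, 2, 0, 1, 2], 3080, false, false⟩,
  ⟨[30, 28, 52], [0, 1, 1, 0, 2], [1, 0, 2, 0, 1, 2], 3052, false, false⟩,
  ⟨[8, 24, 12], [0, 1, 1, 0, 2], [1, 0, 2, 0, 1, 2], 672, false, false⟩,
  ⟨[8, 25, 12], [0, 1, 1, 0, 2], [1, 0, 2, 0, 1, 2], 673, false, false⟩,
  ⟨[8, 56, 33], [0, 1, 0, 0, 1, 2], [1, 1, 2, 0, 1], 656, false, false⟩,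
  ⟨[8, 56, 53], [0, 1, 0, 0, 1, 2], [1, 1, 2, 0, 1], 1304, false, false⟩,
  ⟨[8, 28, 56], [0, 1, 0, 0, 1, 2], [1, 1, 2, 0, 1], 3032, false, false⟩,
  ⟨[10, 8, 56], [0, 0, 1, 2, 1, 0], [1, 0, 1, 1, 2], 488, false, false⟩,
  ⟨[10, 8, 57], [0, 0, 1, 2, 1, 0], [1, 0, 1, 1, 2], 489, false, false⟩,
  ⟨[9, 10, 2], [0, 0, 1, 2, 1, 0], [1, 0, 1, 1, 2], 506, false, false⟩,
  ⟨[48, 28, 56], [0, 1, 0, 0, 1, 2], [1, 1, 2, 0, 1], 3072, false, false⟩,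
  ⟨[48, 31, 1], [0, 0, 1, 2, 1, 0], [1, 0, 1, 1, 2], 505, false, false⟩,
  ⟨[48, 8, 31], [0, 1, 1, 0, 2], [1, 0, 2, 0, 1, 2], 512, false, false⟩,
  ⟨[48, 9, 29], [0, 1, 1, 0, 2], [1, 0, 2, 0, 1, 2], 441, false, false⟩,
  ⟨[26, 33, 12], [0, 0, 1, 2, 1, 0], [1, 0, 1, 1, 2], 12, false, false⟩,
  ⟨[26, 53, 20], [0, 0, 1, 2, 1, 0], [1, 0, 1, 1, 2], 452, false, false⟩,
  ⟨[26, 28, 56], [0, 1, 0, 0, 1, 2], [1, 1, 2, 0, 1], 3050, false, false⟩,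
  ⟨[26, 26, 58], [0], [1, 1, 2, 0, 2, 0, 1], 3066, false, false⟩,
  ⟨[18, 1, 46], [0, 0, 1, 2, 1, 0], [1, 0, 1, 1, 2], 478, false, false⟩,
  ⟨[18, 2, 32], [0, 0, 1, 2, 1, 0], [1, 0, 1, 1, 2], 536, false, false⟩,
  ⟨[18, 2, 33], [0, 0, 1, 2, 1, 0], [1, 0, 1, 1, 2], 537, false, false⟩,
  ⟨[18, 2, 44], [0, 0, 1, 2, 1, 0], [1, 0, 1, 1, 2], 548, false, false⟩,
  ⟨[18, 30, 29], [0, 1, 0, 0, 1, 2], [1, 1, 2, 0, 1], 18, false, false⟩,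
  ⟨[18, 9, 10], [0, 1, 0, 0, 1, 2], [1, 1, 2, 0, 1], 522, false, false⟩,
  ⟨[0, 19, 59], [0, 0, 1, 2, 1, 0], [1, 0, 1, 1, 2], 491, false, false⟩,
  ⟨[6, 23, 18], [0, 0, 1, 2, 1, 0], [1, 0, 1, 1, 2], 1386, false, false⟩,
  ⟨[6, 23, 58], [0, 0, 1, 2, 1, 0], [1, 0, 1, 1, 2], 1426, false, false⟩,
  ⟨[6, 23, 59], [0, 0, 1, 2, 1, 0], [1, 0, 1, 1, 2], 1427, false, false⟩,
  ⟨[44, 23, 41], [0, 1, 1, 0, 2], [1, 0, 2, 0, 1, 2], 2687, false, false⟩,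
  ⟨[44, 23, 58], [0, 1, 1, 0, 2], [1, 0, 2, 0, 1, 2], 3767, false, false⟩,
  ⟨[44, 23, 59], [0, 1, 1, 0, 2], [1, 0, 2, 0, 1, 2], 3839, false, false⟩,
  ⟨[44, 68, 18], [0, 0, 1, 2, 1, 0], [1, 0, 1, 1, 2], 4626, false, false⟩,
  ⟨[44, 69, 18], [0, 0, 1, 2, 1, 0], [1, 0, 1, 1, 2], 4698, false, false⟩,
  ⟨[28, 13, 70], [0, 1, 1, 0, 2], [1, 0, 2, 0, 1, 2], 3757, false, false⟩,
  ⟨[28, 13, 71], [0, 1, 1, 0, 2], [1, 0, 2, 0, 1, 2], 3829, false, false⟩,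
  ⟨[14, 6, 23], [0, 1, 0, 0, 1, 2], [1, 1, 2, 0, 1], 1382, false, false⟩,
  ⟨[14, 28, 70], [0, 1, 0, 0, 1, 2], [1, 1, 2, 0, 1], 3758, false, false⟩,
  ⟨[14, 28, 71], [0, 1, 0, 0, 1, 2], [1, 1, 2, 0, 1], 3830, false, false⟩,
  ⟨[36, 13, 70], [0, 1, 1, 0, 2], [1, 0, 2, 0, 1, 2], 4621, false, false⟩,
  ⟨[37, 13, 70], [0, 1, 1, 0, 2], [1, 0, 2, 0, 1, 2], 4693, false, false⟩,
  ⟨[19, 13, 60], [0, 0, 1, 2, 1, 0], [1, 0, 1, 1, 2], 1572, false, false⟩,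
  ⟨[19, 13, 61], [0, 0, 1, 2, 1, 0], [1, 0, 1, 1, 2], 1573, false, false⟩,
  ⟨[52, 1, 60], [0, 1, 1, 0, 2], [1, 0, 2, 0, 1, 2], 4609, false, false⟩,
  ⟨[52, 14, 69], [0, 1, 1, 0, 2], [1, 0, 2, 0, 1, 2], 1526, false, false⟩,
  ⟨[52, 37, 23], [0, 0, 1, 2, 1, 0], [1, 0, 1, 1, 2], 815, false, false⟩,
  ⟨[8, 44, 68], [0, 1, 0, 0, 1, 2], [1, 1, 2, 0, 1], 4616, false, false⟩,
  ⟨[8, 14, 70], [0, 0, 1, 2, 1, 0], [1, 0, 1, 1, 2], 862, false, false⟩,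
  ⟨[8, 14, 71], [0, 0, 1, 2, 1, 0], [1, 0, 1, 1, 2], 863, false, false⟩,
  ⟨[10, 22, 64], [0, 0, 1, 2, 1, 0], [1, 0, 1, 1, 2], 1504, false, false⟩,
  ⟨[10, 22, 65], [0, 0, 1, 2, 1, 0], [1, 0, 1, 1, 2], 1505, false, false⟩,
  ⟨[0, 22, 51], [0, 0, 1, 2, 1, 0], [1, 0, 1, 1, 2], 699, false, false⟩,
  ⟨[56, 44, 26], [0, 0, 1, 2, 1, 0], [1, 0, 1, 1, 2], 3482, false, false⟩,
  ⟨[57, 44, 27], [0, 0, 1, 2, 1, 0], [1, 0, 1, 1, 2], 3555, false, false⟩,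
  ⟨[9, 11, 26], [0, 0, 1, 2, 1, 0], [1, 0, 1, 1, 2], 602, false, false⟩,
  ⟨[70, 28, 10], [0, 0, 1, 2, 1, 0], [1, 0, 1, 1, 2], 3754, false, false⟩,
  ⟨[70, 11, 27], [0, 1, 1, 0, 2], [1, 0, 2, 0, 1, 2], 3539, false, false⟩,
  ⟨[70, 56, 44], [0, 1, 0, 0, 1, 2], [1, 1, 2, 0, 1], 3526, false, false⟩,
  ⟨[26, 26, 70], [0], [1, 1, 2, 0, 2, 0, 1], 3504, false, false⟩,
  ⟨[70, 57, 44], [0, 1, 0, 0, 1, 2], [1, 1, 2, 0, 1], 3598, false, false⟩,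
  ⟨[27, 27, 70], [0], [1, 1, 2, 0, 2, 0, 1], 3577, false, false⟩,
  ⟨[70, 9, 28], [0, 1, 1, 0, 2], [1, 0, 2, 0, 1, 2], 3753, false, false⟩,
  ⟨[70, 9, 29], [0, 1, 1, 0, 2], [1, 0, 2, 0, 1, 2], 3825, false, false⟩,
  ⟨[71, 57, 45], [0, 1, 0, 0, 1, 2], [1, 1, 2, 0, 1], 3527, false, false⟩,
  ⟨[21, 56, 10], [0, 1, 1, 0, 2], [1, 0, 2, 0, 1, 2], 1424, false, false⟩,
  ⟨[21, 56, 0], [0, 1, 1, 0, 2], [1, 0, 2, 0, 1, 2], 632, false, false⟩,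
  ⟨[21, 57, 10], [0, 1, 1, 0, 2], [1, 0, 2, 0, 1, 2], 1425, false, false⟩,
  ⟨[21, 70, 28], [0, 1, 0, 0, 1, 2], [1, 1, 2, 0, 1], 3765, false, false⟩,
  ⟨[21, 70, 29], [0, 1, 0, 0, 1, 2], [1, 1, 2, 0, 1], 3837, false, false⟩,
  ⟨[7, 56, 44], [0, 1, 0, 0, 1, 2], [1, 1, 2, 0, 1], 3463, false, false⟩,
  ⟨[7, 56, 28], [0, 1, 0, 0, 1, 2], [1, 1, 2, 0, 1], 3031, false, false⟩,
  ⟨[7, 57, 44], [0, 1, 0, 0, 1, 2], [1, 1, 2, 0, 1], 3535, false, false⟩,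
  ⟨[7, 70, 45], [0, 1, 0, 0, 1, 2], [1, 1, 2, 0, 1], 1375, false, false⟩,
  ⟨[7, 70, 28], [0, 1, 0, 0, 1, 2], [1, 1, 2, 0, 1], 3751, false, false⟩,
  ⟨[7, 70, 11], [0, 1, 1, 0, 2], [1, 0, 2, 0, 1, 2], 502, false, false⟩,
  ⟨[7, 71, 11], [0, 1, 1, 0, 2], [1, 0, 2, 0, 1, 2], 503, false, false⟩,
  ⟨[7, 58, 29], [0, 1, 0, 0, 1, 2], [1, 1, 2, 0, 1], 583, false, false⟩,
  ⟨[48, 22, 50], [0, 1, 1, 0, 2], [1, 0, 2, 0, 1, 2], 3766, false, false⟩,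
  ⟨[48, 22, 51], [0, 1, 1, 0, 2], [1, 0, 2, 0, 1, 2], 3838, false, false⟩,
  ⟨[48, 21, 29], [0, 1, 1, 0, 2], [1, 0, 2, 0, 1, 2], 453, false, false⟩,
  ⟨[19, 9, 50], [0, 0, 1, 2, 1, 0], [1, 0, 1, 1, 2], 1346, false, false⟩,
  ⟨[19, 9, 51], [0, 0, 1, 2, 1, 0], [1, 0, 1, 1, 2], 1347, false, false⟩,
  ⟨[58, 18, 62], [0, 1, 1, 0, 2], [1, 0, 2, 0, 1, 2], 5058, false, false⟩,
  ⟨[58, 18, 63], [0, 1, 1, 0, 2], [1, 0, 2, 0, 1, 2], 5130, false, false⟩,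
  ⟨[13, 58, 60], [0, 1, 0, 0, 1, 2], [1, 1, 2, 0, 1], 4909, false, false⟩,
  ⟨[13, 58, 61], [0, 1, 0, 0, 1, 2], [1, 1, 2, 0, 1], 4981, false, false⟩,
  ⟨[70, 13, 61], [0, 1, 1, 0, 2], [1, 0, 2, 0, 1, 2], 1669, false, false⟩,
  ⟨[68, 18, 63], [0, 1, 1, 0, 2], [1, 0, 2, 0, 1, 2], 1674, false, false⟩,
  ⟨[50, 14, 18], [0, 1, 0, 0, 1, 2], [1, 1, 2, 0, 1], 1418, false, false⟩,
  ⟨[51, 14, 18], [0, 1, 0, 0, 1, 2], [1, 1, 2, 0, 1], 1419, false, false⟩,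
  ⟨[16, 18, 62], [0, 0, 1, 2, 1, 0], [1, 0, 1, 1, 2], 1574, false, false⟩,
  ⟨[16, 18, 63], [0, 0, 1, 2, 1, 0], [1, 0, 1, 1, 2], 1575, false, false⟩,
  ⟨[60, 3, 32], [0, 1, 1, 0, 2], [1, 0, 2, 0, 1, 2], 2883, false, false⟩,
  ⟨[54, 61, 3], [0, 0, 1, 2, 1, 0], [1, 0, 1, 1, 2], 1227, false, false⟩,
  ⟨[7, 54, 3], [0, 1, 1, 0, 2], [1, 0, 2, 0, 1, 2], 54, false, false⟩,
  ⟨[7, 55, 3], [0, 1, 1, 0, 2], [1, 0, 2, 0, 1, 2], 55, false, false⟩,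
  ⟨[1, 17, 3], [0, 0, 1, 2, 1, 0], [1, 0, 1, 1, 2], 363, false, false⟩,
  ⟨[0, 26, 40], [0, 1, 0, 0, 1, 2], [1, 1, 2, 0, 1], 1728, false, false⟩,
  ⟨[0, 17, 3], [0, 0, 1, 2, 1, 0], [1, 0, 1, 1, 2], 291, false, false⟩,
  ⟨[46, 1, 40], [0, 1, 1, 0, 2], [1, 0, 2, 0, 1, 2], 2737, false, false⟩,
  ⟨[46, 1, 41], [0, 1, 1, 0, 2], [1, 0, 2, 0, 1, 2], 2809, false, false⟩,
  ⟨[46, 0, 40], [0, 1, 1, 0, 2], [1, 0, 2, 0, 1, 2], 2736, false, false⟩,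
  ⟨[46, 0, 41], [0, 1, 1, 0, 2], [1, 0, 2, 0, 1, 2], 2808, false, false⟩,
  ⟨[34, 0, 41], [0, 1, 1, 0, 2], [1, 0, 2, 0, 1, 2], 360, false, false⟩,
  ⟨[24, 17, 10], [0, 1, 0, 0, 1, 2], [1, 1, 2, 0, 1], 1104, false, false⟩,
  ⟨[15, 1, 17], [0, 1, 0, 0, 1, 2], [1, 1, 2, 0, 1], 375, false, false⟩,
  ⟨[15, 0, 40], [0, 0, 1, 2, 1, 0], [1, 0, 1, 1, 2], 184, false, false⟩,
  ⟨[15, 0, 41], [0, 0, 1, 2, 1, 0], [1, 0, 1, 1, 2], 185, false, false⟩,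
  ⟨[12, 0, 17], [0, 1, 0, 0, 1, 2], [1, 1, 2, 0, 1], 300, false, false⟩,
  ⟨[12, 46, 40], [0, 1, 0, 0, 1, 2], [1, 1, 2, 0, 1], 2748, false, false⟩,
  ⟨[12, 34, 41], [0, 1, 0, 0, 1, 2], [1, 1, 2, 0, 1], 372, false, false⟩,
  ⟨[58, 18, 46], [0, 1, 1, 0, 2], [1, 0, 2, 0, 1, 2], 4050, false, false⟩,
  ⟨[58, 18, 47], [0, 1, 1, 0, 2], [1, 0, 2, 0, 1, 2], 4122, false, false⟩,
  ⟨[3, 38, 22], [0, 1, 1, 0, 2], [1, 0, 2, 0, 1, 2], 974, false, false⟩,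
  ⟨[56, 38, 40], [0, 1, 1, 0, 2], [1, 0, 2, 0, 1, 2], 3926, false, false⟩,
  ⟨[56, 58, 40], [0, 1, 1, 0, 2], [1, 0, 2, 0, 1, 2], 3946, false, false⟩,
  ⟨[57, 58, 40], [0, 1, 1, 0, 2], [1, 0, 2, 0, 1, 2], 4018, false, false⟩,
  ⟨[57, 59, 41], [0, 1, 1, 0, 2], [1, 0, 2, 0, 1, 2], 3947, false, false⟩,
  ⟨[2, 13, 28], [0, 0, 1, 2, 1, 0], [1, 0, 1, 1, 2], 316, false, false⟩,
  ⟨[54, 18, 47], [0, 1, 1, 0, 2], [1, 0, 2, 0, 1, 2], 882, false, false⟩,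
  ⟨[42, 13, 25], [0, 1, 1, 0, 2], [1, 0, 2, 0, 1, 2], 13, false, false⟩,
  ⟨[42, 2, 13], [0, 1, 0, 0, 1, 2], [1, 1, 2, 0, 1], 330, false, false⟩,
  ⟨[43, 2, 13], [0, 1, 0, 0, 1, 2], [1, 1, 2, 0, 1], 331, false, false⟩,
  ⟨[14, 7, 70], [0, 0, 1, 2, 1, 0], [1, 0, 1, 1, 2], 790, false, false⟩,
  ⟨[14, 7, 71], [0, 0, 1, 2, 1, 0], [1, 0, 1, 1, 2], 791, false, false⟩,
  ⟨[18, 42, 62], [0, 1, 0, 0, 1, 2], [1, 1, 2, 0, 1], 3474, false, false⟩,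
  ⟨[18, 42, 63], [0, 1, 0, 0, 1, 2], [1, 1, 2, 0, 1], 3546, false, false⟩,
  ⟨[26, 14, 70], [0, 1, 1, 0, 2], [1, 0, 2, 0, 1, 2], 3470, false, false⟩,
  ⟨[26, 18, 63], [0, 1, 1, 0, 2], [1, 0, 2, 0, 1, 2], 738, false, false⟩,
  ⟨[27, 14, 70], [0, 1, 1, 0, 2], [1, 0, 2, 0, 1, 2], 3542, false, false⟩,
  ⟨[28, 7, 62], [0, 1, 1, 0, 2], [1, 0, 2, 0, 1, 2], 3175, false, false⟩,
  ⟨[1, 18, 62], [0, 0, 1, 2, 1, 0], [1, 0, 1, 1, 2], 494, false, false⟩,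
  ⟨[1, 18, 63], [0, 0, 1, 2, 1, 0], [1, 0, 1, 1, 2], 495, false, false⟩,
  ⟨[1, 26, 64], [0, 1, 0, 0, 1, 2], [1, 1, 2, 0, 1], 3169, false, false⟩,
  ⟨[1, 48, 65], [0, 1, 0, 0, 1, 2], [1, 1, 2, 0, 1], 1369, false, false⟩,
  ⟨[36, 27, 15], [0, 0, 1, 2, 1, 0], [1, 0, 1, 1, 2], 87, false, false⟩,
  ⟨[17, 58, 62], [0, 1, 0, 0, 1], [1, 1, 2, 0, 1, 2], 1294, false, false⟩,
  ⟨[17, 58, 63], [0, 1, 0, 0, 1], [1, 1, 2, 0, 1, 2], 1295, false, false⟩,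
  ⟨[38, 4, 58], [0, 1, 1, 0, 2], [1, 0, 2, 0, 1, 2], 3892, false, false⟩,
  ⟨[2, 38, 48], [0, 1, 0, 0, 1, 2], [1, 1, 2, 0, 1], 3314, false, false⟩,
  ⟨[2, 39, 48], [0, 1, 0, 0, 1, 2], [1, 1, 2, 0, 1], 3386, false, false⟩,
  ⟨[54, 70, 62], [0, 1, 1, 0, 2], [1, 0, 2, 0, 1, 2], 4822, false, false⟩,
  ⟨[54, 70, 63], [0, 1, 1, 0, 2], [1, 0, 2, 0, 1, 2], 4894, false, false⟩,
  ⟨[54, 38, 62], [0, 1, 1, 0, 2], [1, 0, 2, 0, 1, 2], 4790, false, false⟩,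
  ⟨[38, 38, 70], [0], [1, 1, 2, 0, 2, 0, 1], 4818, false, false⟩,
  ⟨[54, 39, 63], [0, 1, 1, 0, 2], [1, 0, 2, 0, 1, 2], 4863, false, false⟩,
  ⟨[39, 39, 70], [0], [1, 1, 2, 0, 2, 0, 1], 4891, false, false⟩,
  ⟨[54, 18, 62], [0, 1, 1, 0, 2], [1, 0, 2, 0, 1, 2], 4770, false, false⟩,
  ⟨[54, 18, 63], [0, 1, 1, 0, 2], [1, 0, 2, 0, 1, 2], 4842, false, false⟩,
  ⟨[54, 2, 48], [0, 1, 1, 0, 2], [1, 0, 2, 0, 1, 2], 4034, false, false⟩,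
  ⟨[54, 2, 49], [0, 1, 1, 0, 2], [1, 0, 2, 0, 1, 2], 4106, false, false⟩,
  ⟨[55, 71, 63], [0, 1, 1, 0, 2], [1, 0, 2, 0, 1, 2], 4823, false, false⟩,
  ⟨[55, 39, 63], [0, 1, 1, 0, 2], [1, 0, 2, 0, 1, 2], 4791, false, false⟩,
  ⟨[30, 17, 70], [0, 1, 1, 0, 2], [1, 0, 2, 0, 1, 2], 4049, false, false⟩,
  ⟨[30, 17, 71], [0, 1, 1, 0, 2], [1, 0, 2, 0, 1, 2], 4121, false, false⟩,
  ⟨[30, 18, 17], [0, 1, 0, 0, 1, 2], [1, 1, 2, 0, 1], 1614, false, false⟩,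
  ⟨[31, 18, 17], [0, 1, 0, 0, 1, 2], [1, 1, 2, 0, 1], 1615, false, false⟩,
  ⟨[66, 4, 59], [0, 1, 1, 0, 2], [1, 0, 2, 0, 1, 2], 1588, false, false⟩,
  ⟨[66, 4, 42], [0, 1, 1, 0, 2], [1, 0, 2, 0, 1, 2], 4036, false, false⟩,
  ⟨[66, 4, 43], [0, 1, 1, 0, 2], [1, 0, 2, 0, 1, 2], 4108, false, false⟩,
  ⟨[66, 2, 49], [0, 1, 1, 0, 2], [1, 0, 2, 0, 1, 2], 1442, false, false⟩,
  ⟨[46, 17, 71], [0, 1, 1, 0, 2], [1, 0, 2, 0, 1, 2], 1457, false, false⟩,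
  ⟨[9, 38, 23], [0, 1, 1, 0, 2], [1, 0, 2, 0, 1, 2], 1622, false, false⟩,
  ⟨[9, 15, 70], [0, 0, 1, 2, 1, 0], [1, 0, 1, 1, 2], 934, false, false⟩,
  ⟨[9, 15, 71], [0, 0, 1, 2, 1, 0], [1, 0, 1, 1, 2], 935, false, false⟩,
  ⟨[70, 12, 40], [0, 1, 1, 0, 2], [1, 0, 2, 0, 1, 2], 4908, false, false⟩,
  ⟨[70, 12, 41], [0, 1, 1, 0, 2], [1, 0, 2, 0, 1, 2], 4980, false, false⟩,
  ⟨[68, 30, 12], [0, 0, 1, 2, 1, 0], [1, 0, 1, 1, 2], 3900, false, false⟩,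
  ⟨[69, 30, 12], [0, 0, 1, 2, 1, 0], [1, 0, 1, 1, 2], 3972, false, false⟩,
  ⟨[42, 68, 12], [0, 0, 1, 2, 1, 0], [1, 0, 1, 1, 2], 4188, false, false⟩,
  ⟨[42, 69, 12], [0, 0, 1, 2, 1, 0], [1, 0, 1, 1, 2], 4260, false, false⟩,
  ⟨[54, 52, 7], [0, 0, 1, 2, 1, 0], [1, 0, 1, 1, 2], 4183, false, false⟩,
  ⟨[54, 53, 7], [0, 0, 1, 2, 1, 0], [1, 0, 1, 1, 2], 4255, false, false⟩,
  ⟨[32, 69, 12], [0, 0, 1, 2, 1, 0], [1, 0, 1, 1, 2], 948, false, false⟩,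
  ⟨[8, 70, 12], [0, 1, 1, 0, 2], [1, 0, 2, 0, 1, 2], 718, false, false⟩,
  ⟨[8, 71, 12], [0, 1, 1, 0, 2], [1, 0, 2, 0, 1, 2], 719, false, false⟩,
  ⟨[70, 26, 12], [0, 0, 1, 2, 1, 0], [1, 0, 1, 1, 2], 3468, false, false⟩,
  ⟨[70, 27, 12], [0, 0, 1, 2, 1, 0], [1, 0, 1, 1, 2], 3540, false, false⟩,
  ⟨[52, 22, 46], [0, 1, 1, 0, 2], [1, 0, 2, 0, 1, 2], 3478, false, false⟩,
  ⟨[52, 20, 54], [0, 1, 1, 0, 2], [1, 0, 2, 0, 1, 2], 4196, false, false⟩,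
  ⟨[53, 22, 46], [0, 1, 1, 0, 2], [1, 0, 2, 0, 1, 2], 3550, false, false⟩,
  ⟨[53, 20, 54], [0, 1, 1, 0, 2], [1, 0, 2, 0, 1, 2], 4268, false, false⟩,
  ⟨[38, 13, 28], [0, 1, 1, 0, 2], [1, 0, 2, 0, 1, 2], 1741, false, false⟩,
  ⟨[56, 8, 17], [0, 1, 0, 0, 1], [1, 1, 2, 0, 1, 2], 4045, false, false⟩,
  ⟨[57, 8, 17], [0, 1, 0, 0, 1], [1, 1, 2, 0, 1, 2], 4117, false, false⟩,
  ⟨[22, 64, 5], [0, 1, 1, 0, 2], [1, 0, 2, 0, 1, 2], 1288, false, false⟩,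
  ⟨[22, 65, 5], [0, 1, 1, 0, 2], [1, 0, 2, 0, 1, 2], 1289, false, false⟩,
  ⟨[60, 12, 48], [0, 1, 1, 0, 2], [1, 0, 2, 0, 1, 2], 4476, false, false⟩,
  ⟨[60, 12, 49], [0, 1, 1, 0, 2], [1, 0, 2, 0, 1, 2], 4548, false, false⟩,
  ⟨[54, 61, 12], [0, 0, 1, 2, 1, 0], [1, 0, 1, 1, 2], 1236, false, false⟩,
  ⟨[54, 62, 12], [0, 0, 1, 2, 1, 0], [1, 0, 1, 1, 2], 4764, false, false⟩,
  ⟨[54, 63, 12], [0, 0, 1, 2, 1, 0], [1, 0, 1, 1, 2], 4836, false, false⟩,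
  ⟨[16, 54, 61], [0, 1, 0, 0, 1, 2], [1, 1, 2, 0, 1], 1240, false, false⟩,
  ⟨[16, 54, 62], [0, 1, 0, 0, 1, 2], [1, 1, 2, 0, 1], 4768, false, false⟩,
  ⟨[16, 54, 63], [0, 1, 0, 0, 1, 2], [1, 1, 2, 0, 1], 4840, false, false⟩,
  ⟨[13, 54, 52], [0, 1, 0, 0, 1, 2], [1, 1, 2, 0, 1], 4189, false, false⟩,
  ⟨[13, 54, 53], [0, 1, 0, 0, 1, 2], [1, 1, 2, 0, 1], 4261, false, false⟩,
  ⟨[13, 56, 53], [0, 1, 0, 0, 1, 2], [1, 1, 2, 0, 1], 1309, false, false⟩,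
  ⟨[13, 64, 56], [0, 1, 0, 0, 1, 2], [1, 1, 2, 0, 1], 5053, false, false⟩,
  ⟨[13, 64, 57], [0, 1, 0, 0, 1, 2], [1, 1, 2, 0, 1], 5125, false, false⟩,
  ⟨[66, 16, 52], [0, 1, 1, 0, 2], [1, 0, 2, 0, 1, 2], 5056, false, false⟩,
  ⟨[66, 16, 53], [0, 1, 1, 0, 2], [1, 0, 2, 0, 1, 2], 5128, false, false⟩,
  ⟨[66, 56, 52], [0, 1, 1, 0, 2], [1, 0, 2, 0, 1, 2], 5096, false, false⟩,
  ⟨[66, 57, 53], [0, 1, 1, 0, 2], [1, 0, 2, 0, 1, 2], 5169, false, false⟩,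
  ⟨[66, 64, 52], [0, 1, 1, 0, 2], [1, 0, 2, 0, 1, 2], 5104, false, false⟩,
  ⟨[66, 64, 53], [0, 1, 1, 0, 2], [1, 0, 2, 0, 1, 2], 5176, false, false⟩,
  ⟨[66, 19, 50], [0, 1, 1, 0, 2], [1, 0, 2, 0, 1, 2], 4915, false, false⟩,
  ⟨[66, 19, 51], [0, 1, 1, 0, 2], [1, 0, 2, 0, 1, 2], 4987, false, false⟩,
  ⟨[66, 13, 19], [0, 1, 0, 0, 1, 2], [1, 1, 2, 0, 1], 1578, false, false⟩,
  ⟨[67, 57, 53], [0, 1, 1, 0, 2], [1, 0, 2, 0, 1, 2], 5097, false, false⟩,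
  ⟨[67, 65, 53], [0, 1, 1, 0, 2], [1, 0, 2, 0, 1, 2], 5105, false, false⟩,
  ⟨[67, 13, 19], [0, 1, 0, 0, 1, 2], [1, 1, 2, 0, 1], 1579, false, false⟩]

/-- masks before -/
def stA6 : ℕ × ℕ × ℕ := (0xe48421000000fa90007ccc33000000fa9000ff3ccc030000e70a00551444010000e70a00249240000000faa00030f3c0000000faa000639024102000fbc800f1f03c303000fbc800cff003f00400ba8040455001500400ba844025b000012400fac0203fd000017c00fac022600e64040200ef0a00f007fc0c0300ef0a00cc0fc3cc00c0f89040440541440040f890c02002c0000040d2a020300340010040d2a000c30c3f3c00300d08004104151400100d080221042c012210ef6240330c34033330ef6b5b008021400000a8000030c030800000a8000004820000044800000004c20340c0c49084c001002000040880040003c033101c1c884c48000000000000000000000000000000400040000000000000000000c000400042000000004c30c0c3ccc300008044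10404144414080a043300c332c3300080241100411141100082200900050a009180042f0f000f0f40d180442400ccc0f0373000a10400444050111000a10000240448209008010f003c0ccc34f028290000000000000000100f0003c34131f00014b4504010100001000004504000100001040000000000000000000003fcf3301ffc5000012fdf3fc133000fbcc20ffcfff440100ffb280f30fdc393310ff2b48fcfff3cc0000fc9680fff013743410f98d40ffcff3cc03d0ec1ec034fccc03d200f26230fffcfc133c20ebe93afff00340e440da84a6fff03f50701cfbcc66f33ffc0f0310e72b393c0fc3c4c001d2b6b503cc3f31303d2c6d2b0fe023f48c0c98cce70c0cc3c8024ce20201f004f42c3310ed2b5bcc0ff344004dd896d1030015140010cc4dcf3730ccc3ff11824c323c0340434741c2a3b3333cf401f313e36b7b0cf300503111d2c4dd03f01654c7d1bb4fff000f3c135c007bcc20, 0x0, 0x0)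

/-- masks after -/
def stB6 : ℕ × ℕ × ℕ := (0xe58621000000ffb0007fcf33000000ffb000ff3ccc030000ef3a00551444010000ef3a006c9240008000ffb000f4f3c000c000ffb000639024102000ffe800f1f03c303000ffe902cff003f00400ba9040455001500400ba944025b000012400fac0203fd000017c00fac022600e64040200ff3a80f007fc0c0300ff3a80cc0fc3cc00c0feb054440541440040feb0d42006c0000040d2b020300f40014040d2b010c30c3f3c0030fd6a00410415140010fd6e8221042c012210ef6240330c34033330ef6b5b408223400008fc5880f0c331900004fc508004820000044800000404c20340c0c49084c401002000040880040003c033101c1c884cca0000000000000000000005010401144001c0000000000000000000c000400042000000084c30c0c3ccc30000834410404144414090b343300c332c3380080241100411141100082200900050a009180042f0f000f0f40d180442400ccc0f0373001a10400444050111000a10000240448209008010f003c0ccc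34f028290000000000000000100f0003c34131f00014b4504010100001000004504000100001040000000000000000000003fcf3301ffc5002013fdf3fc133000ffec20ffcfff4441c0ffb290ffffdc393310ff6b48fffff3cc0000fe9684ffff1f743410fdcdc2ffcfffcc03d0fc3fc0f7ffccc3d203f3f23cfffcfc133c20ebe93afff3c343e441da84b6fff03f50701cfbcc66f33ffc0f4310e73b39fcffc3c5c001d6b6b5c3cc3f31303dac6d2bcfe023f48c0c9ccce7cc0ccbc8024fe21305f005f42c3314ed2bdbcc0ff354034ddc97d7c3cb15540010fc4fcf3f30ccc3ff1182dc3b3c03404f4751c2b3bf333cf401f313e36b7b0cf300533111d2d4df03f01654c7d1bbcfff000ffc135c007ffc20, 0x0, 0x0)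

theorem chain6_ok : (chainOK tab steps6 stA6.1 stA6.2.1 stA6.2.2 &&
    (learnAll steps6 stA6 == stB6) && (stA6.2.1 ||| stA6.1 == stA6.1) &&
    (stA6.2.2 ||| stA6.1 == stA6.1)) = true := by decide +kernel

theorem run6 {P : Type*} [Group P] (S : Sys tab P) {g h : Subgroup.center P} (hg : g * g = 1) (hh : h * h = 1)
    (H : S.Holds g h stA6.1 stA6.2.1 stA6.2.2) : S.Holds g h stB6.1 stB6.2.1 stB6.2.2 := by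
  have h' := chain6_ok
  simp only [Bool.and_eq_true, beq_iff_eq] at h'
  rw [← h'.1.1.2]
  exact S.chain_spec hg hh steps6 _ _ _ H h'.1.2 h'.2 h'.1.1.1

end CfsgLib.Lie.MultExc.TwESixTwo
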