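import Cfsg.Agent.Lib.Lie.MultExc.TwESixTwo.Table

/-!
Deductions of the central corrections, part 7.
-/

set_option autoImplicit false
set_option maxRecDepth 100000
set_option maxHeartbeats 0

open scoped IsMulCommutative

namespace CfsgLib.Lie.MultExc.TwESixTwo

/-- deductions -/
def steps7 : List Step := [
  ⟨[58, 19, 17], [0, 1, 0, 0, 1, 2], [1, 1, 2, 0, 1], 1714, false, false⟩,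
  ⟨[59, 19, 17], [0, 1, 0, 0, 1, 2], [1, 1, 2, 0, 1], 1715, false, false⟩,
  ⟨[20, 64, 54], [0, 1, 0, 0, 1, 2], [1, 1, 2, 0, 1], 4916, false, false⟩,
  ⟨[20, 64, 55], [0, 1, 0, 0, 1, 2], [1, 1, 2, 0, 1], 4988, false, false⟩,
  ⟨[20, 13, 60], [0, 0, 1, 2, 1, 0], [1, 0, 1, 1, 2], 1644, false, false⟩,
  ⟨[20, 13, 61], [0, 0, 1, 2, 1, 0], [1, 0, 1, 1, 2], 1645, false, false⟩,
  ⟨[68, 63, 12], [0, 0, 1, 2, 1, 0], [1, 0, 1, 1, 2], 1668, false, false⟩,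
  ⟨[68, 57, 8], [0, 0, 1, 2, 1, 0], [1, 0, 1, 1, 2], 1592, false, false⟩,
  ⟨[23, 48, 8], [0, 1, 1, 0, 2], [1, 0, 2, 0, 1, 2], 1560, false, false⟩,
  ⟨[23, 49, 8], [0, 1, 1, 0, 2], [1, 0, 2, 0, 1, 2], 1561, false, false⟩,
  ⟨[16, 36, 66], [0, 1, 0, 0, 1, 2], [1, 1, 2, 0, 1], 4336, false, false⟩,
  ⟨[16, 37, 66], [0, 1, 0, 0, 1, 2], [1, 1, 2, 0, 1], 4408, false, false⟩,
  ⟨[16, 34, 67], [0, 1, 0, 0, 1, 2], [1, 1, 2, 0, 1], 1096, false, false⟩,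
  ⟨[16, 34, 70], [0, 1, 0, 0, 1, 2], [1, 1, 2, 0, 1], 4480, false, false⟩,
  ⟨[16, 34, 71], [0, 1, 0, 0, 1, 2], [1, 1, 2, 0, 1], 4552, false, false⟩,
  ⟨[15, 21, 48], [0, 0, 1, 2, 1, 0], [1, 0, 1, 1, 2], 1704, false, false⟩,
  ⟨[15, 21, 49], [0, 0, 1, 2, 1, 0], [1, 0, 1, 1, 2], 1705, false, false⟩,
  ⟨[34, 14, 70], [0, 1, 1, 0, 2], [1, 0, 2, 0, 1, 2], 4478, false, false⟩,
  ⟨[34, 14, 71], [0, 1, 1, 0, 2], [1, 0, 2, 0, 1, 2], 4550, false, false⟩,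
  ⟨[2, 62, 16], [0, 1, 1, 0, 2], [1, 0, 2, 0, 1, 2], 422, false, false⟩,
  ⟨[46, 14, 71], [0, 1, 1, 0, 2], [1, 0, 2, 0, 1, 2], 1454, false, false⟩,
  ⟨[46, 14, 68], [0, 1, 1, 0, 2], [1, 0, 2, 0, 1, 2], 4766, false, false⟩,
  ⟨[46, 14, 69], [0, 1, 1, 0, 2], [1, 0, 2, 0, 1, 2], 4838, false, false⟩,
  ⟨[46, 4, 68], [0, 1, 1, 0, 2], [1, 0, 2, 0, 1, 2], 4756, false, false⟩,
  ⟨[46, 4, 69], [0, 1, 1, 0, 2], [1, 0, 2, 0, 1, 2], 4828, false, false⟩,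
  ⟨[5, 62, 54], [0, 1, 0, 0, 1, 2], [1, 1, 2, 0, 1], 4757, false, false⟩,
  ⟨[5, 63, 54], [0, 1, 0, 0, 1, 2], [1, 1, 2, 0, 1], 4829, false, false⟩,
  ⟨[5, 20, 14], [0, 0, 1, 2, 1, 0], [1, 0, 1, 1, 2], 1094, false, false⟩,
  ⟨[12, 5, 20], [0, 1, 0, 0, 1, 2], [1, 1, 2, 0, 1], 1092, false, false⟩,
  ⟨[66, 50, 14], [0, 0, 1, 2, 1, 0], [1, 0, 1, 1, 2], 4910, false, false⟩,
  ⟨[66, 51, 14], [0, 0, 1, 2, 1, 0], [1, 0, 1, 1, 2], 4982, false, false⟩,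
  ⟨[56, 6, 50], [0, 1, 1, 0, 2], [1, 0, 2, 0, 1, 2], 4182, false, false⟩,
  ⟨[58, 62, 11], [0, 0, 1, 2, 1, 0], [1, 0, 1, 1, 2], 5051, false, false⟩,
  ⟨[48, 68, 14], [0, 0, 1, 2, 1, 0], [1, 0, 1, 1, 2], 5054, false, false⟩,
  ⟨[48, 69, 14], [0, 0, 1, 2, 1, 0], [1, 0, 1, 1, 2], 5126, false, false⟩,
  ⟨[44, 18, 66], [0, 1, 1, 0, 2], [1, 0, 2, 0, 1, 2], 4482, false, false⟩,
  ⟨[44, 18, 67], [0, 1, 1, 0, 2], [1, 0, 2, 0, 1, 2], 4554, false, false⟩,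
  ⟨[15, 56, 44], [0, 1, 0, 0, 1, 2], [1, 1, 2, 0, 1], 3471, false, false⟩,
  ⟨[15, 57, 44], [0, 1, 0, 0, 1, 2], [1, 1, 2, 0, 1], 3543, false, false⟩,
  ⟨[20, 38, 44], [0, 1, 0, 0, 1], [1, 1, 2, 0, 1, 2], 1474, false, false⟩,
  ⟨[12, 34, 56], [0, 1, 0, 0, 1, 2], [1, 1, 2, 0, 1], 3324, false, false⟩,
  ⟨[12, 48, 35], [0, 1, 0, 0, 1, 2], [1, 1, 2, 0, 1], 732, false, false⟩,
  ⟨[64, 15, 54], [0, 1, 1, 0, 2], [1, 0, 2, 0, 1, 2], 4911, false, false⟩,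
  ⟨[64, 15, 55], [0, 1, 1, 0, 2], [1, 0, 2, 0, 1, 2], 4983, false, false⟩,
  ⟨[56, 66, 40], [0, 1, 1, 0, 2], [1, 0, 2, 0, 1, 2], 3954, false, false⟩,
  ⟨[57, 66, 40], [0, 1, 1, 0, 2], [1, 0, 2, 0, 1, 2], 4026, false, false⟩,
  ⟨[57, 67, 41], [0, 1, 1, 0, 2], [1, 0, 2, 0, 1, 2], 3955, false, false⟩,
  ⟨[15, 44, 3], [0, 1, 1, 0, 2], [1, 0, 2, 0, 1, 2], 404, false, false⟩,
  ⟨[15, 45, 3], [0, 1, 1, 0, 2], [1, 0, 2, 0, 1, 2], 405, false, false⟩,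
  ⟨[10, 64, 24], [0, 1, 0, 0, 1, 2], [1, 1, 2, 0, 1], 2602, false, false⟩,
  ⟨[10, 64, 25], [0, 1, 0, 0, 1, 2], [1, 1, 2, 0, 1], 2674, false, false⟩,
  ⟨[28, 2, 41], [0, 1, 1, 0, 2], [1, 0, 2, 0, 1, 2], 218, false, false⟩,
  ⟨[68, 12, 34], [0, 1, 1, 0, 2], [1, 0, 2, 0, 1, 2], 4332, false, false⟩,
  ⟨[68, 12, 24], [0, 1, 1, 0, 2], [1, 0, 2, 0, 1, 2], 2892, false, false⟩,
  ⟨[69, 12, 34], [0, 1, 1, 0, 2], [1, 0, 2, 0, 1, 2], 4404, false, false⟩,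
  ⟨[69, 12, 24], [0, 1, 1, 0, 2], [1, 0, 2, 0, 1, 2], 2964, false, false⟩,
  ⟨[64, 13, 38], [0, 1, 1, 0, 2], [1, 0, 2, 0, 1, 2], 4333, false, false⟩,
  ⟨[64, 13, 39], [0, 1, 1, 0, 2], [1, 0, 2, 0, 1, 2], 4405, false, false⟩,
  ⟨[20, 16, 38], [0, 0, 1, 2, 1, 0], [1, 0, 1, 1, 2], 1694, false, false⟩,
  ⟨[18, 32, 66], [0, 1, 0, 0, 1, 2], [1, 1, 2, 0, 1], 3906, false, false⟩,
  ⟨[18, 33, 66], [0, 1, 0, 0, 1, 2], [1, 1, 2, 0, 1], 3978, false, false⟩,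
  ⟨[66, 21, 4], [0, 1, 0, 0, 1, 2], [1, 1, 2, 0, 1], 1002, false, false⟩,
  ⟨[67, 21, 4], [0, 1, 0, 0, 1, 2], [1, 1, 2, 0, 1], 1003, false, false⟩,
  ⟨[40, 56, 21], [0, 0, 1, 2, 1, 0], [1, 0, 1, 1, 2], 3909, false, false⟩,
  ⟨[40, 57, 21], [0, 0, 1, 2, 1, 0], [1, 0, 1, 1, 2], 3981, false, false⟩,
  ⟨[54, 5, 21], [0, 1, 0, 0, 1], [1, 1, 2, 0, 1, 2], 3904, false, false⟩,
  ⟨[55, 5, 21], [0, 1, 0, 0, 1], [1, 1, 2, 0, 1, 2], 3976, false, false⟩,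
  ⟨[58, 62, 7], [0, 0, 1, 2, 1, 0], [1, 0, 1, 1, 2], 5047, false, false⟩,
  ⟨[58, 63, 7], [0, 0, 1, 2, 1, 0], [1, 0, 1, 1, 2], 5119, false, false⟩,
  ⟨[62, 21, 12], [0, 1, 0, 0, 1], [1, 1, 2, 0, 1, 2], 4486, false, false⟩,
  ⟨[63, 21, 12], [0, 1, 0, 0, 1], [1, 1, 2, 0, 1, 2], 4558, false, false⟩,
  ⟨[48, 39, 14], [0, 0, 1, 2, 1, 0], [1, 0, 1, 1, 2], 3398, false, false⟩,
  ⟨[0, 23, 0, 48, 49], [2, 1, 0, 3, 2, 1], [3, 2, 1, 0, 3, 2, 1, 0], 3505, false, false⟩,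
  ⟨[0, 23, 0, 50, 51], [2, 1, 0, 3, 2, 1], [3, 2, 1, 0, 3, 2, 1, 0], 3651, false, false⟩,
  ⟨[0, 23, 0, 52, 53], [2, 1, 0, 3, 2, 1], [3, 2, 1, 0, 3, 2, 1, 0], 3797, false, false⟩,
  ⟨[0, 23, 0, 54, 55], [2, 1, 0, 3, 2, 1], [3, 2, 1, 0, 3, 2, 1, 0], 3943, false, false⟩,
  ⟨[0, 23, 0, 56, 57], [2, 1, 0, 3, 2, 1], [3, 2, 1, 0, 3, 2, 1, 0], 4089, false, false⟩,
  ⟨[0, 23, 0, 58, 59], [2, 1, 0, 3, 2, 1], [3, 2, 1, 0, 3, 2, 1, 0], 4235, false, false⟩,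
  ⟨[1, 22, 1, 53, 19], [2, 1, 0, 3, 2, 1], [3, 2, 1, 0, 3, 2, 1, 0], 1421, false, false⟩,
  ⟨[1, 22, 1, 60, 61], [2, 1, 0, 3, 2, 1], [3, 2, 1, 0, 3, 2, 1, 0], 4381, false, false⟩,
  ⟨[1, 22, 1, 62, 63], [2, 1, 0, 3, 2, 1], [3, 2, 1, 0, 3, 2, 1, 0], 4527, false, false⟩,
  ⟨[1, 22, 1, 64, 65], [2, 1, 0, 3, 2, 1], [3, 2, 1, 0, 3, 2, 1, 0], 4673, false, false⟩,
  ⟨[2, 21, 2, 17, 67], [2, 1, 0, 3, 2, 1], [3, 2, 1, 0, 3, 2, 1, 0], 1291, false, false⟩,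
  ⟨[2, 21, 2, 66, 67], [2, 1, 0, 3, 2, 1], [3, 2, 1, 0, 3, 2, 1, 0], 4819, false, false⟩,
  ⟨[3, 20, 3, 53, 21], [2, 1, 0, 3, 2, 1], [3, 2, 1, 0, 3, 2, 1, 0], 1565, false, false⟩,
  ⟨[3, 20, 3, 68, 69], [2, 1, 0, 3, 2, 1], [3, 2, 1, 0, 3, 2, 1, 0], 4965, false, false⟩,
  ⟨[4, 19, 4, 8, 29], [2, 1, 0, 3, 2, 1], [3, 2, 1, 0, 3, 2, 1, 0], 605, false, false⟩,
  ⟨[5, 18, 5, 65, 23], [2, 1, 0, 3, 2, 1], [3, 2, 1, 0, 3, 2, 1, 0], 1721, false, false⟩,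
  ⟨[6, 17, 6, 70, 71], [2, 1, 0, 3, 2, 1], [3, 2, 1, 0, 3, 2, 1, 0], 5111, false, false⟩,
  ⟨[40, 47, 46], [0, 0, 1, 2, 1, 1, 0, 2], [1, 0, 2, 2, 3, 0, 1, 2], 2783, false, false⟩,
  ⟨[38, 8, 41], [0, 1, 0, 2, 1, 3, 2, 1, 0], [1, 0, 1, 2, 3, 1, 2], 2345, false, false⟩,
  ⟨[1, 22, 1, 41, 32], [2, 1, 0, 3, 2, 1], [3, 2, 1, 0, 3, 2, 1, 0], 2984, false, false⟩,
  ⟨[38, 11, 41], [0, 1, 0, 2, 1, 3, 2, 1, 0], [1, 0, 1, 2, 3, 1, 2], 2633, false, false⟩,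
  ⟨[42, 46, 14], [0, 1, 2, 1, 0, 3, 2], [1, 0, 3, 1, 2, 3, 0, 1, 2], 3214, false, false⟩,
  ⟨[0, 23, 0, 46, 44], [2, 1, 0, 3, 2, 1], [3, 2, 1, 0, 3, 2, 1, 0], 3356, false, false⟩,
  ⟨[42, 11, 46], [0, 1, 0, 1, 0, 2, 1, 3, 2], [1, 2, 3, 1, 2, 0, 1], 3210, false, false⟩,
  ⟨[2, 21, 2, 42, 44], [2, 1, 0, 3, 2, 1], [3, 2, 1, 0, 3, 2, 1, 0], 3068, false, false⟩,
  ⟨[44, 39, 47], [0, 0, 1, 2, 1, 1, 0, 2], [1, 0, 2, 2, 3, 0, 1, 2], 2567, false, false⟩,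
  ⟨[0, 23, 0, 47, 35], [2, 1, 0, 3, 2, 1], [3, 2, 1, 0, 3, 2, 1, 0], 3419, false, false⟩,
  ⟨[32, 38, 14], [0, 1, 2, 1, 0, 3, 2], [1, 0, 3, 1, 2, 3, 0, 1, 2], 2630, false, false⟩,
  ⟨[0, 23, 0, 38, 36], [2, 1, 0, 3, 2, 1], [3, 2, 1, 0, 3, 2, 1, 0], 2772, false, false⟩,
  ⟨[44, 38, 40], [0, 0, 1, 2, 1, 1, 0, 2], [1, 0, 2, 2, 3, 0, 1, 2], 2488, false, false⟩,
  ⟨[45, 39, 40], [0, 0, 1, 2, 1, 1, 0, 2], [1, 0, 2, 2, 3, 0, 1, 2], 2703, false, false⟩,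
  ⟨[0, 23, 0, 39, 37], [2, 1, 0, 3, 2, 1], [3, 2, 1, 0, 3, 2, 1, 0], 2845, false, false⟩,
  ⟨[44, 39, 41], [0, 0, 1, 2, 1, 1, 0, 2], [1, 0, 2, 2, 3, 0, 1, 2], 2561, false, false⟩,
  ⟨[32, 38, 11], [0, 1, 0, 1, 0, 2, 1, 3, 2], [1, 2, 3, 1, 2, 0, 1], 2624, false, false⟩,
  ⟨[2, 21, 2, 32, 36], [2, 1, 0, 3, 2, 1], [3, 2, 1, 0, 3, 2, 1, 0], 2340, false, false⟩,
  ⟨[33, 39, 11], [0, 1, 0, 1, 0, 2, 1, 3, 2], [1, 2, 3, 1, 2, 0, 1], 2697, false, false⟩,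
  ⟨[2, 21, 2, 33, 37], [2, 1, 0, 3, 2, 1], [3, 2, 1, 0, 3, 2, 1, 0], 2413, false, false⟩,
  ⟨[36, 32, 7], [0, 1, 2, 1, 0, 3, 2], [1, 0, 3, 1, 2, 3, 0, 1, 2], 1904, false, false⟩,
  ⟨[5, 18, 5, 32, 26], [2, 1, 0, 3, 2, 1], [3, 2, 1, 0, 3, 2, 1, 0], 2330, false, false⟩,
  ⟨[36, 32, 10], [0, 1, 0, 1, 0, 2, 1, 3, 2], [1, 2, 3, 1, 2, 0, 1], 1908, false, false⟩,
  ⟨[37, 33, 7], [0, 1, 2, 1, 0, 3, 2], [1, 0, 3, 1, 2, 3, 0, 1, 2], 1977, false, false⟩,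
  ⟨[5, 18, 5, 33, 27], [2, 1, 0, 3, 2, 1], [3, 2, 1, 0, 3, 2, 1, 0], 2403, false, false⟩,
  ⟨[30, 11, 40], [0, 1, 0, 2, 1, 3, 2, 1, 0], [1, 0, 1, 2, 3, 1, 2], 2056, false, false⟩,
  ⟨[2, 21, 2, 40, 28], [2, 1, 0, 3, 2, 1], [3, 2, 1, 0, 3, 2, 1, 0], 2908, false, false⟩,
  ⟨[30, 36, 44], [0, 0, 1, 2, 1, 1, 0, 2], [1, 0, 2, 2, 3, 0, 1, 2], 1772, false, false⟩,
  ⟨[31, 11, 41], [0, 1, 0, 2, 1, 3, 2, 1, 0], [1, 0, 1, 2, 3, 1, 2], 2129, false, false⟩,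
  ⟨[34, 30, 8], [0, 1, 2, 1, 0, 3, 2], [1, 0, 3, 1, 2, 3, 0, 1, 2], 2046, false, false⟩,
  ⟨[34, 30, 11], [0, 1, 0, 1, 0, 2, 1, 3, 2], [1, 2, 3, 1, 2, 0, 1], 2050, false, false⟩,
  ⟨[4, 19, 4, 34, 28], [2, 1, 0, 3, 2, 1], [3, 2, 1, 0, 3, 2, 1, 0], 2476, false, false⟩,
  ⟨[35, 31, 8], [0, 1, 2, 1, 0, 3, 2], [1, 0, 3, 1, 2, 3, 0, 1, 2], 2119, false, false⟩,
  ⟨[35, 31, 11], [0, 1, 0, 1, 0, 2, 1, 3, 2], [1, 2, 3, 1, 2, 0, 1], 2123, false, false⟩,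
  ⟨[55, 29, 59], [0, 1, 0, 2, 1, 3, 2, 1, 0], [1, 0, 1, 2, 3, 1, 2], 2363, false, false⟩,
  ⟨[6, 17, 6, 32, 59], [2, 1, 0, 3, 2, 1], [3, 2, 1, 0, 3, 2, 1, 0], 4280, false, false⟩,
  ⟨[23, 28, 58], [0, 1, 0, 2, 1, 3, 2, 1, 0], [1, 0, 1, 2, 3, 1, 2], 4666, false, false⟩,
  ⟨[3, 20, 3, 58, 64], [2, 1, 0, 3, 2, 1], [3, 2, 1, 0, 3, 2, 1, 0], 4240, false, false⟩,
  ⟨[23, 29, 59], [0, 1, 0, 2, 1, 3, 2, 1, 0], [1, 0, 1, 2, 3, 1, 2], 4739, false, false⟩,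
  ⟨[3, 20, 3, 59, 65], [2, 1, 0, 3, 2, 1], [3, 2, 1, 0, 3, 2, 1, 0], 4313, false, false⟩,
  ⟨[24, 23, 54], [0, 1, 0, 2, 1, 3, 2, 1, 0], [1, 0, 1, 2, 3, 1, 2], 4374, false, false⟩,
  ⟨[2, 21, 2, 54, 60], [2, 1, 0, 3, 2, 1], [3, 2, 1, 0, 3, 2, 1, 0], 3948, false, false⟩,
  ⟨[25, 23, 38], [0, 1, 0, 2, 1, 3, 2, 1, 0], [1, 0, 1, 2, 3, 1, 2], 4430, false, false⟩,
  ⟨[1, 22, 1, 38, 61], [2, 1, 0, 3, 2, 1], [3, 2, 1, 0, 3, 2, 1, 0], 2797, false, false⟩,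
  ⟨[25, 23, 55], [0, 1, 0, 2, 1, 3, 2, 1, 0], [1, 0, 1, 2, 3, 1, 2], 4447, false, false⟩,
  ⟨[2, 21, 2, 55, 61], [2, 1, 0, 3, 2, 1], [3, 2, 1, 0, 3, 2, 1, 0], 4021, false, false⟩,
  ⟨[14, 28, 58], [0, 1, 2, 1, 0, 3, 2], [1, 0, 3, 1, 2, 3, 0, 1, 2], 4636, false, false⟩,
  ⟨[14, 24, 54], [0, 1, 2, 1, 0, 3, 2], [1, 0, 3, 1, 2, 3, 0, 1, 2], 4344, false, false⟩,
  ⟨[14, 25, 55], [0, 1, 2, 1, 0, 3, 2], [1, 0, 3, 1, 2, 3, 0, 1, 2], 4417, false, false⟩,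
  ⟨[32, 23, 59], [0, 1, 0, 2, 1, 3, 2, 1, 0], [1, 0, 1, 2, 3, 1, 2], 4955, false, false⟩,
  ⟨[3, 20, 3, 59, 68], [2, 1, 0, 3, 2, 1], [3, 2, 1, 0, 3, 2, 1, 0], 4316, false, false⟩,
  ⟨[32, 23, 55], [0, 1, 0, 2, 1, 3, 2, 1, 0], [1, 0, 1, 2, 3, 1, 2], 4951, false, false⟩,
  ⟨[3, 20, 3, 55, 68], [2, 1, 0, 3, 2, 1], [3, 2, 1, 0, 3, 2, 1, 0], 4028, false, false⟩,
  ⟨[64, 32, 24], [0, 0, 1, 2, 1, 1, 0, 2], [1, 0, 2, 2, 3, 0, 1, 2], 3624, false, false⟩,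
  ⟨[64, 33, 59], [0, 0, 1, 2, 1, 1, 0, 2], [1, 0, 2, 2, 3, 0, 1, 2], 3731, false, false⟩,
  ⟨[0, 23, 0, 51, 59], [2, 1, 0, 3, 2, 1], [3, 2, 1, 0, 3, 2, 1, 0], 4299, false, false⟩,
  ⟨[64, 33, 25], [0, 0, 1, 2, 1, 1, 0, 2], [1, 0, 2, 2, 3, 0, 1, 2], 3697, false, false⟩,
  ⟨[21, 24, 54], [0, 1, 0, 2, 1, 3, 2, 1, 0], [1, 0, 1, 2, 3, 1, 2], 3654, false, false⟩,
  ⟨[0, 23, 0, 54, 50], [2, 1, 0, 3, 2, 1], [3, 2, 1, 0, 3, 2, 1, 0], 3938, false, false⟩,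
  ⟨[64, 32, 54], [0, 0, 1, 2, 1, 1, 0, 2], [1, 0, 2, 2, 3, 0, 1, 2], 4928, false, false⟩,
  ⟨[65, 33, 54], [0, 0, 1, 2, 1, 1, 0, 2], [1, 0, 2, 2, 3, 0, 1, 2], 5001, false, false⟩,
  ⟨[64, 33, 55], [0, 0, 1, 2, 1, 1, 0, 2], [1, 0, 2, 2, 3, 0, 1, 2], 3727, false, false⟩,
  ⟨[0, 23, 0, 55, 51], [2, 1, 0, 3, 2, 1], [3, 2, 1, 0, 3, 2, 1, 0], 4011, false, false⟩,
  ⟨[4, 64, 58], [0, 1, 0, 2, 1, 3, 2, 1, 0], [1, 0, 1, 2, 3, 1, 2], 2938, false, false⟩,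
  ⟨[0, 23, 0, 40, 58], [2, 1, 0, 3, 2, 1], [3, 2, 1, 0, 3, 2, 1, 0], 4216, false, false⟩,
  ⟨[60, 33, 55], [0, 0, 1, 2, 1, 1, 0, 2], [1, 0, 2, 2, 3, 0, 1, 2], 3007, false, false⟩,
  ⟨[60, 21, 24], [0, 1, 0, 1, 0, 2, 1, 3, 2], [1, 2, 3, 1, 2, 0, 1], 3660, false, false⟩,
  ⟨[1, 22, 1, 50, 60], [2, 1, 0, 3, 2, 1], [3, 2, 1, 0, 3, 2, 1, 0], 4370, false, false⟩,
  ⟨[61, 32, 38], [0, 1, 0, 2, 1, 3, 2, 1, 0], [1, 0, 1, 2, 3, 1, 2], 2990, false, false⟩,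
  ⟨[0, 23, 0, 41, 38], [2, 1, 0, 3, 2, 1], [3, 2, 1, 0, 3, 2, 1, 0], 2777, false, false⟩,
  ⟨[61, 65, 59], [0, 1, 2, 1, 0, 3, 2], [1, 0, 3, 1, 2, 3, 0, 1, 2], 4961, false, false⟩,
  ⟨[3, 20, 3, 68, 65], [2, 1, 0, 3, 2, 1], [3, 2, 1, 0, 3, 2, 1, 0], 4748, false, false⟩,
  ⟨[61, 65, 29], [0, 1, 2, 1, 0, 3, 2], [1, 0, 3, 1, 2, 3, 0, 1, 2], 2657, false, false⟩,
  ⟨[6, 17, 6, 36, 65], [2, 1, 0, 3, 2, 1], [3, 2, 1, 0, 3, 2, 1, 0], 4716, false, false⟩,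
  ⟨[61, 65, 55], [0, 1, 0, 1, 0, 2, 1, 3, 2], [1, 2, 3, 1, 2, 0, 1], 4957, false, false⟩,
  ⟨[3, 20, 3, 61, 68], [2, 1, 0, 3, 2, 1], [3, 2, 1, 0, 3, 2, 1, 0], 4460, false, false⟩,
  ⟨[61, 65, 8], [0, 1, 2, 1, 0, 3, 2], [1, 0, 3, 1, 2, 3, 0, 1, 2], 3737, false, false⟩,
  ⟨[1, 22, 1, 51, 65], [2, 1, 0, 3, 2, 1], [3, 2, 1, 0, 3, 2, 1, 0], 4731, false, false⟩,
  ⟨[61, 65, 25], [0, 1, 0, 1, 0, 2, 1, 3, 2], [1, 2, 3, 1, 2, 0, 1], 2653, false, false⟩,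
  ⟨[61, 21, 25], [0, 1, 0, 1, 0, 2, 1, 3, 2], [1, 2, 3, 1, 2, 0, 1], 3733, false, false⟩,
  ⟨[1, 22, 1, 51, 61], [2, 1, 0, 3, 2, 1], [3, 2, 1, 0, 3, 2, 1, 0], 4443, false, false⟩,
  ⟨[61, 4, 65], [0, 1, 0, 1, 0, 2, 1, 3, 2], [1, 2, 3, 1, 2, 0, 1], 3013, false, false⟩,
  ⟨[1, 22, 1, 41, 61], [2, 1, 0, 3, 2, 1], [3, 2, 1, 0, 3, 2, 1, 0], 4433, false, false⟩,
  ⟨[68, 32, 14], [0, 1, 0, 1, 0, 2, 1, 3, 2], [1, 2, 3, 1, 2, 0, 1], 2660, false, false⟩,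
  ⟨[68, 65, 32], [0, 1, 0, 1, 0, 2, 1, 3, 2], [1, 2, 3, 1, 2, 0, 1], 3740, false, false⟩,
  ⟨[4, 19, 4, 51, 68], [2, 1, 0, 3, 2, 1], [3, 2, 1, 0, 3, 2, 1, 0], 4947, false, false⟩,
  ⟨[68, 4, 65], [0, 1, 0, 1, 0, 2, 1, 3, 2], [1, 2, 3, 1, 2, 0, 1], 3020, false, false⟩,
  ⟨[8, 15, 8, 68, 41], [2, 1, 0, 3, 2, 1], [3, 2, 1, 0, 3, 2, 1, 0], 4937, false, false⟩,
  ⟨[69, 33, 14], [0, 1, 0, 1, 0, 2, 1, 3, 2], [1, 2, 3, 1, 2, 0, 1], 2733, false, false⟩,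
  ⟨[36, 65, 32], [0, 1, 0, 1, 0, 2, 1, 3, 2], [1, 2, 3, 1, 2, 0, 1], 3708, false, false⟩,
  ⟨[17, 64, 28], [0, 1, 2, 1, 0, 3, 2], [1, 0, 3, 1, 2, 3, 0, 1, 2], 2944, false, false⟩,
  ⟨[1, 22, 1, 64, 40], [2, 1, 0, 3, 2, 1], [3, 2, 1, 0, 3, 2, 1, 0], 4648, false, false⟩,
  ⟨[17, 65, 29], [0, 1, 2, 1, 0, 3, 2], [1, 0, 3, 1, 2, 3, 0, 1, 2], 3017, false, false⟩,
  ⟨[1, 22, 1, 65, 41], [2, 1, 0, 3, 2, 1], [3, 2, 1, 0, 3, 2, 1, 0], 4721, false, false⟩,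
  ⟨[51, 4, 65], [0, 1, 0, 1, 0, 2, 1, 3, 2], [1, 2, 3, 1, 2, 0, 1], 3003, false, false⟩,
  ⟨[0, 23, 0, 51, 41], [2, 1, 0, 3, 2, 1], [3, 2, 1, 0, 3, 2, 1, 0], 3713, false, false⟩,
  ⟨[48, 51, 50], [0, 0, 1, 2, 1, 1, 0, 2], [1, 0, 2, 2, 3, 0, 1, 2], 3795, false, false⟩,
  ⟨[0, 23, 0, 51, 52], [2, 1, 0, 3, 2, 1], [3, 2, 1, 0, 3, 2, 1, 0], 3724, false, false⟩,
  ⟨[49, 62, 16], [0, 1, 2, 1, 0, 3, 2], [1, 0, 3, 1, 2, 3, 0, 1, 2], 4742, false, false⟩,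
  ⟨[1, 22, 1, 62, 65], [2, 1, 0, 3, 2, 1], [3, 2, 1, 0, 3, 2, 1, 0], 4529, false, false⟩,
  ⟨[49, 62, 5], [0, 1, 2, 1, 0, 3, 2], [1, 0, 3, 1, 2, 3, 0, 1, 2], 2582, false, false⟩,
  ⟨[49, 8, 62], [0, 1, 0, 1, 0, 2, 1, 3, 2], [1, 2, 3, 1, 2, 0, 1], 3793, false, false⟩,
  ⟨[0, 23, 0, 49, 52], [2, 1, 0, 3, 2, 1], [3, 2, 1, 0, 3, 2, 1, 0], 3580, false, false⟩,
  ⟨[49, 0, 62], [0, 1, 0, 1, 0, 2, 1, 3, 2], [1, 2, 3, 1, 2, 0, 1], 1921, false, false⟩,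
  ⟨[64, 48, 5], [0, 1, 0, 1, 0, 2, 1, 3, 2], [1, 2, 3, 1, 2, 0, 1], 2512, false, false⟩,
  ⟨[64, 48, 0], [0, 1, 2, 1, 0, 3, 2], [1, 0, 3, 1, 2, 3, 0, 1, 2], 2064, false, false⟩,
  ⟨[2, 21, 2, 48, 28], [2, 1, 0, 3, 2, 1], [3, 2, 1, 0, 3, 2, 1, 0], 3484, false, false⟩,
  ⟨[64, 3, 48], [0, 1, 0, 1, 0, 2, 1, 3, 2], [1, 2, 3, 1, 2, 0, 1], 2080, false, false⟩,
  ⟨[65, 8, 62], [0, 1, 0, 1, 0, 2, 1, 3, 2], [1, 2, 3, 1, 2, 0, 1], 3809, false, false⟩,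
  ⟨[1, 22, 1, 52, 65], [2, 1, 0, 3, 2, 1], [3, 2, 1, 0, 3, 2, 1, 0], 4732, false, false⟩,
  ⟨[65, 49, 5], [0, 1, 0, 1, 0, 2, 1, 3, 2], [1, 2, 3, 1, 2, 0, 1], 2585, false, false⟩,
  ⟨[65, 49, 0], [0, 1, 2, 1, 0, 3, 2], [1, 0, 3, 1, 2, 3, 0, 1, 2], 2137, false, false⟩,
  ⟨[2, 21, 2, 49, 29], [2, 1, 0, 3, 2, 1], [3, 2, 1, 0, 3, 2, 1, 0], 3557, false, false⟩,
  ⟨[65, 3, 49], [0, 1, 0, 1, 0, 2, 1, 3, 2], [1, 2, 3, 1, 2, 0, 1], 2153, false, false⟩,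
  ⟨[52, 62, 2], [0, 1, 2, 1, 0, 3, 2], [1, 0, 3, 1, 2, 3, 0, 1, 2], 1934, false, false⟩,
  ⟨[52, 62, 5], [0, 1, 2, 1, 0, 3, 2], [1, 0, 3, 1, 2, 3, 0, 1, 2], 2654, false, false⟩,
  ⟨[2, 21, 2, 62, 36], [2, 1, 0, 3, 2, 1], [3, 2, 1, 0, 3, 2, 1, 0], 4500, false, false⟩,
  ⟨[52, 3, 62], [0, 1, 0, 1, 0, 2, 1, 3, 2], [1, 2, 3, 1, 2, 0, 1], 2644, false, false⟩,
  ⟨[0, 23, 0, 36, 52], [2, 1, 0, 3, 2, 1], [3, 2, 1, 0, 3, 2, 1, 0], 3780, false, false⟩,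
  ⟨[52, 3, 49], [0, 1, 0, 1, 0, 2, 1, 3, 2], [1, 2, 3, 1, 2, 0, 1], 2140, false, false⟩,
  ⟨[7, 16, 7, 29, 52], [2, 1, 0, 3, 2, 1], [3, 2, 1, 0, 3, 2, 1, 0], 3773, false, false⟩,
  ⟨[52, 34, 24], [0, 0, 1, 2, 1, 1, 0, 2], [1, 0, 2, 2, 3, 0, 1, 2], 3192, false, false⟩,
  ⟨[52, 35, 62], [0, 1, 0, 2, 1, 3, 2, 1, 0], [1, 0, 1, 2, 3, 1, 2], 3302, false, false⟩,
  ⟨[2, 21, 2, 45, 62], [2, 1, 0, 3, 2, 1], [3, 2, 1, 0, 3, 2, 1, 0], 4509, false, false⟩,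
  ⟨[52, 35, 49], [0, 1, 0, 2, 1, 3, 2, 1, 0], [1, 0, 1, 2, 3, 1, 2], 3289, false, false⟩,
  ⟨[0, 23, 0, 45, 49], [2, 1, 0, 3, 2, 1], [3, 2, 1, 0, 3, 2, 1, 0], 3573, false, false⟩,
  ⟨[52, 35, 65], [0, 1, 0, 2, 1, 3, 2, 1, 0], [1, 0, 1, 2, 3, 1, 2], 3305, false, false⟩,
  ⟨[53, 63, 2], [0, 1, 2, 1, 0, 3, 2], [1, 0, 3, 1, 2, 3, 0, 1, 2], 2007, false, false⟩,
  ⟨[53, 63, 5], [0, 1, 2, 1, 0, 3, 2], [1, 0, 3, 1, 2, 3, 0, 1, 2], 2727, false, false⟩,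
  ⟨[2, 21, 2, 63, 37], [2, 1, 0, 3, 2, 1], [3, 2, 1, 0, 3, 2, 1, 0], 4573, false, false⟩,
  ⟨[53, 0, 63], [0, 1, 0, 1, 0, 2, 1, 3, 2], [1, 2, 3, 1, 2, 0, 1], 1997, false, false⟩,
  ⟨[53, 3, 63], [0, 1, 0, 1, 0, 2, 1, 3, 2], [1, 2, 3, 1, 2, 0, 1], 2717, false, false⟩,
  ⟨[53, 34, 25], [0, 0, 1, 2, 1, 1, 0, 2], [1, 0, 2, 2, 3, 0, 1, 2], 3265, false, false⟩,
  ⟨[26, 64, 50], [0, 0, 1, 2, 1, 1, 0, 2], [1, 0, 2, 2, 3, 0, 1, 2], 3218, false, false⟩,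
  ⟨[0, 23, 0, 50, 44], [2, 1, 0, 3, 2, 1], [3, 2, 1, 0, 3, 2, 1, 0], 3644, false, false⟩,
  ⟨[26, 52, 65], [0, 1, 2, 1, 0, 3, 2], [1, 0, 3, 1, 2, 3, 0, 1, 2], 3292, false, false⟩,
  ⟨[0, 23, 0, 45, 52], [2, 1, 0, 3, 2, 1], [3, 2, 1, 0, 3, 2, 1, 0], 3789, false, false⟩,
  ⟨[27, 64, 51], [0, 0, 1, 2, 1, 1, 0, 2], [1, 0, 2, 2, 3, 0, 1, 2], 3291, false, false⟩,
  ⟨[36, 52, 35], [0, 1, 0, 1, 0, 2, 1, 3, 2], [1, 2, 3, 1, 2, 0, 1], 3276, false, false⟩,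
  ⟨[52, 68, 15], [0, 1, 2, 1, 0, 3, 2], [1, 0, 3, 1, 2, 3, 0, 1, 2], 4532, false, false⟩,
  ⟨[5, 18, 5, 68, 62], [2, 1, 0, 3, 2, 1], [3, 2, 1, 0, 3, 2, 1, 0], 4958, false, false⟩,
  ⟨[52, 10, 68], [0, 1, 0, 1, 0, 2, 1, 3, 2], [1, 2, 3, 1, 2, 0, 1], 4516, false, false⟩,
  ⟨[1, 22, 1, 52, 62], [2, 1, 0, 3, 2, 1], [3, 2, 1, 0, 3, 2, 1, 0], 3806, false, false⟩,
  ⟨[53, 69, 15], [0, 1, 2, 1, 0, 3, 2], [1, 0, 3, 1, 2, 3, 0, 1, 2], 4605, false, false⟩,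
  ⟨[5, 18, 5, 69, 63], [2, 1, 0, 3, 2, 1], [3, 2, 1, 0, 3, 2, 1, 0], 5031, false, false⟩,
  ⟨[53, 10, 69], [0, 1, 0, 1, 0, 2, 1, 3, 2], [1, 2, 3, 1, 2, 0, 1], 4589, false, false⟩,
  ⟨[1, 22, 1, 53, 63], [2, 1, 0, 3, 2, 1], [3, 2, 1, 0, 3, 2, 1, 0], 3879, false, false⟩,
  ⟨[54, 53, 52], [0, 0, 1, 2, 1, 1, 0, 2], [1, 0, 2, 2, 3, 0, 1, 2], 4300, false, false⟩,
  ⟨[0, 23, 0, 59, 52], [2, 1, 0, 3, 2, 1], [3, 2, 1, 0, 3, 2, 1, 0], 3803, false, false⟩,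
  ⟨[54, 63, 62], [0, 0, 1, 2, 1, 1, 0, 2], [1, 0, 2, 2, 3, 0, 1, 2], 4886, false, false⟩,
  ⟨[2, 21, 2, 67, 62], [2, 1, 0, 3, 2, 1], [3, 2, 1, 0, 3, 2, 1, 0], 4531, false, false⟩,
  ⟨[55, 62, 68], [0, 1, 0, 2, 1, 3, 2, 1, 0], [1, 0, 1, 2, 3, 1, 2], 4892, false, false⟩,
  ⟨[4, 19, 4, 67, 68], [2, 1, 0, 3, 2, 1], [3, 2, 1, 0, 3, 2, 1, 0], 4963, false, false⟩,
  ⟨[21, 55, 31], [0, 1, 2, 1, 0, 3, 2], [1, 0, 3, 1, 2, 3, 0, 1, 2], 4303, false, false⟩,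
  ⟨[0, 23, 0, 55, 59], [2, 1, 0, 3, 2, 1], [3, 2, 1, 0, 3, 2, 1, 0], 4019, false, false⟩,
  ⟨[23, 55, 31], [0, 1, 2, 1, 0, 3, 2], [1, 0, 3, 1, 2, 3, 0, 1, 2], 4879, false, false⟩,
  ⟨[2, 21, 2, 55, 67], [2, 1, 0, 3, 2, 1], [3, 2, 1, 0, 3, 2, 1, 0], 4027, false, false⟩,
  ⟨[42, 63, 62], [0, 0, 1, 2, 1, 1, 0, 2], [1, 0, 2, 2, 3, 0, 1, 2], 3590, false, false⟩,
  ⟨[1, 22, 1, 49, 62], [2, 1, 0, 3, 2, 1], [3, 2, 1, 0, 3, 2, 1, 0], 4513, false, false⟩,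
  ⟨[42, 54, 15], [0, 1, 2, 1, 0, 3, 2], [1, 0, 3, 1, 2, 3, 0, 1, 2], 3366, false, false⟩,
  ⟨[0, 23, 0, 46, 54], [2, 1, 0, 3, 2, 1], [3, 2, 1, 0, 3, 2, 1, 0], 3934, false, false⟩]

/-- masks before -/
def stA7 : ℕ × ℕ × ℕ := (0xe58621000000ffb0007fcf33000000ffb000ff3ccc030000ef3a00551444010000ef3a006c9240008000ffb000f4f3c000c000ffb000639024102000ffe800f1f03c303000ffe902cff003f00400ba9040455001500400ba944025b000012400fac0203fd000017c00fac022600e64040200ff3a80f007fc0c0300ff3a80cc0fc3cc00c0feb054440541440040feb0d42006c0000040d2b020300f40014040d2b010c30c3f3c0030fd6a00410415140010fd6e8221042c012210ef6240330c34033330ef6b5b408223400008fc5880f0c331900004fc508004820000044800000404c20340c0c49084c401002000040880040003c033101c1c884cca0000000000000000000005010401144001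c0000000000000000000c000400042000000084c30c0c3ccc30000834410404144414090b343300c332c3380080241100411141100082200900050a009180042f0f000f0f40d180442400ccc0f0373001a10400444050111000a10000240448209008010f003c0ccc34f028290000000000000000100f0003c34131f00014b4504010100001000004504000100001040000000000000000000003fcf3301ffc5002013fdf3fc133000ffec20ffcfff4441c0ffb290ffffdc393310ff6b48fffff3cc0000fe9684ffff1f743410fdcdc2ffcfffcc03d0fc3fc0f7ffccc3d203f3f23cfffcfc133c20ebe93afff3c343e441da84b6fff03f50701cfbcc66f33ffc0f4310e73b39fcffc3c5c001d6b6b5c3cc3f31303dac6d2bcfe023f48c0c9ccce7cc0ccbc8024fe21305f005f42c3314ed2bdbcc0ff354034ddc97d7c3cb15540010fc4fcf3f30ccc3ff1182dc3b3c03404f4751c2b3bf333cf401f313e36b7b0cf300533111d2d4df03f01654c7d1bbcfff000ffc135c007ffc20, 0x0, 0x0)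

/-- masks after -/
def stB7 : ℕ × ℕ × ℕ := (0xe58621000000fff080ffcf33000000fff880ffbccc030200fffa007f7ccc030100fffa007cd2c0008000fff030fcf3c000c000fff03073d83c123000ffe800f3f43c313010ffe902eff023f02400ffd0405fd013701400ffd44035b088036402fbf0203ff044017c01fbf022720efc040300ff3a80f10ffc0d0300ff3ac0cc0fc3cc00c0feb054440741440040feb0d43c2ec8000040f7b0203c1fc4414040f7b010c38c3f3c0030fd6a00434c3f341030fd6e82332cbc033212ef6240331c7c133331ef6b5b40c233600028fcd880f0c333900014fcd080048200000c4800400404c24350c0c49094c403403a00140a80040003c037541c1d884cca0000000000000000000005011401144001c0122088004100001000c104400042100010084c30c0c3ecc3000083443040c354414090b363b02c33ae33800c02537014135511000c2202d000d2a009180042f1f000f1f41d180442400ccc0f237b001a10400c44071115000a1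0000240448209008010f003c0ccc34f028290020012020880000100f1003d35175f00014b4584210102001000004544020111001040000000000000000000003fcf3311ffc5002013ffffff137000fffc20ffffff4441c0ffb390ffffff393310ff6b48fffff3cc0400fed684ffff3f743410fdcdc2ffcfffcc03d0fc3fc0ffffccc3d203f3f23cfffcfc133c20ebe93afff3c343e441dbd4b6fff03f50701cfbcc66ff3ffc0f4310e73b39fcffc3c5c001d6b6b5c3cc3f31303dac6d2bcfe023f48c0c9cdce7cc0ccbc8024fe21305f005f42c3334ed2bdbcc0ff354034ddc97d7c3cb15540010fc4fcf3f70ccf3ff1182dc3b3c03404f4751c2b3bf333cf401f313e36b7f0cf300533111d2d4df03f01654c7d1bbcfff000ffc135c007ffc20, 0x0, 0x0)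

theorem chain7_ok : (chainOK tab steps7 stA7.1 stA7.2.1 stA7.2.2 &&
    (learnAll steps7 stA7 == stB7) && (stA7.2.1 ||| stA7.1 == stA7.1) &&
    (stA7.2.2 ||| stA7.1 == stA7.1)) = true := by decide +kernel

theorem run7 {P : Type*} [Group P] (S : Sys tab P) {g h : Subgroup.center P} (hg : g * g = 1) (hh : h * h = 1)
    (H : S.Holds g h stA7.1 stA7.2.1 stA7.2.2) : S.Holds g h stB7.1 stB7.2.1 stB7.2.2 := by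
  have h' := chain7_ok
  simp only [Bool.and_eq_true, beq_iff_eq] at h'
  rw [← h'.1.1.2]
  exact S.chain_spec hg hh steps7 _ _ _ H h'.1.2 h'.2 h'.1.1.1

end CfsgLib.Lie.MultExc.TwESixTwo
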