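import Cfsg.Agent.Lib.Lie.MultExc.TwESixTwo.Table

/-!
Deductions of the central corrections, part 8.
-/

set_option autoImplicit false
set_option maxRecDepth 100000
set_option maxHeartbeats 0

open scoped IsMulCommutative

namespace CfsgLib.Lie.MultExc.TwESixTwo

/-- deductions -/
def steps8 : List Step := [
  ⟨[42, 54, 10], [0, 1, 0, 1, 0, 2, 1, 3, 2], [1, 2, 3, 1, 2, 0, 1], 3354, false, false⟩,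
  ⟨[1, 22, 1, 46, 42], [2, 1, 0, 3, 2, 1], [3, 2, 1, 0, 3, 2, 1, 0], 3070, false, false⟩,
  ⟨[42, 23, 54], [0, 1, 0, 2, 1, 3, 2, 1, 0], [1, 0, 1, 2, 3, 1, 2], 5094, false, false⟩,
  ⟨[43, 55, 15], [0, 1, 2, 1, 0, 3, 2], [1, 0, 3, 1, 2, 3, 0, 1, 2], 3439, false, false⟩,
  ⟨[0, 23, 0, 47, 55], [2, 1, 0, 3, 2, 1], [3, 2, 1, 0, 3, 2, 1, 0], 4007, false, false⟩,
  ⟨[43, 55, 52], [0, 1, 0, 1, 0, 2, 1, 3, 2], [1, 2, 3, 1, 2, 0, 1], 4291, false, false⟩,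
  ⟨[43, 23, 52], [0, 1, 0, 2, 1, 3, 2, 1, 0], [1, 0, 1, 2, 3, 1, 2], 5164, false, false⟩,
  ⟨[7, 16, 7, 52, 71], [2, 1, 0, 3, 2, 1], [3, 2, 1, 0, 3, 2, 1, 0], 3815, false, false⟩,
  ⟨[43, 23, 55], [0, 1, 0, 2, 1, 3, 2, 1, 0], [1, 0, 1, 2, 3, 1, 2], 5167, false, false⟩,
  ⟨[46, 42, 21], [0, 1, 2, 1, 0, 3, 2], [1, 0, 3, 1, 2, 3, 0, 1, 2], 5082, false, false⟩,
  ⟨[46, 42, 23], [0, 1, 0, 1, 0, 2, 1, 3, 2], [1, 2, 3, 1, 2, 0, 1], 5086, false, false⟩,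
  ⟨[47, 21, 62], [0, 1, 0, 2, 1, 3, 2, 1, 0], [1, 0, 1, 2, 3, 1, 2], 5174, false, false⟩,
  ⟨[6, 17, 6, 62, 71], [2, 1, 0, 3, 2, 1], [3, 2, 1, 0, 3, 2, 1, 0], 4535, false, false⟩,
  ⟨[47, 43, 62], [0, 1, 0, 1, 0, 2, 1, 3, 2], [1, 2, 3, 1, 2, 0, 1], 3575, false, false⟩,
  ⟨[0, 23, 0, 49, 47], [2, 1, 0, 3, 2, 1], [3, 2, 1, 0, 3, 2, 1, 0], 3433, false, false⟩,
  ⟨[47, 43, 21], [0, 1, 2, 1, 0, 3, 2], [1, 0, 3, 1, 2, 3, 0, 1, 2], 5155, false, false⟩,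
  ⟨[47, 43, 23], [0, 1, 0, 1, 0, 2, 1, 3, 2], [1, 2, 3, 1, 2, 0, 1], 5159, false, false⟩,
  ⟨[19, 55, 68], [0, 1, 0, 2, 1, 3, 2, 1, 0], [1, 0, 1, 2, 3, 1, 2], 5180, false, false⟩,
  ⟨[8, 15, 8, 68, 71], [2, 1, 0, 3, 2, 1], [3, 2, 1, 0, 3, 2, 1, 0], 4967, false, false⟩,
  ⟨[58, 30, 10], [0, 1, 2, 1, 0, 3, 2], [1, 0, 3, 1, 2, 3, 0, 1, 2], 3486, false, false⟩,
  ⟨[1, 22, 1, 48, 30], [2, 1, 0, 3, 2, 1], [3, 2, 1, 0, 3, 2, 1, 0], 2208, false, false⟩,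
  ⟨[58, 23, 30], [0, 1, 0, 1, 0, 2, 1, 3, 2], [1, 2, 3, 1, 2, 0, 1], 4810, false, false⟩,
  ⟨[4, 19, 4, 58, 66], [2, 1, 0, 3, 2, 1], [3, 2, 1, 0, 3, 2, 1, 0], 4242, false, false⟩,
  ⟨[58, 46, 62], [0, 0, 1, 2, 1, 1, 0, 2], [1, 0, 2, 2, 3, 0, 1, 2], 4094, false, false⟩,
  ⟨[2, 21, 2, 56, 62], [2, 1, 0, 3, 2, 1], [3, 2, 1, 0, 3, 2, 1, 0], 4520, false, false⟩,
  ⟨[58, 47, 63], [0, 0, 1, 2, 1, 1, 0, 2], [1, 0, 2, 2, 3, 0, 1, 2], 4167, false, false⟩,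
  ⟨[2, 21, 2, 57, 63], [2, 1, 0, 3, 2, 1], [3, 2, 1, 0, 3, 2, 1, 0], 4593, false, false⟩,
  ⟨[58, 47, 46], [0, 0, 1, 2, 1, 1, 0, 2], [1, 0, 2, 2, 3, 0, 1, 2], 4079, false, false⟩,
  ⟨[0, 23, 0, 47, 56], [2, 1, 0, 3, 2, 1], [3, 2, 1, 0, 3, 2, 1, 0], 3440, false, false⟩,
  ⟨[58, 19, 30], [0, 1, 0, 1, 0, 2, 1, 3, 2], [1, 2, 3, 1, 2, 0, 1], 3514, false, false⟩,
  ⟨[0, 23, 0, 58, 48], [2, 1, 0, 3, 2, 1], [3, 2, 1, 0, 3, 2, 1, 0], 4224, false, false⟩,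
  ⟨[59, 31, 10], [0, 1, 2, 1, 0, 3, 2], [1, 0, 3, 1, 2, 3, 0, 1, 2], 3559, false, false⟩,
  ⟨[1, 22, 1, 49, 31], [2, 1, 0, 3, 2, 1], [3, 2, 1, 0, 3, 2, 1, 0], 2281, false, false⟩,
  ⟨[59, 23, 31], [0, 1, 0, 1, 0, 2, 1, 3, 2], [1, 2, 3, 1, 2, 0, 1], 4883, false, false⟩,
  ⟨[4, 19, 4, 59, 67], [2, 1, 0, 3, 2, 1], [3, 2, 1, 0, 3, 2, 1, 0], 4315, false, false⟩,
  ⟨[59, 43, 23], [0, 1, 0, 1, 0, 2, 1, 3, 2], [1, 2, 3, 1, 2, 0, 1], 5171, false, false⟩,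
  ⟨[6, 17, 6, 59, 71], [2, 1, 0, 3, 2, 1], [3, 2, 1, 0, 3, 2, 1, 0], 4319, false, false⟩,
  ⟨[59, 47, 55], [0, 1, 0, 2, 1, 3, 2, 1, 0], [1, 0, 1, 2, 3, 1, 2], 4087, false, false⟩,
  ⟨[0, 23, 0, 55, 56], [2, 1, 0, 3, 2, 1], [3, 2, 1, 0, 3, 2, 1, 0], 4016, false, false⟩,
  ⟨[59, 47, 43], [0, 1, 0, 2, 1, 3, 2, 1, 0], [1, 0, 1, 2, 3, 1, 2], 4075, false, false⟩,
  ⟨[59, 19, 31], [0, 1, 0, 1, 0, 2, 1, 3, 2], [1, 2, 3, 1, 2, 0, 1], 3587, false, false⟩,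
  ⟨[0, 23, 0, 59, 49], [2, 1, 0, 3, 2, 1], [3, 2, 1, 0, 3, 2, 1, 0], 4297, false, false⟩,
  ⟨[66, 42, 52], [0, 0, 1, 2, 1, 1, 0, 2], [1, 0, 2, 2, 3, 0, 1, 2], 4084, false, false⟩,
  ⟨[0, 23, 0, 56, 52], [2, 1, 0, 3, 2, 1], [3, 2, 1, 0, 3, 2, 1, 0], 3800, false, false⟩,
  ⟨[66, 43, 53], [0, 0, 1, 2, 1, 1, 0, 2], [1, 0, 2, 2, 3, 0, 1, 2], 4157, false, false⟩,
  ⟨[0, 23, 0, 57, 53], [2, 1, 0, 3, 2, 1], [3, 2, 1, 0, 3, 2, 1, 0], 3873, false, false⟩,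
  ⟨[66, 19, 30], [0, 1, 0, 1, 0, 2, 1, 3, 2], [1, 2, 3, 1, 2, 0, 1], 3522, false, false⟩,
  ⟨[2, 21, 2, 48, 66], [2, 1, 0, 3, 2, 1], [3, 2, 1, 0, 3, 2, 1, 0], 4800, false, false⟩,
  ⟨[66, 59, 42], [0, 0, 1, 2, 1, 1, 0, 2], [1, 0, 2, 2, 3, 0, 1, 2], 4091, false, false⟩,
  ⟨[0, 23, 0, 56, 59], [2, 1, 0, 3, 2, 1], [3, 2, 1, 0, 3, 2, 1, 0], 4304, false, false⟩,
  ⟨[67, 47, 21], [0, 1, 0, 1, 0, 2, 1, 3, 2], [1, 2, 3, 1, 2, 0, 1], 5179, false, false⟩,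
  ⟨[7, 16, 7, 67, 71], [2, 1, 0, 3, 2, 1], [3, 2, 1, 0, 3, 2, 1, 0], 4895, false, false⟩,
  ⟨[67, 19, 31], [0, 1, 0, 1, 0, 2, 1, 3, 2], [1, 2, 3, 1, 2, 0, 1], 3595, false, false⟩,
  ⟨[2, 21, 2, 49, 67], [2, 1, 0, 3, 2, 1], [3, 2, 1, 0, 3, 2, 1, 0], 4873, false, false⟩,
  ⟨[67, 59, 47], [0, 1, 0, 1, 0, 2, 1, 3, 2], [1, 2, 3, 1, 2, 0, 1], 4099, false, false⟩,
  ⟨[2, 21, 2, 56, 67], [2, 1, 0, 3, 2, 1], [3, 2, 1, 0, 3, 2, 1, 0], 4880, false, false⟩,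
  ⟨[48, 54, 68], [0, 0, 1, 2, 1, 1, 0, 2], [1, 0, 2, 2, 3, 0, 1, 2], 4100, false, false⟩,
  ⟨[4, 19, 4, 56, 68], [2, 1, 0, 3, 2, 1], [3, 2, 1, 0, 3, 2, 1, 0], 4952, false, false⟩,
  ⟨[48, 55, 69], [0, 0, 1, 2, 1, 1, 0, 2], [1, 0, 2, 2, 3, 0, 1, 2], 4173, false, false⟩,
  ⟨[4, 19, 4, 57, 69], [2, 1, 0, 3, 2, 1], [3, 2, 1, 0, 3, 2, 1, 0], 5025, false, false⟩,
  ⟨[49, 43, 23], [0, 1, 0, 1, 0, 2, 1, 3, 2], [1, 2, 3, 1, 2, 0, 1], 5161, false, false⟩,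
  ⟨[8, 15, 8, 49, 71], [2, 1, 0, 3, 2, 1], [3, 2, 1, 0, 3, 2, 1, 0], 3599, false, false⟩,
  ⟨[49, 59, 47], [0, 1, 0, 1, 0, 2, 1, 3, 2], [1, 2, 3, 1, 2, 0, 1], 4081, false, false⟩,
  ⟨[0, 23, 0, 56, 49], [2, 1, 0, 3, 2, 1], [3, 2, 1, 0, 3, 2, 1, 0], 3584, false, false⟩,
  ⟨[71, 59, 47], [0, 1, 0, 1, 0, 2, 1, 3, 2], [1, 2, 3, 1, 2, 0, 1], 4103, false, false⟩,
  ⟨[6, 17, 6, 56, 71], [2, 1, 0, 3, 2, 1], [3, 2, 1, 0, 3, 2, 1, 0], 5168, false, false⟩,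
  ⟨[17, 34, 48], [0, 1, 2, 1, 0, 3, 2], [1, 0, 3, 1, 2, 3, 0, 1, 2], 4786, false, false⟩,
  ⟨[24, 67, 66], [0, 0, 1, 2, 1, 1, 0, 2], [1, 0, 2, 2, 3, 0, 1, 2], 2803, false, false⟩,
  ⟨[7, 16, 7, 67, 38], [2, 1, 0, 3, 2, 1], [3, 2, 1, 0, 3, 2, 1, 0], 4862, false, false⟩,
  ⟨[24, 42, 22], [0, 1, 2, 1, 0, 3, 2], [1, 0, 3, 1, 2, 3, 0, 1, 2], 3930, false, false⟩,
  ⟨[2, 21, 2, 54, 42], [2, 1, 0, 3, 2, 1], [3, 2, 1, 0, 3, 2, 1, 0], 3078, false, false⟩,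
  ⟨[24, 42, 17], [0, 1, 0, 1, 0, 2, 1, 3, 2], [1, 2, 3, 1, 2, 0, 1], 3912, false, false⟩,
  ⟨[24, 15, 42], [0, 1, 0, 1, 0, 2, 1, 3, 2], [1, 2, 3, 1, 2, 0, 1], 3336, false, false⟩,
  ⟨[25, 43, 22], [0, 1, 2, 1, 0, 3, 2], [1, 0, 3, 1, 2, 3, 0, 1, 2], 4003, false, false⟩,
  ⟨[2, 21, 2, 55, 43], [2, 1, 0, 3, 2, 1], [3, 2, 1, 0, 3, 2, 1, 0], 3151, false, false⟩,
  ⟨[25, 43, 17], [0, 1, 0, 1, 0, 2, 1, 3, 2], [1, 2, 3, 1, 2, 0, 1], 3985, false, false⟩,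
  ⟨[26, 32, 22], [0, 1, 2, 1, 0, 3, 2], [1, 0, 3, 1, 2, 3, 0, 1, 2], 4064, false, false⟩,
  ⟨[2, 21, 2, 56, 32], [2, 1, 0, 3, 2, 1], [3, 2, 1, 0, 3, 2, 1, 0], 2360, false, false⟩,
  ⟨[26, 32, 17], [0, 1, 2, 1, 0, 3, 2], [1, 0, 3, 1, 2, 3, 0, 1, 2], 2768, false, false⟩,
  ⟨[1, 22, 1, 38, 32], [2, 1, 0, 3, 2, 1], [3, 2, 1, 0, 3, 2, 1, 0], 2342, false, false⟩,
  ⟨[42, 38, 40], [0, 0, 1, 2, 1, 1, 0, 2], [1, 0, 2, 2, 3, 0, 1, 2], 2200, false, false⟩,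
  ⟨[1, 22, 1, 40, 30], [2, 1, 0, 3, 2, 1], [3, 2, 1, 0, 3, 2, 1, 0], 2910, false, false⟩,
  ⟨[43, 39, 40], [0, 0, 1, 2, 1, 1, 0, 2], [1, 0, 2, 2, 3, 0, 1, 2], 2415, false, false⟩,
  ⟨[1, 22, 1, 39, 33], [2, 1, 0, 3, 2, 1], [3, 2, 1, 0, 3, 2, 1, 0], 2841, false, false⟩,
  ⟨[26, 32, 20], [0, 1, 0, 1, 0, 2, 1, 3, 2], [1, 2, 3, 1, 2, 0, 1], 4058, false, false⟩,
  ⟨[27, 33, 22], [0, 1, 2, 1, 0, 3, 2], [1, 0, 3, 1, 2, 3, 0, 1, 2], 4137, false, false⟩,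
  ⟨[2, 21, 2, 57, 33], [2, 1, 0, 3, 2, 1], [3, 2, 1, 0, 3, 2, 1, 0], 2433, false, false⟩,
  ⟨[27, 33, 20], [0, 1, 0, 1, 0, 2, 1, 3, 2], [1, 2, 3, 1, 2, 0, 1], 4131, false, false⟩,
  ⟨[56, 15, 32], [0, 1, 0, 1, 0, 2, 1, 3, 2], [1, 2, 3, 1, 2, 0, 1], 2792, false, false⟩,
  ⟨[0, 23, 0, 56, 38], [2, 1, 0, 3, 2, 1], [3, 2, 1, 0, 3, 2, 1, 0], 4070, false, false⟩,
  ⟨[57, 15, 33], [0, 1, 0, 1, 0, 2, 1, 3, 2], [1, 2, 3, 1, 2, 0, 1], 2865, false, false⟩,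
  ⟨[0, 23, 0, 57, 39], [2, 1, 0, 3, 2, 1], [3, 2, 1, 0, 3, 2, 1, 0], 4143, false, false⟩,
  ⟨[9, 66, 34], [0, 1, 2, 1, 0, 3, 2], [1, 0, 3, 1, 2, 3, 0, 1, 2], 2226, false, false⟩,
  ⟨[9, 67, 35], [0, 1, 2, 1, 0, 3, 2], [1, 0, 3, 1, 2, 3, 0, 1, 2], 2299, false, false⟩,
  ⟨[54, 11, 42], [0, 1, 0, 2, 1, 3, 2, 1, 0], [1, 0, 1, 2, 3, 1, 2], 3642, false, false⟩,
  ⟨[1, 22, 1, 42, 50], [2, 1, 0, 3, 2, 1], [3, 2, 1, 0, 3, 2, 1, 0], 3074, false, false⟩,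
  ⟨[32, 11, 56], [0, 1, 0, 1, 0, 2, 1, 3, 2], [1, 2, 3, 1, 2, 0, 1], 3776, false, false⟩,
  ⟨[1, 22, 1, 32, 52], [2, 1, 0, 3, 2, 1], [3, 2, 1, 0, 3, 2, 1, 0], 2356, false, false⟩,
  ⟨[33, 11, 57], [0, 1, 0, 1, 0, 2, 1, 3, 2], [1, 2, 3, 1, 2, 0, 1], 3849, false, false⟩,
  ⟨[1, 22, 1, 33, 53], [2, 1, 0, 3, 2, 1], [3, 2, 1, 0, 3, 2, 1, 0], 2429, false, false⟩,
  ⟨[70, 54, 11], [0, 1, 0, 1, 0, 2, 1, 3, 2], [1, 2, 3, 1, 2, 0, 1], 3670, false, false⟩,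
  ⟨[70, 32, 28], [0, 0, 1, 2, 1, 1, 0, 2], [1, 0, 2, 2, 3, 0, 1, 2], 4204, false, false⟩,
  ⟨[71, 55, 11], [0, 1, 0, 1, 0, 2, 1, 3, 2], [1, 2, 3, 1, 2, 0, 1], 3743, false, false⟩,
  ⟨[52, 32, 23], [0, 1, 0, 1, 0, 2, 1, 3, 2], [1, 2, 3, 1, 2, 0, 1], 4948, false, false⟩,
  ⟨[3, 20, 3, 52, 68], [2, 1, 0, 3, 2, 1], [3, 2, 1, 0, 3, 2, 1, 0], 3812, false, false⟩,
  ⟨[53, 33, 23], [0, 1, 0, 1, 0, 2, 1, 3, 2], [1, 2, 3, 1, 2, 0, 1], 5021, false, false⟩,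
  ⟨[3, 20, 3, 53, 69], [2, 1, 0, 3, 2, 1], [3, 2, 1, 0, 3, 2, 1, 0], 3885, false, false⟩,
  ⟨[38, 65, 67], [0, 1, 0, 2, 1, 3, 2, 1, 0], [1, 0, 1, 2, 3, 1, 2], 4459, false, false⟩,
  ⟨[2, 21, 2, 61, 67], [2, 1, 0, 3, 2, 1], [3, 2, 1, 0, 3, 2, 1, 0], 4885, false, false⟩,
  ⟨[36, 65, 67], [0, 1, 2, 1, 0, 3, 2], [1, 0, 3, 1, 2, 3, 0, 1, 2], 4457, false, false⟩,
  ⟨[1, 22, 1, 61, 65], [2, 1, 0, 3, 2, 1], [3, 2, 1, 0, 3, 2, 1, 0], 4741, false, false⟩,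
  ⟨[6, 64, 66], [0, 1, 2, 1, 0, 3, 2], [1, 0, 3, 1, 2, 3, 0, 1, 2], 3520, false, false⟩,
  ⟨[1, 22, 1, 48, 64], [2, 1, 0, 3, 2, 1], [3, 2, 1, 0, 3, 2, 1, 0], 4656, false, false⟩,
  ⟨[6, 65, 67], [0, 1, 2, 1, 0, 3, 2], [1, 0, 3, 1, 2, 3, 0, 1, 2], 3593, false, false⟩,
  ⟨[1, 22, 1, 49, 65], [2, 1, 0, 3, 2, 1], [3, 2, 1, 0, 3, 2, 1, 0], 4729, false, false⟩,
  ⟨[48, 60, 36], [0, 0, 1, 2, 1, 1, 0, 2], [1, 0, 2, 2, 3, 0, 1, 2], 3228, false, false⟩,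
  ⟨[2, 21, 2, 44, 60], [2, 1, 0, 3, 2, 1], [3, 2, 1, 0, 3, 2, 1, 0], 4364, false, false⟩,
  ⟨[48, 61, 37], [0, 0, 1, 2, 1, 1, 0, 2], [1, 0, 2, 2, 3, 0, 1, 2], 3301, false, false⟩,
  ⟨[2, 21, 2, 45, 61], [2, 1, 0, 3, 2, 1], [3, 2, 1, 0, 3, 2, 1, 0], 4437, false, false⟩,
  ⟨[48, 61, 60], [0, 0, 1, 2, 1, 1, 0, 2], [1, 0, 2, 2, 3, 0, 1, 2], 4525, false, false⟩,
  ⟨[1, 22, 1, 61, 62], [2, 1, 0, 3, 2, 1], [3, 2, 1, 0, 3, 2, 1, 0], 4454, false, false⟩,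
  ⟨[20, 36, 38], [0, 1, 0, 2, 1, 3, 2, 1, 0], [1, 0, 1, 2, 3, 1, 2], 4502, false, false⟩,
  ⟨[1, 22, 1, 62, 38], [2, 1, 0, 3, 2, 1], [3, 2, 1, 0, 3, 2, 1, 0], 2798, false, false⟩,
  ⟨[48, 60, 38], [0, 0, 1, 2, 1, 1, 0, 2], [1, 0, 2, 2, 3, 0, 1, 2], 3372, false, false⟩,
  ⟨[1, 22, 1, 46, 60], [2, 1, 0, 3, 2, 1], [3, 2, 1, 0, 3, 2, 1, 0], 4366, false, false⟩,
  ⟨[49, 60, 39], [0, 0, 1, 2, 1, 1, 0, 2], [1, 0, 2, 2, 3, 0, 1, 2], 4575, false, false⟩,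
  ⟨[48, 61, 39], [0, 0, 1, 2, 1, 1, 0, 2], [1, 0, 2, 2, 3, 0, 1, 2], 3445, false, false⟩,
  ⟨[5, 48, 66], [0, 1, 0, 2, 1, 3, 2, 1, 0], [1, 0, 1, 2, 3, 1, 2], 2514, false, false⟩,
  ⟨[5, 49, 67], [0, 1, 0, 2, 1, 3, 2, 1, 0], [1, 0, 1, 2, 3, 1, 2], 2587, false, false⟩,
  ⟨[26, 20, 36], [0, 1, 0, 1, 0, 2, 1, 3, 2], [1, 2, 3, 1, 2, 0, 1], 4490, false, false⟩,
  ⟨[27, 20, 37], [0, 1, 0, 1, 0, 2, 1, 3, 2], [1, 2, 3, 1, 2, 0, 1], 4563, false, false⟩,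
  ⟨[46, 61, 37], [0, 0, 1, 2, 1, 1, 0, 2], [1, 0, 2, 2, 3, 0, 1, 2], 2581, false, false⟩,
  ⟨[34, 22, 40], [0, 1, 0, 2, 1, 3, 2, 1, 0], [1, 0, 1, 2, 3, 1, 2], 4792, false, false⟩,
  ⟨[2, 21, 2, 66, 40], [2, 1, 0, 3, 2, 1], [3, 2, 1, 0, 3, 2, 1, 0], 2946, false, false⟩,
  ⟨[35, 22, 41], [0, 1, 0, 2, 1, 3, 2, 1, 0], [1, 0, 1, 2, 3, 1, 2], 4865, false, false⟩,
  ⟨[44, 50, 22], [0, 1, 2, 1, 0, 3, 2], [1, 0, 3, 1, 2, 3, 0, 1, 2], 5090, false, false⟩,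
  ⟨[44, 20, 50], [0, 1, 0, 1, 0, 2, 1, 3, 2], [1, 2, 3, 1, 2, 0, 1], 5084, false, false⟩,
  ⟨[45, 51, 22], [0, 1, 2, 1, 0, 3, 2], [1, 0, 3, 1, 2, 3, 0, 1, 2], 5163, false, false⟩,
  ⟨[45, 20, 51], [0, 1, 0, 1, 0, 2, 1, 3, 2], [1, 2, 3, 1, 2, 0, 1], 5157, false, false⟩,
  ⟨[70, 36, 40], [0, 0, 1, 2, 1, 1, 0, 2], [1, 0, 2, 2, 3, 0, 1, 2], 4932, false, false⟩,
  ⟨[70, 37, 41], [0, 0, 1, 2, 1, 1, 0, 2], [1, 0, 2, 2, 3, 0, 1, 2], 5005, false, false⟩,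
  ⟨[11, 71, 67], [0, 1, 2, 1, 0, 3, 2], [1, 0, 3, 1, 2, 3, 0, 1, 2], 4751, false, false⟩,
  ⟨[6, 17, 6, 65, 71], [2, 1, 0, 3, 2, 1], [3, 2, 1, 0, 3, 2, 1, 0], 5177, false, false⟩,
  ⟨[17, 70, 44], [0, 1, 2, 1, 0, 3, 2], [1, 0, 3, 1, 2, 3, 0, 1, 2], 4390, false, false⟩,
  ⟨[17, 71, 45], [0, 1, 2, 1, 0, 3, 2], [1, 0, 3, 1, 2, 3, 0, 1, 2], 4463, false, false⟩,
  ⟨[21, 66, 34], [0, 1, 2, 1, 0, 3, 2], [1, 0, 3, 1, 2, 3, 0, 1, 2], 4674, false, false⟩,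
  ⟨[5, 18, 5, 66, 64], [2, 1, 0, 3, 2, 1], [3, 2, 1, 0, 3, 2, 1, 0], 4816, false, false⟩,
  ⟨[21, 67, 35], [0, 1, 2, 1, 0, 3, 2], [1, 0, 3, 1, 2, 3, 0, 1, 2], 4747, false, false⟩,
  ⟨[5, 18, 5, 67, 65], [2, 1, 0, 3, 2, 1], [3, 2, 1, 0, 3, 2, 1, 0], 4889, false, false⟩,
  ⟨[9, 36, 68], [0, 1, 0, 2, 1, 3, 2, 1, 0], [1, 0, 1, 2, 3, 1, 2], 2372, false, false⟩,
  ⟨[9, 37, 69], [0, 1, 0, 2, 1, 3, 2, 1, 0], [1, 0, 1, 2, 3, 1, 2], 2445, false, false⟩,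
  ⟨[58, 6, 40], [0, 1, 0, 1, 0, 2, 1, 3, 2], [1, 2, 3, 1, 2, 0, 1], 2074, false, false⟩,
  ⟨[59, 6, 41], [0, 1, 0, 1, 0, 2, 1, 3, 2], [1, 2, 3, 1, 2, 0, 1], 2147, false, false⟩,
  ⟨[52, 54, 30], [0, 0, 1, 2, 1, 1, 0, 2], [1, 0, 2, 2, 3, 0, 1, 2], 4206, false, false⟩,
  ⟨[53, 54, 31], [0, 0, 1, 2, 1, 1, 0, 2], [1, 0, 2, 2, 3, 0, 1, 2], 4279, false, false⟩,
  ⟨[36, 54, 30], [0, 0, 1, 2, 1, 1, 0, 2], [1, 0, 2, 2, 3, 0, 1, 2], 1782, false, false⟩,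
  ⟨[30, 61, 69], [0, 0, 1, 2, 1, 1, 0, 2], [1, 0, 2, 2, 3, 0, 1, 2], 2877, false, false⟩,
  ⟨[46, 32, 58], [0, 0, 1, 2, 1, 1, 0, 2], [1, 0, 2, 2, 3, 0, 1, 2], 2218, false, false⟩,
  ⟨[56, 52, 2], [0, 1, 0, 1, 0, 2, 1, 3, 2], [1, 2, 3, 1, 2, 0, 1], 1928, false, false⟩,
  ⟨[57, 53, 2], [0, 1, 0, 1, 0, 2, 1, 3, 2], [1, 2, 3, 1, 2, 0, 1], 2001, false, false⟩,
  ⟨[6, 70, 60], [0, 1, 2, 1, 0, 3, 2], [1, 0, 3, 1, 2, 3, 0, 1, 2], 3238, false, false⟩,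
  ⟨[6, 71, 61], [0, 1, 2, 1, 0, 3, 2], [1, 0, 3, 1, 2, 3, 0, 1, 2], 3311, false, false⟩,
  ⟨[70, 9, 44], [0, 1, 0, 1, 0, 2, 1, 3, 2], [1, 2, 3, 1, 2, 0, 1], 3094, false, false⟩,
  ⟨[58, 60, 62], [0, 0, 1, 2, 1, 1, 0, 2], [1, 0, 2, 2, 3, 0, 1, 2], 5100, false, false⟩,
  ⟨[58, 61, 63], [0, 0, 1, 2, 1, 1, 0, 2], [1, 0, 2, 2, 3, 0, 1, 2], 5173, false, false⟩,
  ⟨[26, 40, 60], [0, 0, 1, 2, 1, 1, 0, 2], [1, 0, 2, 2, 3, 0, 1, 2], 1788, false, false⟩,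
  ⟨[17, 70, 42], [0, 1, 2, 1, 0, 3, 2], [1, 0, 3, 1, 2, 3, 0, 1, 2], 3958, false, false⟩,
  ⟨[17, 71, 43], [0, 1, 2, 1, 0, 3, 2], [1, 0, 3, 1, 2, 3, 0, 1, 2], 4031, false, false⟩,
  ⟨[38, 48, 70], [0, 0, 1, 2, 1, 1, 0, 2], [1, 0, 2, 2, 3, 0, 1, 2], 3382, false, false⟩,
  ⟨[39, 48, 71], [0, 0, 1, 2, 1, 1, 0, 2], [1, 0, 2, 2, 3, 0, 1, 2], 3455, false, false⟩,
  ⟨[30, 44, 40], [0, 0, 1, 2, 2, 1, 0, 0, 1, 4], [1, 1, 2, 0, 1, 3, 3, 4, 1, 2, 3], 2196, false, false⟩,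
  ⟨[36, 42, 38], [0, 0, 1, 2, 2, 1, 0, 0, 1, 2, 2, 3, 4], [1, 1, 2, 0, 1, 1, 2, 3], 2054, false, false⟩,
  ⟨[32, 44, 38], [0, 0, 1, 2, 2, 1, 0, 0, 1, 2, 2, 3, 4], [1, 1, 2, 0, 1, 1, 2, 3], 2480, false, false⟩,
  ⟨[2, 8, 14], [0, 0, 1, 2, 2, 1, 0, 0, 1, 4], [1, 1, 2, 0, 1, 3, 3, 4, 1, 2, 3], 155, false, false⟩,
  ⟨[28, 38, 58], [0, 0, 1, 2, 2, 1, 0, 0, 1, 2, 2, 3, 4], [1, 1, 2, 0, 1, 1, 2, 3], 3916, false, false⟩,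
  ⟨[29, 39, 59], [0, 0, 1, 2, 2, 1, 0, 0, 1, 2, 2, 3, 4], [1, 1, 2, 0, 1, 1, 2, 3], 3917, false, false⟩,
  ⟨[11, 4, 23], [0, 0, 1, 2, 2, 1, 0, 0, 1, 2, 2, 3, 4], [1, 1, 2, 0, 1, 1, 2, 3], 1235, false, false⟩,
  ⟨[5, 8, 23], [0, 0, 1, 2, 2, 1, 0, 0, 1, 4], [1, 1, 2, 0, 1, 3, 3, 4, 1, 2, 3], 381, false, false⟩,
  ⟨[7, 21, 15], [0, 0, 1, 2, 2, 1, 0, 0, 1, 4], [1, 1, 2, 0, 1, 3, 3, 4, 1, 2, 3], 1311, false, false⟩,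
  ⟨[22, 6, 15], [0, 0, 1, 2, 2, 1, 0, 0, 1, 4], [1, 1, 2, 0, 1, 3, 3, 4, 1, 2, 3], 1594, false, false⟩,
  ⟨[12, 21, 10], [0, 0, 1, 2, 2, 1, 0, 0, 1, 4], [1, 1, 2, 0, 1, 3, 3, 4, 1, 2, 3], 883, false, false⟩,
  ⟨[0, 17, 10], [0, 0, 1, 2, 2, 1, 0, 0, 1, 4], [1, 1, 2, 0, 1, 3, 3, 4, 1, 2, 3], 298, false, false⟩,
  ⟨[4, 10, 22], [0, 0, 1, 2, 2, 1, 0, 0, 1, 4], [1, 1, 2, 0, 1, 3, 3, 4, 1, 2, 3], 308, false, false⟩,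
  ⟨[7, 5, 22], [0, 0, 1, 2, 2, 1, 0, 0, 1, 4], [1, 1, 2, 0, 1, 3, 3, 4, 1, 2, 3], 521, false, false⟩,
  ⟨[40, 56, 28], [0, 0, 1, 2, 2, 1, 0, 0, 1, 4], [1, 1, 2, 0, 1, 3, 3, 4, 1, 2, 3], 2922, false, false⟩,
  ⟨[41, 57, 29], [0, 0, 1, 2, 2, 1, 0, 0, 1, 4], [1, 1, 2, 0, 1, 3, 3, 4, 1, 2, 3], 2994, false, false⟩,
  ⟨[8, 17, 19], [0, 0, 1, 2, 2, 1, 0, 0, 1, 4], [1, 1, 2, 0, 1, 3, 3, 4, 1, 2, 3], 955, false, false⟩,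
  ⟨[22, 3, 19], [0, 0, 1, 2, 2, 1, 0, 0, 1, 4], [1, 1, 2, 0, 1, 3, 3, 4, 1, 2, 3], 1595, false, false⟩,
  ⟨[48, 24, 64], [0, 0, 1, 2, 2, 1, 0, 0, 1, 4], [1, 1, 2, 0, 1, 3, 3, 4, 1, 2, 3], 3492, false, false⟩,
  ⟨[5, 7, 23], [0, 0, 1, 2, 2, 1, 0, 0, 1, 4], [1, 1, 2, 0, 1, 3, 3, 4, 1, 2, 3], 380, false, false⟩,
  ⟨[5, 6, 23], [0, 0, 1, 2, 2, 1, 0, 0, 1, 2, 2, 3, 4], [1, 1, 2, 0, 1, 1, 2, 3], 1373, false, false⟩,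
  ⟨[5, 20, 11], [0, 0, 1, 2, 2, 1, 0, 0, 1, 2, 2, 3, 4], [1, 1, 2, 0, 1, 1, 2, 3], 1091, false, false⟩,
  ⟨[15, 11, 22], [0, 0, 1, 2, 2, 1, 0, 0, 1, 4], [1, 1, 2, 0, 1, 3, 3, 4, 1, 2, 3], 1101, false, false⟩,
  ⟨[21, 5, 20], [0, 0, 1, 2, 2, 1, 0, 0, 1, 2, 2, 3, 4], [1, 1, 2, 0, 1, 1, 2, 3], 1172, false, false⟩,
  ⟨[17, 11, 20], [0, 0, 1, 2, 2, 1, 0, 0, 1, 2, 2, 3, 4], [1, 1, 2, 0, 1, 1, 2, 3], 1385, false, false⟩,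
  ⟨[42, 36, 54], [0, 0, 1, 2, 2, 1, 0, 0, 1, 2, 2, 3, 4], [1, 1, 2, 0, 1, 1, 2, 3], 2070, false, false⟩,
  ⟨[42, 37, 54], [0, 0, 1, 2, 2, 1, 0, 0, 1, 2, 2, 3, 4], [1, 1, 2, 0, 1, 1, 2, 3], 2142, false, false⟩,
  ⟨[24, 52, 54], [0, 0, 1, 2, 2, 1, 0, 0, 1, 2, 2, 3, 4], [1, 1, 2, 0, 1, 1, 2, 3], 4200, false, false⟩,
  ⟨[24, 53, 54], [0, 0, 1, 2, 2, 1, 0, 0, 1, 2, 2, 3, 4], [1, 1, 2, 0, 1, 1, 2, 3], 4272, false, false⟩,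
  ⟨[0, 21, 5], [0, 0, 1, 2, 2, 1, 0, 0, 1, 4], [1, 1, 2, 0, 1, 3, 3, 4, 1, 2, 3], 581, false, false⟩,
  ⟨[13, 6, 5], [0, 0, 1, 2, 2, 1, 0, 0, 1, 4], [1, 1, 2, 0, 1, 3, 3, 4, 1, 2, 3], 937, false, false⟩,
  ⟨[4, 21, 1], [0, 0, 1, 2, 2, 1, 0, 0, 1, 2, 2, 3, 4], [1, 1, 2, 0, 1, 1, 2, 3], 796, false, false⟩,
  ⟨[2, 23, 9], [0, 0, 1, 2, 2, 1, 0, 0, 1, 4], [1, 1, 2, 0, 1, 3, 3, 4, 1, 2, 3], 1089, false, false⟩,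
  ⟨[4, 23, 7], [0, 0, 1, 2, 2, 1, 0, 0, 1, 4], [1, 1, 2, 0, 1, 3, 3, 4, 1, 2, 3], 1231, false, false⟩,
  ⟨[28, 46, 58], [0, 0, 1, 2, 2, 1, 0, 0, 1, 4], [1, 1, 2, 0, 1, 3, 3, 4, 1, 2, 3], 2072, false, false⟩,
  ⟨[56, 44, 32], [0, 0, 1, 2, 2, 1, 0, 0, 1, 2, 2, 3, 4], [1, 1, 2, 0, 1, 1, 2, 3], 3488, false, false⟩,
  ⟨[9, 1, 20], [0, 0, 1, 2, 2, 1, 0, 0, 1, 4], [1, 1, 2, 0, 1, 3, 3, 4, 1, 2, 3], 658, false, false⟩,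
  ⟨[10, 8, 12], [0, 0, 1, 2, 2, 1, 0, 0, 1, 2, 2, 3, 4], [1, 1, 2, 0, 1, 1, 2, 3], 444, false, false⟩,
  ⟨[28, 70, 40], [0, 0, 1, 2, 2, 1, 0, 0, 1, 4], [1, 1, 2, 0, 1, 3, 3, 4, 1, 2, 3], 3784, false, false⟩,
  ⟨[28, 71, 40], [0, 0, 1, 2, 2, 1, 0, 0, 1, 4], [1, 1, 2, 0, 1, 3, 3, 4, 1, 2, 3], 3856, false, false⟩,
  ⟨[52, 60, 32], [0, 0, 1, 2, 2, 1, 0, 0, 1, 4], [1, 1, 2, 0, 1, 3, 3, 4, 1, 2, 3], 4640, false, false⟩,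
  ⟨[64, 54, 28], [0, 0, 1, 2, 2, 1, 0, 0, 1, 4], [1, 1, 2, 0, 1, 3, 3, 4, 1, 2, 3], 4924, false, false⟩,
  ⟨[53, 61, 33], [0, 0, 1, 2, 2, 1, 0, 0, 1, 4], [1, 1, 2, 0, 1, 3, 3, 4, 1, 2, 3], 4641, false, false⟩,
  ⟨[64, 55, 28], [0, 0, 1, 2, 2, 1, 0, 0, 1, 4], [1, 1, 2, 0, 1, 3, 3, 4, 1, 2, 3], 4996, false, false⟩,
  ⟨[19, 0, 22], [0, 0, 1, 2, 2, 1, 0, 0, 1, 4], [1, 1, 2, 0, 1, 3, 3, 4, 1, 2, 3], 1377, false, false⟩,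
  ⟨[8, 10, 22], [0, 0, 1, 2, 2, 1, 0, 0, 1, 4], [1, 1, 2, 0, 1, 3, 3, 4, 1, 2, 3], 596, false, false⟩,
  ⟨[17, 10, 3], [0, 0, 1, 2, 2, 1, 0, 0, 1, 2, 2, 3, 4], [1, 1, 2, 0, 1, 1, 2, 3], 1083, false, false⟩,
  ⟨[17, 7, 3], [0, 0, 1, 2, 2, 1, 0, 0, 1, 2, 2, 3, 4], [1, 1, 2, 0, 1, 1, 2, 3], 867, false, false⟩,
  ⟨[0, 17, 10], [0, 0, 1, 2, 2, 1, 0, 0, 1, 2, 2, 3, 4], [1, 1, 2, 0, 1, 1, 2, 3], 1080, false, false⟩,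
  ⟨[24, 58, 46], [0, 0, 1, 2, 2, 1, 0, 0, 1, 4], [1, 1, 2, 0, 1, 3, 3, 4, 1, 2, 3], 2350, false, false⟩,
  ⟨[42, 40, 46], [0, 0, 1, 2, 2, 1, 0, 0, 1, 4], [1, 1, 2, 0, 1, 3, 3, 4, 1, 2, 3], 3062, false, false⟩,
  ⟨[24, 59, 46], [0, 0, 1, 2, 2, 1, 0, 0, 1, 4], [1, 1, 2, 0, 1, 3, 3, 4, 1, 2, 3], 2422, false, false⟩,
  ⟨[8, 2, 22], [0, 0, 1, 2, 2, 1, 0, 0, 1, 2, 2, 3, 4], [1, 1, 2, 0, 1, 1, 2, 3], 872, false, false⟩,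
  ⟨[54, 28, 46], [0, 0, 1, 2, 2, 1, 0, 0, 1, 4], [1, 1, 2, 0, 1, 3, 3, 4, 1, 2, 3], 3914, false, false⟩,
  ⟨[54, 29, 46], [0, 0, 1, 2, 2, 1, 0, 0, 1, 4], [1, 1, 2, 0, 1, 3, 3, 4, 1, 2, 3], 3915, false, false⟩,
  ⟨[50, 34, 70], [0, 0, 1, 2, 2, 1, 0, 0, 1, 4], [1, 1, 2, 0, 1, 3, 3, 4, 1, 2, 3], 3662, false, false⟩,
  ⟨[36, 58, 62], [0, 0, 1, 2, 2, 1, 0, 0, 1, 2, 2, 3, 4], [1, 1, 2, 0, 1, 1, 2, 3], 5076, false, false⟩,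
  ⟨[36, 66, 52], [0, 0, 1, 2, 2, 1, 0, 0, 1, 2, 2, 3, 4], [1, 1, 2, 0, 1, 1, 2, 3], 4372, false, false⟩,
  ⟨[70, 34, 50], [0, 0, 1, 2, 2, 1, 0, 0, 1, 4], [1, 1, 2, 0, 1, 3, 3, 4, 1, 2, 3], 4514, false, false⟩,
  ⟨[68, 34, 52], [0, 0, 1, 2, 2, 1, 0, 0, 1, 4], [1, 1, 2, 0, 1, 3, 3, 4, 1, 2, 3], 4940, false, false⟩,
  ⟨[44, 58, 60], [0, 0, 1, 2, 2, 1, 0, 0, 1, 2, 2, 3, 4], [1, 1, 2, 0, 1, 1, 2, 3], 3804, false, false⟩,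
  ⟨[44, 58, 60], [0, 0, 1, 2, 2, 1, 0, 0, 1, 4], [1, 1, 2, 0, 1, 3, 3, 4, 1, 2, 3], 3236, false, false⟩,
  ⟨[50, 35, 70], [0, 0, 1, 2, 2, 1, 0, 0, 1, 4], [1, 1, 2, 0, 1, 3, 3, 4, 1, 2, 3], 3663, false, false⟩,
  ⟨[37, 59, 63], [0, 0, 1, 2, 2, 1, 0, 0, 1, 2, 2, 3, 4], [1, 1, 2, 0, 1, 1, 2, 3], 5077, false, false⟩,
  ⟨[37, 67, 53], [0, 0, 1, 2, 2, 1, 0, 0, 1, 2, 2, 3, 4], [1, 1, 2, 0, 1, 1, 2, 3], 4373, false, false⟩,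
  ⟨[70, 35, 50], [0, 0, 1, 2, 2, 1, 0, 0, 1, 4], [1, 1, 2, 0, 1, 3, 3, 4, 1, 2, 3], 4586, false, false⟩,
  ⟨[69, 35, 53], [0, 0, 1, 2, 2, 1, 0, 0, 1, 4], [1, 1, 2, 0, 1, 3, 3, 4, 1, 2, 3], 5012, false, false⟩,
  ⟨[44, 59, 60], [0, 0, 1, 2, 2, 1, 0, 0, 1, 2, 2, 3, 4], [1, 1, 2, 0, 1, 1, 2, 3], 3876, false, false⟩,
  ⟨[14, 7, 3], [0, 0, 1, 2, 2, 1, 0, 0, 1, 2, 2, 3, 4], [1, 1, 2, 0, 1, 1, 2, 3], 723, false, false⟩,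
  ⟨[10, 8, 5], [0, 0, 1, 2, 2, 1, 0, 0, 1, 4], [1, 1, 2, 0, 1, 3, 3, 4, 1, 2, 3], 437, false, false⟩,
  ⟨[6, 16, 2], [0, 0, 1, 2, 2, 1, 0, 0, 1, 4], [1, 1, 2, 0, 1, 3, 3, 4, 1, 2, 3], 794, false, false⟩,
  ⟨[42, 36, 70], [0, 0, 1, 2, 2, 1, 0, 0, 1, 4], [1, 1, 2, 0, 1, 3, 3, 4, 1, 2, 3], 3088, false, false⟩,
  ⟨[42, 68, 44], [0, 0, 1, 2, 2, 1, 0, 0, 1, 4], [1, 1, 2, 0, 1, 3, 3, 4, 1, 2, 3], 4220, false, false⟩,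
  ⟨[43, 37, 71], [0, 0, 1, 2, 2, 1, 0, 0, 1, 4], [1, 1, 2, 0, 1, 3, 3, 4, 1, 2, 3], 3160, false, false⟩,
  ⟨[43, 69, 45], [0, 0, 1, 2, 2, 1, 0, 0, 1, 4], [1, 1, 2, 0, 1, 3, 3, 4, 1, 2, 3], 4221, false, false⟩,
  ⟨[48, 50, 34], [0, 0, 1, 2, 2, 1, 0, 0, 1, 4], [1, 1, 2, 0, 1, 3, 3, 4, 1, 2, 3], 3778, false, false⟩,
  ⟨[19, 2, 16], [0, 0, 1, 2, 2, 1, 0, 0, 1, 4], [1, 1, 2, 0, 1, 3, 3, 4, 1, 2, 3], 736, false, false⟩,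
  ⟨[38, 58, 26], [0, 0, 1, 2, 2, 1, 0, 0, 1, 4], [1, 1, 2, 0, 1, 3, 3, 4, 1, 2, 3], 2778, false, false⟩,
  ⟨[38, 58, 62], [0, 0, 1, 2, 2, 1, 0, 0, 1, 4], [1, 1, 2, 0, 1, 3, 3, 4, 1, 2, 3], 3950, false, false⟩,
  ⟨[39, 59, 27], [0, 0, 1, 2, 2, 1, 0, 0, 1, 4], [1, 1, 2, 0, 1, 3, 3, 4, 1, 2, 3], 2850, false, false⟩]

/-- masks before -/
def stA8 : ℕ × ℕ × ℕ := (0xe58621000000fff080ffcf33000000fff880ffbccc030200fffa007f7ccc030100fffa007cd2c0008000fff030fcf3c000c000fff03073d83c123000ffe800f3f43c313010ffe902eff023f02400ffd0405fd013701400ffd44035b088036402fbf0203ff044017c01fbf022720efc040300ff3a80f10ffc0d0300ff3ac0cc0fc3cc00c0feb054440741440040feb0d43c2ec8000040f7b0203c1fc4414040f7b010c38c3f3c0030fd6a00434c3f341030fd6e82332cbc033212ef6240331c7c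133331ef6b5b40c233600028fcd880f0c333900014fcd080048200000c4800400404c24350c0c49094c403403a00140a80040003c037541c1d884cca0000000000000000000005011401144001c0122088004100001000c104400042100010084c30c0c3ecc3000083443040c354414090b363b02c33ae33800c02537014135511000c2202d000d2a009180042f1f000f1f41d180442400ccc0f237b001a10400c44071115000a10000240448209008010f003c0ccc34f028290020012020880000100f1003d35175f00014b4584210102001000004544020111001040000000000000000000003fcf3311ffc5002013ffffff137000fffc20ffffff4441c0ffb390ffffff393310ff6b48fffff3cc0400fed684ffff3f743410fdcdc2ffcfffcc03d0fc3fc0ffffccc3d203f3f23cfffcfc133c20ebe93afff3c343e441dbd4b6fff03f50701cfbcc66ff3ffc0f4310e73b39fcffc3c5c001d6b6b5c3cc3f31303dac6d2bcfe023f48c0c9cdce7cc0ccbc8024fe21305f005f42c3334ed2bdbcc0ff354034ddc97d7c3cb15540010fc4fcf3f70ccf3ff1182dc3b3c03404f4751c2b3bf333cf401f313e36b7f0cf300533111d2d4df03f01654c7d1bbcfff000ffc135c007ffc20,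 0x0, 0x0)

/-- masks after -/
def stB8 : ℕ × ℕ × ℕ := (0xffefbba80000fff080ffdf77543000fff880ffbeec132210fffa00ff7ddc131110fffa00fefbc202c000fff030fdf7c101c400fff030fbf83e123000ffe800f7f43d313310ffe902eff227f0a408ffd040dff117705404ffd440bff088236402fbf0207ff074517c01fbf022fa0ffe0c0381ff3a80f50ffd3d0351ff3ac0ec8fe3cc82c8feb054dc4fd3cc4144feb0d4bc2fc8880042f7b0207c5fc445407df7b010e39e3f3d0230fd6a00d35d3f351530fd6e82b32cbc033212ef624073dc7c173331ef6b5bcacb33e000a8fcd880f5c733901154fcd08084a382000c4800400444d24354c0c59094c483603a00140a80040053d037541c1d884cca0100800000000000004105455441144001c0122088044100001000c504400442500010086c32c0c7eec30000834c7140c755414090b363b02c33ae33800c02537014135511000c220af000d2a009180042f5f000f1f51d180442600eec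4fa37b001a10500d54475115000a10080242448209008010f407c1cdd34f028290020852020880000100f1057d35575f00014b4586210102001000004545020111001040000000000000000000003fdf7311ffc5002013ffffff137000fffc20ffffff4441c0ffbf90ffffff393310ff6b48fffff3cc0400fed684ffff3f743410ffcfe2ffcfffcc03d0fcbfc0ffffccc3d203f3fabcfffcfc133c20fbe93afff3c343e441fbdebffff03f50701cfbcc66ff3ffc0f4310ef3b3bfcffc3c5c001deb7bdc3cc3f31303dac6d3fcfe023f48c0c9ddcefcc0ccbc8024fe21705f005f42c3334fd2bfbcc0ff354034dde97d7c3cb15540010fc5fef3f70ccf3ff11b2dc3b3c03404f4751d2b7bf333cf401f313e36b7f0cf300533111d2dcdf03f01654c7d1bbcfff000ffc135c007ffc20, 0x0, 0x0)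

theorem chain8_ok : (chainOK tab steps8 stA8.1 stA8.2.1 stA8.2.2 &&
    (learnAll steps8 stA8 == stB8) && (stA8.2.1 ||| stA8.1 == stA8.1) &&
    (stA8.2.2 ||| stA8.1 == stA8.1)) = true := by decide +kernel

theorem run8 {P : Type*} [Group P] (S : Sys tab P) {g h : Subgroup.center P} (hg : g * g = 1) (hh : h * h = 1)
    (H : S.Holds g h stA8.1 stA8.2.1 stA8.2.2) : S.Holds g h stB8.1 stB8.2.1 stB8.2.2 := by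
  have h' := chain8_ok
  simp only [Bool.and_eq_true, beq_iff_eq] at h'
  rw [← h'.1.1.2]
  exact S.chain_spec hg hh steps8 _ _ _ H h'.1.2 h'.2 h'.1.1.1

end CfsgLib.Lie.MultExc.TwESixTwo
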