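import Cfsg.Agent.Lib.Lie.MultExc.TwESixTwo.Steps0
import Cfsg.Agent.Lib.Lie.MultExc.TwESixTwo.Steps1
import Cfsg.Agent.Lib.Lie.MultExc.TwESixTwo.Steps2
import Cfsg.Agent.Lib.Lie.MultExc.TwESixTwo.Steps3
import Cfsg.Agent.Lib.Lie.MultExc.TwESixTwo.Steps4
import Cfsg.Agent.Lib.Lie.MultExc.TwESixTwo.Steps5
import Cfsg.Agent.Lib.Lie.MultExc.TwESixTwo.Steps6
import Cfsg.Agent.Lib.Lie.MultExc.TwESixTwo.Steps7
import Cfsg.Agent.Lib.Lie.MultExc.TwESixTwo.Steps8
import Cfsg.Agent.Lib.Lie.MultExc.TwESixTwo.Steps9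
import Cfsg.Agent.Lib.Lie.MultExc.TwESixTwo.Steps10
import Cfsg.Agent.Lib.Lie.MultExc.TwESixTwo.Steps11
import Cfsg.Agent.Lib.Lie.MultExc.TwESixTwo.Steps12
import Cfsg.Agent.Lib.Lie.MultExc.TwESixTwo.PosTable

/-!
All deductions: the two free corrections are involutions and determine the others.
-/

set_option autoImplicit false
set_option maxRecDepth 100000

open scoped IsMulCommutative

namespace CfsgLib.Lie.MultExc.TwESixTwo

/-- the first free correction -/
def gvar1 : ℕ := 2927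

/-- the second free correction -/
def gvar2 : ℕ := 3135

/-- the word giving the square of the first -/
def gWord1 : List ℕ × List ℕ × List ℕ := ([40, 40, 47], [0], [1, 1, 2, 0, 2, 0, 1])

/-- the word giving the square of the second -/
def gWord2 : List ℕ × List ℕ × List ℕ := ([43, 43, 39], [0], [1, 1, 2, 0, 2, 0, 1])

theorem g1_ok : (gStepOK tab stB10.1 stB10.2.1 stB10.2.2 gvar1 gWord1 &&
    ((stB10.1 ||| 2 ^ gvar1, stB10.2.1 ||| 2 ^ gvar1, stB10.2.2) == stA11) &&
    (stB10.2.1 ||| stB10.1 == stB10.1) && (stB10.2.2 ||| stB10.1 == stB10.1)) = true := by decide +kernel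

theorem g2_ok : (gStepOK tab stB11.1 stB11.2.1 stB11.2.2 gvar2 gWord2 &&
    ((stB11.1 ||| 2 ^ gvar2, stB11.2.1, stB11.2.2 ||| 2 ^ gvar2) == stA12) &&
    (stB11.2.1 ||| stB11.1 == stB11.1) && (stB11.2.2 ||| stB11.1 == stB11.1)) = true := by decide +kernel

theorem links_ok : (((known0, 0, 0) == stA0) && (stB0 == stA1) && (stB1 == stA2) && (stB2 == stA3) && (stB3 == stA4) && (stB4 == stA5) && (stB5 == stA6) && (stB6 == stA7) && (stB7 == stA8) && (stB8 == stA9) && (stB9 == stA10) &&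
    (stB12 == (knownF, val1F, val2F))) = true := by decide +kernel

variable {P : Type*} [Group P] (S : Sys tab P)

theorem holds_ten (H0 : ∀ g h, S.Holds g h known0 0 0) {g h : Subgroup.center P} (hg : g * g = 1) (hh : h * h = 1) :
    S.Holds g h stB10.1 stB10.2.1 stB10.2.2 := by
  have e := links_ok
  simp only [Bool.and_eq_true, beq_iff_eq] at e
  obtain ⟨⟨⟨⟨⟨⟨⟨⟨⟨⟨⟨e0, e1⟩, e2⟩, e3⟩, e4⟩, e5⟩, e6⟩, e7⟩, e8⟩, e9⟩, e10⟩, -⟩ := e
  have h0 : S.Holds g h stA0.1 stA0.2.1 stA0.2.2 := by rw [← e0]; exact H0 g h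
  have q0 := run0 S hg hh h0
  rw [e1] at q0
  have q1 := run1 S hg hh q0
  rw [e2] at q1
  have q2 := run2 S hg hh q1
  rw [e3] at q2
  have q3 := run3 S hg hh q2
  rw [e4] at q3
  have q4 := run4 S hg hh q3
  rw [e5] at q4
  have q5 := run5 S hg hh q4
  rw [e6] at q5
  have q6 := run6 S hg hh q5
  rw [e7] at q6
  have q7 := run7 S hg hh q6
  rw [e8] at q7
  have q8 := run8 S hg hh q7
  rw [e9] at q8
  have q9 := run9 S hg hh q8
  rw [e10] at q9
  have q10 := run10 S hg hh q9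
  exact q10

theorem first_sq (H0 : ∀ g h, S.Holds g h known0 0 0) : S.c gvar1 * S.c gvar1 = 1 := by
  have e := g1_ok
  simp only [Bool.and_eq_true] at e
  exact (S.gStep_spec (g := 1) (h := 1) (one_mul 1) (one_mul 1)
    (holds_ten S H0 (one_mul 1) (one_mul 1)) e.1.1.1).1

theorem holds_eleven (H0 : ∀ g h, S.Holds g h known0 0 0) {h : Subgroup.center P} (hh : h * h = 1) :
    S.Holds (S.c gvar1) h stB11.1 stB11.2.1 stB11.2.2 := by
  have hg := first_sq S H0
  have e := g1_ok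
  simp only [Bool.and_eq_true, beq_iff_eq] at e
  obtain ⟨⟨⟨e1, e2⟩, e3⟩, e4⟩ := e
  have H := S.holds_insert (holds_ten S H0 hg hh)
    (S.gStep_spec hg hh (holds_ten S H0 hg hh) e1).2 e3 e4 (p := true) (q := false)
    (by simp [Sys.two])
  refine run11 S hg hh ?_
  rw [← e2]
  simpa using H

theorem second_sq (H0 : ∀ g h, S.Holds g h known0 0 0) : S.c gvar2 * S.c gvar2 = 1 := by
  have e := g2_ok
  simp only [Bool.and_eq_true] at e
  exact (S.gStep_spec (h := 1) (first_sq S H0) (one_mul 1) (holds_eleven S H0 (one_mul 1)) e.1.1.1).1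

theorem holds_all (H0 : ∀ g h, S.Holds g h known0 0 0) :
    S.Holds (S.c gvar1) (S.c gvar2) knownF val1F val2F := by
  have hg := first_sq S H0
  have hh := second_sq S H0
  have e := g2_ok
  simp only [Bool.and_eq_true, beq_iff_eq] at e
  obtain ⟨⟨⟨e1, e2⟩, e3⟩, e4⟩ := e
  have H := S.holds_insert (holds_eleven S H0 hh)
    (S.gStep_spec hg hh (holds_eleven S H0 hh) e1).2 e3 e4 (p := false) (q := true)
    (by simp [Sys.two])
  have H' : S.Holds (S.c gvar1) (S.c gvar2) stA12.1 stA12.2.1 stA12.2.2 := by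
    rw [← e2]
    simpa using H
  have q := run12 S hg hh H'
  have l := links_ok
  simp only [Bool.and_eq_true, beq_iff_eq] at l
  rw [l.2] at q
  exact q

end CfsgLib.Lie.MultExc.TwESixTwo
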