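import Cfsg.Agent.Lib.Lie.MultExc.TwESixTwo.Pos
import Cfsg.Agent.Lib.Lie.MultExc.TwESixTwo.Chain
import Cfsg.Agent.Lib.Lie.Mult.TE6.Prime
import Cfsg.Agent.Lib.Lie.Mult.Sylow
import Cfsg.Agent.Lib.PGroup.StemExtension

/-!
Stem extensions of `²E₆(2)`: the kernel is an image of `Z3 × Z2 × Z2`.
-/

set_option autoImplicit false
set_option maxRecDepth 100000

namespace CfsgLib.Lie.MultExc.TwESixTwo

open Cfsg.Lie CfsgLib.Lie.Chev
open scoped MatrixGroups commutatorElement IsMulCommutative

/-- the gauge pairs and the starting mask fit -/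
def gaugeOK : Bool :=
  (gauge.length == 72) &&
  ((List.range 72).all fun z =>
    let p := gauge.getD z (0, 0)
    decode (entry tab p.1 p.2) == some [z] && !(p.1 == p.2)) &&
  Nat.blt known0 (2 ^ 5184) &&
  ((List.range 5184).all fun v => !known0.testBit v || gauge.contains (v / 72, v % 72))

theorem gauge_ok : gaugeOK = true := by decide +kernel

variable {K : Type*} [Field K] [Fintype K] (F : Fld K)
variable {P : Type*} [Group P] {τ : P →* ↥(twistedE6 K 2)} (hτ : Cfsg.IsStemExtension τ)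

/-- some lift of a letter -/
noncomputable def psi (l : ℕ) : P := Function.surjInv hτ.1 (elG F l)

theorem τ_psi (l : ℕ) : τ (psi F hτ l) = elG F l := Function.surjInv_eq hτ.1 _

/-- the lift of a letter defined by the gauge -/
noncomputable def phi (l : ℕ) : P :=
  if l < 72 then ⁅psi F hτ (gauge.getD l (0, 0)).1, psi F hτ (gauge.getD l (0, 0)).2⁆ else 1

theorem gauge_spec {l : ℕ} (hl : l < 72) :
    decode (entry tab (gauge.getD l (0, 0)).1 (gauge.getD l (0, 0)).2) = some [l] ∧
      (gauge.getD l (0, 0)).1 ≠ (gauge.getD l (0, 0)).2 := by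
  have h := gauge_ok
  simp only [gaugeOK, Bool.and_eq_true, List.all_eq_true, List.mem_range] at h
  have h0 := h.1.1.2 l hl
  simpa using h0

theorem τ_phi (l : ℕ) : τ (phi F hτ l) = elG F l := by
  unfold phi
  split
  next hl =>
    obtain ⟨hd, hne⟩ := gauge_spec hl
    rw [map_commutatorElement, τ_psi, τ_psi, commutatorElement_def, elG_rel F hd, if_neg hne]
    simp only [List.map_cons, List.map_nil, List.prod_cons, List.prod_nil, List.singleton_append, mul_one]
    group
  next hl =>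
    rw [map_one]
    exact Subtype.ext (by simp [elG, el, hl])

/-- the correction of a code -/
noncomputable def cP (v : ℕ) : P :=
  if 5184 ≤ v then 1
  else if v / 72 = v % 72 then phi F hτ (v / 72) * phi F hτ (v / 72)
  else match decode (entry tab (v / 72) (v % 72)) with
    | none => 1
    | some T => phi F hτ (v / 72) * phi F hτ (v % 72) *
        ((T.map (phi F hτ)).prod * phi F hτ (v % 72) * phi F hτ (v / 72))⁻¹

theorem cP_mem_ker (v : ℕ) : cP F hτ v ∈ τ.ker := by
  rw [MonoidHom.mem_ker, cP]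
  split
  · exact map_one _
  next hv =>
    split
    next e => rw [map_mul, τ_phi, elG_sq]
    next hne =>
      split
      · exact map_one _
      next T hT =>
        have hm : τ (T.map (phi F hτ)).prod = (T.map (elG F)).prod := by
          rw [map_list_prod, List.map_map]
          exact congrArg List.prod (List.map_congr_left fun k _ => τ_phi F hτ k)
        rw [map_mul, map_mul, map_inv, map_mul, map_mul, hm, τ_phi, τ_phi, elG_rel F hT, if_neg hne]
        simp [mul_assoc]

/-- the corrections in the centre -/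
noncomputable def cor (v : ℕ) : Subgroup.center P := ⟨cP F hτ v, hτ.2.1 (cP_mem_ker F hτ v)⟩

/-- the rewriting system of the lifts -/
noncomputable def liftSys : Sys tab P where
  phi := phi F hτ
  c := cor F hτ
  rel := fun x y T hne hT => by
    obtain ⟨h1, h2⟩ := lt_of_decode hT
    show _ = cP F hτ (pid x y) * _
    rw [cP, if_neg (by unfold pid; omega), show pid x y / 72 = x by unfold pid; omega,
      show pid x y % 72 = y by unfold pid; omega, if_neg hne, hT]
    simp only
    rw [inv_mul_cancel_right]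
  sq := fun x => by
    show _ = cP F hτ (pid x x)
    by_cases hx : x < 72
    · rw [cP, if_neg (by unfold pid; omega), show pid x x / 72 = x by unfold pid; omega,
        show pid x x % 72 = x by unfold pid; omega, if_pos rfl]
    · rw [cP, if_pos (by unfold pid; omega), phi, if_neg hx, one_mul]

include hτ in
theorem comm_congr {za zb : P} (hza : za ∈ τ.ker) (hzb : zb ∈ τ.ker) (a b : P) :
    ⁅a * za, b * zb⁆ = ⁅a, b⁆ := by
  have ca : ∀ x : P, za * x = x * za := fun x => (Subgroup.mem_center_iff.1 (hτ.2.1 hza) x).symm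
  have cb : ∀ x : P, zb * x = x * zb := fun x => (Subgroup.mem_center_iff.1 (hτ.2.1 hzb) x).symm
  calc ⁅a * za, b * zb⁆ = a * (za * b) * (zb * za⁻¹) * a⁻¹ * zb⁻¹ * b⁻¹ := by
        rw [commutatorElement_def]; group
    _ = a * b * (zb * a⁻¹) * zb⁻¹ * b⁻¹ := by rw [ca b, cb za⁻¹]; group
    _ = _ := by rw [cb, commutatorElement_def]; group

theorem cor_gauge {l : ℕ} (hl : l < 72) :
    cor F hτ (pid (gauge.getD l (0, 0)).1 (gauge.getD l (0, 0)).2) = 1 := by
  obtain ⟨hd, hne⟩ := gauge_spec hl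
  set a := (gauge.getD l (0, 0)).1 with ha
  set b := (gauge.getD l (0, 0)).2 with hb
  refine Subtype.ext ?_
  have e := (liftSys F hτ).rel a b [l] hne hd
  have hc : ⁅phi F hτ a, phi F hτ b⁆ = phi F hτ l := by
    conv_rhs => rw [phi, if_pos hl]
    obtain ⟨za, hza, eza⟩ : ∃ z ∈ τ.ker, phi F hτ a = psi F hτ a * z :=
      ⟨(psi F hτ a)⁻¹ * phi F hτ a, by rw [MonoidHom.mem_ker, map_mul, map_inv, τ_phi, τ_psi, inv_mul_cancel], by group⟩
    obtain ⟨zb, hzb, ezb⟩ : ∃ z ∈ τ.ker, phi F hτ b = psi F hτ b * z :=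
      ⟨(psi F hτ b)⁻¹ * phi F hτ b, by rw [MonoidHom.mem_ker, map_mul, map_inv, τ_phi, τ_psi, inv_mul_cancel], by group⟩
    rw [eza, ezb, comm_congr hτ hza hzb, ← ha, ← hb]
  simp only [liftSys, List.map_cons, List.map_nil, List.prod_cons, List.prod_nil, mul_one] at e
  show cP F hτ (pid a b) = 1
  have e2 : phi F hτ a * phi F hτ b = phi F hτ l * phi F hτ b * phi F hτ a := by
    rw [← hc, commutatorElement_def]; group
  exact mul_eq_right.1 (e.symm.trans e2)

theorem holds_zero (g h : Subgroup.center P) : (liftSys F hτ).Holds g h known0 0 0 := by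
  intro u hu
  have hg := gauge_ok
  simp only [gaugeOK, Bool.and_eq_true, List.all_eq_true, List.mem_range, Nat.blt_eq, beq_iff_eq] at hg
  have hu' : u < 5184 := by
    by_contra hge
    rw [Nat.testBit_eq_false_of_lt (lt_of_lt_of_le hg.1.2 (Nat.pow_le_pow_right (by norm_num) (by omega)))] at hu
    exact absurd hu (by simp)
  have h2 := hg.2 u hu'
  simp only [hu, Bool.not_true, Bool.false_or, List.contains_iff_mem] at h2
  obtain ⟨i, hi, e⟩ := List.getElem_of_mem h2
  have hlen : gauge.length = 72 := hg.1.1.1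
  have e' : gauge.getD i (0, 0) = (u / 72, u % 72) := by rw [List.getD_eq_getElem _ _ hi, e]
  have h3 := cor_gauge F hτ (l := i) (hlen ▸ hi)
  rw [e', show pid (u / 72) (u % 72) = u by unfold pid; omega] at h3
  show cor F hτ u = _
  rw [h3]
  simp [Sys.two]

/-- the two free corrections -/
noncomputable def zP (p : Pc.Bits) : P :=
  ((Sys.two (cor F hτ gvar1) (cor F hτ gvar2) p.1 p.2 : Subgroup.center P) : P)

/-- the lift of a positive letter -/
noncomputable def phiP (i : ℕ) : P := phi F hτ (posLet i)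

theorem τ_zP (p : Pc.Bits) : τ (zP F hτ p) = 1 := by
  unfold zP Sys.two
  rw [Subgroup.coe_mul, map_mul]
  have h : ∀ v, τ ((cor F hτ v : Subgroup.center P) : P) = 1 := fun v => cP_mem_ker F hτ v
  split <;> split <;> simp [h]

theorem sat_lift : Pc.Sat pcE 36 full (phiP F hτ) (zP F hτ) := by
  have H := holds_all (liftSys F hτ) (holds_zero F hτ)
  have hg : cor F hτ gvar1 * cor F hτ gvar1 = 1 := first_sq (liftSys F hτ) (holds_zero F hτ)
  have hh : cor F hτ gvar2 * cor F hτ gvar2 = 1 := second_sq (liftSys F hτ) (holds_zero F hτ)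
  refine ⟨fun a ha => full_lt ha, fun p q => ?_, fun p g => ?_, fun a b ha hb hle => ?_⟩
  · show ((_ : Subgroup.center P) : P) * ((_ : Subgroup.center P) : P) = _
    rw [← Subgroup.coe_mul, Sys.two_mul hg hh]
    rfl
  · exact (Subgroup.mem_center_iff.1 (Subtype.prop _) g).symm
  · obtain ⟨hd, hk, hv⟩ := pos_spec hle (full_lt hb)
    have hc : ((cor F hτ (pid (posLet b) (posLet a)) : Subgroup.center P) : P) = zP F hτ (pcE b a).1 := by
      have e := H _ hk
      rw [hv]
      exact congrArg Subtype.val e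
    by_cases e : a = b
    · subst e
      have e1 := (liftSys F hτ).sq (posLet a)
      have hT := (Pc.upOK_spec (fun a ha => full_lt ha) full_up ha ha le_rfl).2 rfl
      show phi F hτ (posLet a) * phi F hτ (posLet a) = _
      refine e1.trans ?_
      rw [Pc.R, if_pos rfl, hT]
      simpa [Pc.ev, liftSys] using hc
    · have e1 := (liftSys F hτ).rel (posLet b) (posLet a) _ (posLet_ne (full_lt hb) (full_lt ha) (Ne.symm e)) hd
      show phi F hτ (posLet b) * phi F hτ (posLet a) = _
      refine e1.trans ?_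
      show ((cor F hτ (pid (posLet b) (posLet a)) : Subgroup.center P) : P) *
        ((((pcE b a).2.map posLet).map (phi F hτ)).prod * phi F hτ (posLet a) * phi F hτ (posLet b)) = _
      rw [hc, Pc.R, if_neg e]
      simp [Pc.ev, List.map_map, mul_assoc]
      rfl

/-- the subgroup of the free corrections -/
noncomputable def Zsub : Subgroup P where
  carrier := Set.range (zP F hτ)
  mul_mem' := by rintro _ _ ⟨p, rfl⟩ ⟨q, rfl⟩; exact ⟨_, ((sat_lift F hτ).zmul p q).symm⟩
  one_mem' := ⟨_, (sat_lift F hτ).z_zero⟩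
  inv_mem' := by rintro _ ⟨p, rfl⟩; exact ⟨p, ((sat_lift F hτ).z_inv p).symm⟩

theorem Zsub_le : Zsub F hτ ≤ τ.ker := by
  rintro _ ⟨p, rfl⟩
  exact τ_zP F hτ p

include hτ in
theorem Zsub_normal : (Zsub F hτ).Normal :=
  ⟨fun n hn g => by rw [Subgroup.mem_center_iff.1 (hτ.2.1 (Zsub_le F hτ hn)) g, mul_inv_cancel_right]; exact hn⟩

include hτ in
/-- the kernel modulo the two corrections has order dividing three -/
theorem card_quot_dvd [Finite P] :
    haveI := Zsub_normal F hτ
    Nat.card (τ.ker.map (QuotientGroup.mk' (Zsub F hτ))) ∣ 3 := by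
  haveI := Zsub_normal F hτ
  set Z := Zsub F hτ
  let τ' : P ⧸ Z →* ↥(twistedE6 K 2) := QuotientGroup.lift Z τ (Zsub_le F hτ)
  have hk : τ'.ker = τ.ker.map (QuotientGroup.mk' Z) := QuotientGroup.ker_lift _ _ _
  have hs : Cfsg.IsStemExtension τ' := by
    refine ⟨fun g => ?_, ?_, ?_⟩
    · obtain ⟨x, hx⟩ := hτ.1 g
      exact ⟨QuotientGroup.mk' Z x, hx⟩
    · rw [hk]
      rintro _ ⟨x, hx, rfl⟩
      refine Subgroup.mem_center_iff.2 fun y => ?_
      obtain ⟨y, rfl⟩ := QuotientGroup.mk'_surjective Z y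
      rw [← map_mul, ← map_mul, Subgroup.mem_center_iff.1 (hτ.2.1 hx) y]
    · rw [hk]
      refine (Subgroup.map_mono hτ.2.2).trans ?_
      rw [commutator_def, commutator_def, Subgroup.map_commutator]
      exact Subgroup.commutator_mono le_top le_top
  have hodd : ¬ 2 ∣ Nat.card τ'.ker := by
    haveI : Fact (Nat.Prime 2) := ⟨Nat.prime_two⟩
    refine CfsgLib.Lie.Mult.not_dvd_ker_of_preimage hs (Upos F) ?_ fun x hx hx' _ => ?_
    · have := Upos_index_odd F
      rw [Nat.odd_iff] at this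
      omega
    obtain ⟨x, rfl⟩ := QuotientGroup.mk'_surjective Z x
    set M := Subgroup.closure (Set.range (zP F hτ) ∪ phiP F hτ '' {i | full.testBit i = true}) with hM
    have hZM : Z ≤ M := fun y hy => Subgroup.subset_closure (Or.inl hy)
    have hmap : Upos F ≤ M.map τ := (Subgroup.closure_le _).2 (by
      rintro _ ⟨i, hi, rfl⟩
      exact ⟨_, Subgroup.subset_closure (Or.inr ⟨i, hi, rfl⟩), τ_phi F hτ _⟩)
    have hcomm : ⁅(Upos F).comap τ', (Upos F).comap τ'⁆ ≤ M.map (QuotientGroup.mk' Z) := by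
      refine Subgroup.commutator_le.2 fun a ha b hb => ?_
      obtain ⟨a, rfl⟩ := QuotientGroup.mk'_surjective Z a
      obtain ⟨b, rfl⟩ := QuotientGroup.mk'_surjective Z b
      obtain ⟨a', ha', ea⟩ := hmap ha
      obtain ⟨b', hb', eb⟩ := hmap hb
      refine ⟨⁅a', b'⁆, ?_, ?_⟩
      · rw [commutatorElement_def]
        exact mul_mem (mul_mem (mul_mem ha' hb') (inv_mem ha')) (inv_mem hb')
      rw [← map_commutatorElement]
      congr 1
      have key : ∀ {u v : P}, τ u = τ v → ∃ z ∈ τ.ker, u = v * z := fun {u v} h =>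
        ⟨v⁻¹ * u, by rw [MonoidHom.mem_ker, map_mul, map_inv, h, inv_mul_cancel], by group⟩
      obtain ⟨za, hza, rfl⟩ := key (u := a') (v := a) ea
      obtain ⟨zb, hzb, rfl⟩ := key (u := b') (v := b) eb
      exact comm_congr hτ hza hzb a b
    obtain ⟨y, hy, hyx⟩ := hcomm hx'
    have hy1 : τ y = 1 := by
      have h : τ' (QuotientGroup.mk' Z y) = 1 := by rw [hyx]; exact hx
      exact h
    obtain ⟨p, hp⟩ := mem_range_of_p_eq_one F (sat_lift F hτ) τ (fun i _ => τ_phi F hτ _) (τ_zP F hτ) hy hy1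
    rw [← hyx, ← hp]
    exact (QuotientGroup.eq_one_iff _).2 ⟨p, rfl⟩
  have hch : ringChar K = 2 := by
    haveI := ringChar.charP K
    have hd : ringChar K ∣ 2 := (ringChar.spec K 2).1 (by exact_mod_cast F.two)
    exact (Nat.prime_dvd_prime_iff_eq (CharP.char_is_prime K _) Nat.prime_two).1 hd
  have h3 := CfsgLib.Lie.Mult.TE6Prime.card_ker_dvd F.th F.q_isPrimePow F.card' F.th_pow F.th_th hs
    (by rw [hch]; exact hodd)
  rwa [← hk]

universe v

/-- the kernel is an image of the abelian group of order twelve -/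
theorem exists_surj (F : Fld K) {P : Type v} [Group P] [Finite P] {τ : P →* ↥(twistedE6 K 2)}
    (hτ : Cfsg.IsStemExtension τ) :
    ∃ π : Multiplicative (ZMod 3 × ZMod 2 × ZMod 2) →* τ.ker, Function.Surjective π := by
  classical
  haveI := Zsub_normal F hτ
  have hdvd := card_quot_dvd F hτ
  set Z := Zsub F hτ
  set Q := τ.ker.map (QuotientGroup.mk' Z)
  haveI : Fact (Nat.Prime 3) := ⟨by norm_num⟩
  obtain ⟨g, hg⟩ : ∃ g : Q, ∀ x : Q, x ∈ Subgroup.zpowers g := by
    haveI : IsCyclic Q := by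
      rcases (Nat.dvd_prime (by norm_num : Nat.Prime 3)).1 hdvd with h | h
      · haveI := (Nat.card_eq_one_iff_unique.1 h).1
        infer_instance
      · exact isCyclic_of_prime_card h
    exact IsCyclic.exists_generator
  obtain ⟨y0, hy0, hy0g⟩ := g.2
  have hz2 : ∀ z ∈ Z, z * z = 1 := by rintro _ ⟨p, rfl⟩; exact (sat_lift F hτ).z_self p
  have hy3 : y0 ^ 3 ∈ Z := by
    refine (QuotientGroup.eq_one_iff _).1 ?_
    show QuotientGroup.mk' Z (y0 ^ 3) = 1
    rw [map_pow, hy0g]
    have : g ^ 3 = 1 := orderOf_dvd_iff_pow_eq_one.1 ((orderOf_dvd_natCard g).trans hdvd)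
    exact congrArg Subtype.val this
  set y := y0 ^ 4 with hy
  have hyk : y ∈ τ.ker := pow_mem hy0 4
  have h3 : y ^ 3 = 1 := by
    rw [hy, ← pow_mul, show 4 * 3 = 3 + 3 + (3 + 3) from rfl, pow_add, pow_add, hz2 _ hy3, one_mul]
  have hyq : QuotientGroup.mk' Z y = g.1 := by
    rw [hy, pow_succ', map_mul, hy0g, show QuotientGroup.mk' Z (y0 ^ 3) = 1 from (QuotientGroup.eq_one_iff _).2 hy3,
      mul_one]
  let Y : τ.ker := ⟨y, hyk⟩
  let zk : Pc.Bits → τ.ker := fun p => ⟨zP F hτ p, τ_zP F hτ p⟩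
  have hY : Y ^ 3 = 1 := Subtype.ext h3
  let b2 : ZMod 2 → Bool := fun c => c == 1
  have hbadd : ∀ c d : ZMod 2, b2 (c + d) = xor (b2 c) (b2 d) := by decide
  have hYadd : ∀ c d : ZMod 3, Y ^ (c + d).val = Y ^ c.val * Y ^ d.val := fun c d => by
    rw [← pow_add, ZMod.val_add, ← pow_eq_pow_mod _ hY]
  have hcomm : ∀ p : Pc.Bits, ∀ w : τ.ker, Commute (zk p) w := fun p w =>
    Subtype.ext ((sat_lift F hτ).zc p w.1).eq
  let π : Multiplicative (ZMod 3 × ZMod 2 × ZMod 2) →* τ.ker :=
    { toFun := fun m => Y ^ m.toAdd.1.val * zk (b2 m.toAdd.2.1, b2 m.toAdd.2.2)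
      map_one' := by
        refine Subtype.ext ?_
        show y ^ 0 * zP F hτ (false, false) = 1
        rw [pow_zero, one_mul]
        exact (sat_lift F hτ).z_zero
      map_mul' := fun m n => by
        have hz : zk (b2 (m * n).toAdd.2.1, b2 (m * n).toAdd.2.2) =
            zk (b2 m.toAdd.2.1, b2 m.toAdd.2.2) * zk (b2 n.toAdd.2.1, b2 n.toAdd.2.2) := by
          refine Subtype.ext ?_
          show _ = zP F hτ _ * zP F hτ _
          rw [(sat_lift F hτ).zmul]
          simp [zk, Pc.badd, hbadd]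
        rw [hz, toAdd_mul, Prod.fst_add, hYadd, ((hcomm _ _).symm).mul_mul_mul_comm] }
  refine ⟨π, fun x => ?_⟩
  obtain ⟨n, hn⟩ := (Submonoid.mem_powers_iff _ _).1
    (mem_powers_iff_mem_zpowers.2 (hg ⟨QuotientGroup.mk' Z x.1, ⟨x.1, x.2, rfl⟩⟩))
  have hxy : (y ^ n)⁻¹ * x.1 ∈ Z := by
    refine (QuotientGroup.eq_one_iff _).1 ?_
    show QuotientGroup.mk' Z ((y ^ n)⁻¹ * x.1) = 1
    rw [map_mul, map_inv, map_pow, hyq, inv_mul_eq_one]
    exact congrArg Subtype.val hn
  obtain ⟨p, hp⟩ := hxy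
  let ofB : Bool → ZMod 2 := fun b => if b then 1 else 0
  have hb : ∀ b, b2 (ofB b) = b := by decide
  refine ⟨Multiplicative.ofAdd ((n : ZMod 3), ofB p.1, ofB p.2), Subtype.ext ?_⟩
  show y ^ ((n : ZMod 3)).val * zP F hτ (b2 (ofB p.1), b2 (ofB p.2)) = x.1
  rw [hb, hb, hp, ZMod.val_natCast, ← pow_eq_pow_mod _ h3, mul_inv_cancel_left]

end CfsgLib.Lie.MultExc.TwESixTwo
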