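import Mathlib

/-!
# Deducing the values of central corrections from two collections of one word, two free values

Letters obey `φ x * φ y = c (x, y) * φ T * φ y * φ x` and `φ x * φ x = c (x, x)` with central `c`; two
collections of one word to one normal form give a linear equation between the corrections.
-/

set_option autoImplicit false

open scoped IsMulCommutative

namespace CfsgLib.Lie.MultExc.TwESixTwo

/-- the code of an ordered pair of letters -/
def pid (x y : ℕ) : ℕ := 72 * x + y

/-- the entry of a pair in a packed table: sixteen bits -/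
def entry (tab x y : ℕ) : ℕ := if x < 72 ∧ y < 72 then (tab >>> (16 * pid x y)) % 65536 else 0

/-- an entry decoded: zero for no pair, one plus the list of at most two letters -/
def decode (e : ℕ) : Option (List ℕ) :=
  if e % 2 = 0 then none
  else some ((if e / 2 % 128 = 0 then [] else [e / 2 % 128 - 1]) ++ (if e / 256 = 0 then [] else [e / 256 - 1]))

/-- one rewriting at a position -/
def swapAt (tab : ℕ) : ℕ → List ℕ → Option (List ℕ × ℕ)
  | 0, x :: y :: r =>
    if x = y then some (r, pid x x)
    else (decode (entry tab x y)).map fun T => (T ++ y :: x :: r, pid x y)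
  | 0, _ => none
  | _ + 1, [] => none
  | i + 1, a :: r => (swapAt tab i r).map fun q => (a :: q.1, q.2)

/-- a series of rewritings with the corrections met -/
def collect (tab : ℕ) : List ℕ → List ℕ → Option (List ℕ × List ℕ)
  | [], w => some (w, [])
  | i :: is, w => (swapAt tab i w).bind fun q => (collect tab is q.1).map fun r => (r.1, q.2 :: r.2)

/-- the equation of a word collected in two ways -/
def equation (tab : ℕ) (w sA sB : List ℕ) : Option (List ℕ × List ℕ) :=
  match collect tab sA w, collect tab sB w with
  | some (u, a), some (v, b) => if u = v then some (a.diff b, b.diff a) else none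
  | _, _ => none

/-- a word, two collections, the unknown and its value -/
structure Step where
  w : List ℕ
  sA : List ℕ
  sB : List ℕ
  v : ℕ
  b1 : Bool
  b2 : Bool

/-- the parity of the known values of a list -/
def parity (val : ℕ) (l : List ℕ) : Bool := l.foldr (fun u r => xor (val.testBit u) r) false

/-- all entries of a list are known -/
def allKnown (known : ℕ) (l : List ℕ) : Bool := l.all fun u => known.testBit u

/-- one deduction -/
def stepOK (tab known val1 val2 : ℕ) (s : Step) : Bool :=
  match equation tab s.w s.sA s.sB with
  | some (a, b) =>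
    let R := (a ++ b).erase s.v
    (a ++ b).contains s.v && allKnown known R && (parity val1 R == s.b1) && (parity val2 R == s.b2)
  | none => false

/-- the masks after a deduction -/
def learn (km : ℕ × ℕ × ℕ) (s : Step) : ℕ × ℕ × ℕ :=
  (km.1 ||| 2 ^ s.v, if s.b1 then km.2.1 ||| 2 ^ s.v else km.2.1, if s.b2 then km.2.2 ||| 2 ^ s.v else km.2.2)

/-- a series of deductions -/
def chainOK (tab : ℕ) : List Step → ℕ → ℕ → ℕ → Bool
  | [], _, _, _ => true
  | s :: l, known, val1, val2 => stepOK tab known val1 val2 s && !known.testBit s.v &&
      chainOK tab l (learn (known, val1, val2) s).1 (learn (known, val1, val2) s).2.1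
        (learn (known, val1, val2) s).2.2

/-- the masks after a series of deductions -/
def learnAll (l : List Step) (km : ℕ × ℕ × ℕ) : ℕ × ℕ × ℕ := l.foldl learn km

/-- an equation with the unknown twice on one side and other terms of even value -/
def gStepOK (tab known val1 val2 v : ℕ) (W : List ℕ × List ℕ × List ℕ) : Bool :=
  match equation tab W.1 W.2.1 W.2.2 with
  | some (a, b) =>
    let R := ((a ++ b).erase v).erase v
    !known.testBit v && allKnown known R && !parity val1 R && !parity val2 R &&
      ((a.contains v && (a.erase v).contains v) || (b.contains v && (b.erase v).contains v))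
  | none => false

variable {P : Type*} [Group P]

/-- letters with central corrections -/
structure Sys (tab : ℕ) (P : Type*) [Group P] where
  phi : ℕ → P
  c : ℕ → Subgroup.center P
  rel : ∀ x y T, x ≠ y → decode (entry tab x y) = some T →
    phi x * phi y = c (pid x y) * ((T.map phi).prod * phi y * phi x)
  sq : ∀ x, phi x * phi x = c (pid x x)

namespace Sys

variable {tab : ℕ} (S : Sys tab P)

theorem swapAt_spec : ∀ (i : ℕ) (w u : List ℕ) (v : ℕ), swapAt tab i w = some (u, v) →
    (w.map S.phi).prod = (S.c v : P) * (u.map S.phi).prod
  | 0, [], u, v, h => by simp [swapAt] at h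
  | 0, [_], u, v, h => by simp [swapAt] at h
  | 0, x :: y :: r, u, v, h => by
    unfold swapAt at h
    split at h
    next e =>
      subst e
      simp only [Option.some.injEq, Prod.mk.injEq] at h
      obtain ⟨rfl, rfl⟩ := h
      simp [← mul_assoc, S.sq]
    next e =>
      obtain ⟨T, hT, h⟩ := Option.map_eq_some_iff.1 h
      simp only [Prod.mk.injEq] at h
      obtain ⟨rfl, rfl⟩ := h
      simp only [List.map_cons, List.prod_cons, List.map_append, List.prod_append]
      rw [← mul_assoc, S.rel x y T e hT]
      group
  | i + 1, [], u, v, h => by simp [swapAt] at h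
  | i + 1, a :: r, u, v, h => by
    rw [swapAt] at h
    obtain ⟨⟨u', v'⟩, hq, h⟩ := Option.map_eq_some_iff.1 h
    simp only [Prod.mk.injEq] at h
    obtain ⟨rfl, rfl⟩ := h
    simp only [List.map_cons, List.prod_cons, swapAt_spec i r u' v' hq]
    rw [← mul_assoc, Subgroup.mem_center_iff.1 (S.c v').2, mul_assoc]

theorem collect_spec : ∀ (is w u a : List ℕ), collect tab is w = some (u, a) →
    (w.map S.phi).prod = ((a.map S.c).prod : Subgroup.center P) * (u.map S.phi).prod
  | [], w, u, a, h => by
    simp only [collect, Option.some.injEq, Prod.mk.injEq] at h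
    obtain ⟨rfl, rfl⟩ := h
    simp
  | i :: is, w, u, a, h => by
    rw [collect] at h
    obtain ⟨⟨w', v⟩, hq, h⟩ := Option.bind_eq_some_iff.1 h
    obtain ⟨⟨u', a'⟩, hr, h⟩ := Option.map_eq_some_iff.1 h
    simp only [Prod.mk.injEq] at h
    obtain ⟨rfl, rfl⟩ := h
    rw [S.swapAt_spec i w w' v hq, collect_spec is w' u' a' hr, List.map_cons, List.prod_cons,
      Subgroup.coe_mul, mul_assoc]

theorem equation_spec {w sA sB a b : List ℕ} (h : equation tab w sA sB = some (a, b)) :
    (a.map S.c).prod = (b.map S.c).prod := by
  unfold equation at h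
  split at h
  next u x v y hA hB =>
    split at h
    next e =>
      subst e
      simp only [Option.some.injEq, Prod.mk.injEq] at h
      obtain ⟨rfl, rfl⟩ := h
      have hxy : (x.map S.c).prod = (y.map S.c).prod :=
        Subtype.ext (mul_right_cancel ((S.collect_spec _ _ _ _ hA).symm.trans (S.collect_spec _ _ _ _ hB)))
      have key : ∀ p q : List ℕ,
          (p.map S.c).prod = (((p : Multiset ℕ) ∩ q).map S.c).prod * ((p.diff q).map S.c).prod := by
        intro p q
        have : (p : Multiset ℕ) = ((p : Multiset ℕ) ∩ q) + ((p.diff q : List ℕ) : Multiset ℕ) := by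
          rw [← Multiset.coe_sub, add_comm, Multiset.sub_add_inter]
        conv_lhs => rw [← Multiset.prod_coe, ← Multiset.map_coe, this, Multiset.map_add, Multiset.prod_add]
        simp
      rw [key x y, key y x, Multiset.inter_comm (x : Multiset ℕ) y] at hxy
      exact mul_left_cancel hxy
    next => simp at h
  next => simp at h

/-- two chosen values -/
def two (g h : Subgroup.center P) (p q : Bool) : Subgroup.center P :=
  (if p then g else 1) * (if q then h else 1)

/-- the known values are products of `g` and `h` -/
def Holds (g h : Subgroup.center P) (known val1 val2 : ℕ) : Prop :=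
  ∀ u, known.testBit u = true → S.c u = two g h (val1.testBit u) (val2.testBit u)

theorem parity_append (val : ℕ) : ∀ l m : List ℕ, parity val (l ++ m) = xor (parity val l) (parity val m)
  | [], m => by simp [parity]
  | u :: l, m => by
    show xor (val.testBit u) (parity val (l ++ m)) = xor (xor (val.testBit u) (parity val l)) _
    rw [parity_append val l m, Bool.xor_assoc]

variable {g h : Subgroup.center P} (hg : g * g = 1) (hh : h * h = 1)

include hg hh in
theorem two_mul (p q p' q' : Bool) : two g h p q * two g h p' q' = two g h (xor p p') (xor q q') := by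
  unfold two
  rw [mul_mul_mul_comm]
  cases p <;> cases q <;> cases p' <;> cases q' <;> simp [hg, hh]

include hg hh in
theorem two_inv (p q : Bool) : (two g h p q)⁻¹ = two g h p q := by
  refine inv_eq_of_mul_eq_one_right ?_
  rw [two_mul hg hh, Bool.xor_self, Bool.xor_self]
  simp [two]

include hg hh in
theorem parity_spec {known val1 val2 : ℕ} (H : S.Holds g h known val1 val2) :
    ∀ l : List ℕ, allKnown known l = true → (l.map S.c).prod = two g h (parity val1 l) (parity val2 l)
  | [], _ => by simp [parity, two]
  | u :: l, hl => by
    simp only [allKnown, List.all_cons, Bool.and_eq_true] at hl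
    rw [List.map_cons, List.prod_cons, H u hl.1, parity_spec H l hl.2, two_mul hg hh]
    rfl

include hg hh in
theorem one_side {known val1 val2 : ℕ} (H : S.Holds g h known val1 val2) {v : ℕ} {a b : List ℕ} (hv : v ∈ a)
    (ha : allKnown known (a.erase v) = true) (hb : allKnown known b = true)
    (e : (a.map S.c).prod = (b.map S.c).prod) :
    S.c v = two g h (xor (parity val1 (a.erase v)) (parity val1 b)) (xor (parity val2 (a.erase v)) (parity val2 b)) := by
  have hp := ((List.perm_cons_erase hv).map S.c).prod_eq
  rw [List.map_cons, List.prod_cons] at hp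
  rw [hp, S.parity_spec hg hh H _ ha, S.parity_spec hg hh H _ hb] at e
  rw [eq_mul_inv_of_mul_eq e, two_inv hg hh, two_mul hg hh, Bool.xor_comm (parity val1 b), Bool.xor_comm (parity val2 b)]

include hg hh in
theorem step_spec {known val1 val2 : ℕ} (H : S.Holds g h known val1 val2) {s : Step}
    (hs : stepOK tab known val1 val2 s = true) : S.c s.v = two g h s.b1 s.b2 := by
  unfold stepOK at hs
  split at hs
  next a b he =>
    simp only [Bool.and_eq_true, beq_iff_eq, List.contains_iff_mem] at hs
    obtain ⟨⟨⟨hv, hk⟩, hp⟩, hq⟩ := hs
    have e := S.equation_spec he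
    rw [← hp, ← hq]
    by_cases hva : s.v ∈ a
    · rw [List.erase_append_left _ hva] at hk ⊢
      rw [allKnown, List.all_append, Bool.and_eq_true] at hk
      rw [parity_append, parity_append]
      exact S.one_side hg hh H hva hk.1 hk.2 e
    · have hvb := (List.mem_append.1 hv).resolve_left hva
      rw [List.erase_append_right _ hva] at hk ⊢
      rw [allKnown, List.all_append, Bool.and_eq_true] at hk
      rw [parity_append, parity_append, Bool.xor_comm, Bool.xor_comm (parity val2 a)]
      exact S.one_side hg hh H hvb hk.2 hk.1 e.symm
  next => simp at hs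

include hg hh in
theorem sq_of_side {known val1 val2 v : ℕ} (H : S.Holds g h known val1 val2) {a b : List ℕ}
    (h1 : v ∈ a) (h2 : v ∈ a.erase v) (ha : allKnown known ((a.erase v).erase v) = true)
    (hb : allKnown known b = true) (p1 : xor (parity val1 ((a.erase v).erase v)) (parity val1 b) = false)
    (p2 : xor (parity val2 ((a.erase v).erase v)) (parity val2 b) = false)
    (e : (a.map S.c).prod = (b.map S.c).prod) : S.c v * S.c v = 1 := by
  have q1 := ((List.perm_cons_erase h1).map S.c).prod_eq
  have q2 := ((List.perm_cons_erase h2).map S.c).prod_eq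
  rw [List.map_cons, List.prod_cons] at q1 q2
  rw [q1, q2, S.parity_spec hg hh H _ ha, S.parity_spec hg hh H _ hb, ← mul_assoc] at e
  rw [eq_mul_inv_of_mul_eq e, two_inv hg hh, two_mul hg hh, Bool.xor_comm, p1, Bool.xor_comm, p2]
  simp [two]

include hg hh in
theorem gStep_spec {known val1 val2 v : ℕ} {W : List ℕ × List ℕ × List ℕ}
    (H : S.Holds g h known val1 val2) (hs : gStepOK tab known val1 val2 v W = true) :
    S.c v * S.c v = 1 ∧ known.testBit v = false := by
  unfold gStepOK at hs
  split at hs
  next a b he =>
    simp only [Bool.and_eq_true, Bool.or_eq_true, Bool.not_eq_true', List.contains_iff_mem] at hs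
    obtain ⟨⟨⟨⟨hk, hR⟩, p1⟩, p2⟩, hside⟩ := hs
    refine ⟨?_, hk⟩
    have e := S.equation_spec he
    by_cases hva : v ∈ a ∧ v ∈ a.erase v
    · rw [List.erase_append_left _ hva.1, List.erase_append_left _ hva.2] at hR p1 p2
      rw [allKnown, List.all_append, Bool.and_eq_true] at hR
      rw [parity_append] at p1 p2
      exact S.sq_of_side hg hh H hva.1 hva.2 hR.1 hR.2 p1 p2 e
    · obtain ⟨hb1, hb2⟩ := hside.resolve_left hva
      by_cases h1 : v ∈ a
      · have h2 : v ∉ a.erase v := fun h2 => hva ⟨h1, h2⟩
        exfalso
        rw [List.erase_append_left _ h1, List.erase_append_right _ h2] at hR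
        rw [allKnown, List.all_append, Bool.and_eq_true, List.all_eq_true, List.all_eq_true] at hR
        exact Bool.false_ne_true (hk.symm.trans (hR.2 v hb2))
      · rw [List.erase_append_right _ h1, List.erase_append_right _ h1] at hR p1 p2
        rw [allKnown, List.all_append, Bool.and_eq_true] at hR
        rw [parity_append, Bool.xor_comm] at p1 p2
        exact S.sq_of_side hg hh H hb1 hb2 hR.2 hR.1 p1 p2 e.symm
  next => simp at hs

theorem holds_insert {known val1 val2 v : ℕ} (H : S.Holds g h known val1 val2) (hv : known.testBit v = false)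
    (h1 : val1 ||| known = known) (h2 : val2 ||| known = known) {p q : Bool} (hs : S.c v = two g h p q) :
    S.Holds g h (known ||| 2 ^ v) (if p then val1 ||| 2 ^ v else val1) (if q then val2 ||| 2 ^ v else val2) := by
  have hsub : ∀ val : ℕ, val ||| known = known → val.testBit v = false := fun val he => by
    by_contra hne
    rw [← he, Nat.testBit_or, Bool.eq_true_of_not_eq_false hne, Bool.true_or] at hv
    exact Bool.false_ne_true hv.symm
  intro u hu
  by_cases e : v = u
  · subst e
    rw [hs]
    cases p <;> cases q <;>
      simp [Nat.testBit_or, Nat.testBit_two_pow, hsub val1 h1, hsub val2 h2]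
  · simp only [Nat.testBit_or, Nat.testBit_two_pow, e, decide_false, Bool.or_false] at hu
    rw [H u hu]
    cases p <;> cases q <;> simp [Nat.testBit_or, Nat.testBit_two_pow, e]

theorem sub_insert {known val v : ℕ} (h : val ||| known = known) (p : Bool) :
    (if p then val ||| 2 ^ v else val) ||| (known ||| 2 ^ v) = known ||| 2 ^ v := by
  cases p
  · rw [if_neg Bool.false_ne_true, ← Nat.or_assoc, h]
  · rw [if_pos rfl]
    calc val ||| 2 ^ v ||| (known ||| 2 ^ v) = (val ||| known) ||| (2 ^ v ||| 2 ^ v) := by ac_rfl
      _ = _ := by rw [h, Nat.or_self]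

include hg hh in
theorem chain_spec : ∀ (l : List Step) (known val1 val2 : ℕ), S.Holds g h known val1 val2 →
    val1 ||| known = known → val2 ||| known = known → chainOK tab l known val1 val2 = true →
    S.Holds g h (learnAll l (known, val1, val2)).1 (learnAll l (known, val1, val2)).2.1
      (learnAll l (known, val1, val2)).2.2
  | [], _, _, _, H, _, _, _ => H
  | s :: l, known, val1, val2, H, h1, h2, hc => by
    simp only [chainOK, Bool.and_eq_true, Bool.not_eq_true'] at hc
    exact chain_spec l _ _ _ (S.holds_insert H hc.1.2 h1 h2 (S.step_spec hg hh H hc.1.1))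
      (sub_insert h1 s.b1) (sub_insert h2 s.b2) hc.2

end Sys

end CfsgLib.Lie.MultExc.TwESixTwo
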