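import Cfsg.Agent.Lib.Lie.MultExc.TwESixTwo.Stable

/-!
The fusion maps are carried by the fundamental monomial elements and the torus, so the pairing is stable.
-/

set_option autoImplicit false
set_option maxRecDepth 100000

namespace CfsgLib.Lie.MultExc.TwESixTwo

open Cfsg.Lie CfsgLib.Lie.Chev
open scoped MatrixGroups commutatorElement
open TE6 (C twist rt nd orbits)

theorem mapR_lt : ((List.range 6).all fun j => (List.range 72).all fun r => Nat.blt (mapR j r) 72) = true := by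
  decide +kernel

theorem mapR_spec {j r : ℕ} (hj : j < 6) (hr : r < 72) : mapR j r < 72 := by
  have h := mapR_lt
  simp only [List.all_eq_true, List.mem_range, Nat.blt_eq] at h
  exact h j hj r hr

theorem tmul_one : ∀ t < 4, tmul 1 t = t := by decide

theorem tmul_mod (a t : ℕ) : tmul a t = tmul a (t % 4) := by simp [tmul]

variable {K : Type*} [Field K] [Fintype K] (F : Fld K)

theorem cf_mod (t : ℕ) : cf F.om (t % 4) = cf F.om t := by simp [cf]

/-- conjugation by a word in the fundamental monomial elements -/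
theorem nw_conj (F : Fld K) : ∀ (l : List (Fin chevE6.rank)) (r : Fin chevE6.nroots) (t : K),
    C.G.nw l * C.G.xu r t * (C.G.nw l : GL chevE6.Idx K)⁻¹ = C.G.xu (C.G.pw l r) t
  | [], r, t => by simp [Good.nw_nil, Good.pw_nil]
  | i :: l, r, t => by
    have hm : (-1 : K) = 1 := neg_eq_of_add_eq_zero_left (add_self' F.two 1)
    have e : (C.G.nU i : GL chevE6.Idx K) * C.G.xu (C.G.pw l r) t * (C.G.nU i)⁻¹ =
        C.G.xu (C.G.sP i (C.G.pw l r)) t := by
      rw [C.G.nU_xu, mul_assoc, mul_inv_cancel, mul_one]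
      rcases C.G.eta_unit i (C.G.pw l r) with u | u <;> rw [u] <;> simp [hm, Good.sP_apply]
    rw [Good.nw_cons, Good.pw_cons, Equiv.Perm.mul_apply, ← e, ← nw_conj F l r t]
    group

theorem theta_neg_one : F.th (-1 : K) = -1 := by rw [map_neg, map_one]

theorem single_nU {i : Fin chevE6.rank} {a b : Fin chevE6.nroots} (ha : C.G.simp' i = a) (hb : C.G.negr a = b)
    (h : ∀ t, F.th t = t → C.G.xu a t ∈ twistedE6 K 2 ∧ C.G.xu b t ∈ twistedE6 K 2) :
    (C.G.nU i : GL chevE6.Idx K) ∈ twistedE6 K 2 := by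
  rw [Good.nU, ha, hb]
  exact mul_mem (mul_mem (h 1 (map_one _)).1 (h (-1) (theta_neg_one F)).2) (h 1 (map_one _)).1

theorem pair_nU {i j : Fin chevE6.rank} {a b a' b' : Fin chevE6.nroots} (hi : C.G.simp' i = a)
    (hj : C.G.simp' j = b) (ha : C.G.negr a = a') (hb : C.G.negr b = b') (o : C.Orth a b)
    (h : ∀ t, TE6.x2 F.th a b t ∈ twistedE6 K 2) (h' : ∀ t, TE6.x2 F.th a' b' t ∈ twistedE6 K 2) :
    (C.G.nU i * C.G.nU j : GL chevE6.Idx K) ∈ twistedE6 K 2 := by
  have h1 := h 1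
  have h2 := h' (-1)
  simp only [TE6.x2, map_one, theta_neg_one F] at h1 h2
  have c1 : Commute (C.G.xu a' (-1 : K)) (C.G.xu b 1) := C.orth_commute o (by simp [ha]) (by simp) _ _
  have c2 : Commute (C.G.xu a (1 : K)) (C.G.xu b 1) := C.orth_commute o (by simp) (by simp) _ _
  have c3 : Commute (C.G.xu a (1 : K)) (C.G.xu b' (-1)) := C.orth_commute o (by simp) (by simp [hb]) _ _
  rw [Good.nU, Good.nU, hi, hj, ha, hb]
  set A : GL chevE6.Idx K := C.G.xu a 1
  set A' : GL chevE6.Idx K := C.G.xu a' (-1)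
  set B : GL chevE6.Idx K := C.G.xu b 1
  set B' : GL chevE6.Idx K := C.G.xu b' (-1)
  have e : A * A' * A * (B * B' * B) = A * B * (A' * B') * (A * B) := by
    calc A * A' * A * (B * B' * B) = A * A' * (A * B) * B' * B := by group
      _ = A * (A' * B) * (A * B') * B := by rw [c2.eq]; group
      _ = A * B * A' * B' * A * B := by rw [c1.eq, c3.eq]; group
      _ = _ := by group
  rw [e]
  exact mul_mem (mul_mem h1 h2) h1

theorem wl_cases (k : Fin orbGraphE6.no) :
    ((orbits F.th).wl k).map Fin.val = [1] ∨ ((orbits F.th).wl k).map Fin.val = [3] ∨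
      ((orbits F.th).wl k).map Fin.val = [2, 4] ∨ ((orbits F.th).wl k).map Fin.val = [0, 5] := by
  have h : ((orbits F.th).wl k).map Fin.val = [[1], [3], [2, 4], [0, 5]].getD k.val [] := wl_nodes k
  have hk : k.val < 4 := k.isLt
  rw [h]
  interval_cases k.val <;> simp

theorem nw_mem (k : Fin orbGraphE6.no) :
    (C.G.nw ((orbits F.th).wl k) : GL chevE6.Idx K) ∈ twistedE6 K 2 := by
  obtain ⟨o1, o2⟩ := TE6.orth_pairs
  obtain ⟨n1, n2, n3, n4, n5, n6⟩ := TE6.negr_rt
  obtain ⟨s0, s1, s2, s3, s4, s5⟩ := TE6.simp_rt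
  have hinj : ∀ l m : List (Fin chevE6.rank), l.map Fin.val = m.map Fin.val → l = m :=
    fun l m e => List.map_injective_iff.2 Fin.val_injective e
  rcases wl_cases F k with h | h | h | h
  · rw [hinj _ [nd 1] h]
    simp only [Good.nw, List.map_cons, List.map_nil, List.prod_cons, List.prod_nil, mul_one]
    exact single_nU F s1 n1 fun t ht => ⟨(TE6.single_mem F.th F.th_pow ht).1, (TE6.single_mem F.th F.th_pow ht).2.1⟩
  · rw [hinj _ [nd 3] h]
    simp only [Good.nw, List.map_cons, List.map_nil, List.prod_cons, List.prod_nil, mul_one]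
    exact single_nU F s3 n2 fun t ht => ⟨(TE6.single_mem F.th F.th_pow ht).2.2.1, (TE6.single_mem F.th F.th_pow ht).2.2.2⟩
  · rw [hinj _ [nd 2, nd 4] h]
    simp only [Good.nw, List.map_cons, List.map_nil, List.prod_cons, List.prod_nil, mul_one]
    exact pair_nU F s2 s4 n3 n4 o1 (fun t => (TE6.pair_mem F.th F.th_pow t).1)
      (fun t => (TE6.pair_mem F.th F.th_pow t).2.1)
  · rw [hinj _ [nd 0, nd 5] h]
    simp only [Good.nw, List.map_cons, List.map_nil, List.prod_cons, List.prod_nil, mul_one]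
    exact pair_nU F s0 s5 n5 n6 o2 (fun t => (TE6.pair_mem F.th F.th_pow t).2.2.1)
      (fun t => (TE6.pair_mem F.th F.th_pow t).2.2.2)

/-- the monomial element of an orbit -/
noncomputable def nG (k : Fin orbGraphE6.no) : ↥(twistedE6 K 2) := ⟨_, nw_mem F k⟩

theorem good_nG (k : Fin orbGraphE6.no) : Good F (nG F k) := by
  have hk : k.val < 4 := k.isLt
  refine good_of_map F (j := k.val) (by omega) _ (fun r t h => ?_) fun r hr => mapR_spec (by omega) hr
  show C.G.nw ((orbits F.th).wl k) * _ * (C.G.nw ((orbits F.th).wl k) : GL chevE6.Idx K)⁻¹ = _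
  rw [nw_conj F]
  have hC : mapC k.val r.val = 1 := if_pos hk
  congr 1
  · refine Fin.ext ?_
    show ((orbits F.th).wO k r).val = _
    rw [TE6.wO_val]
    exact (if_pos hk).symm
  · rw [hC, tmul_mod, tmul_one _ (Nat.mod_lt _ (by norm_num)), cf_mod]

/-- a unit outside the prime field -/
noncomputable def omU : Kˣ := Units.mk0 F.om fun h => by
  have := F.om_sq
  rw [h] at this
  simp at this

theorem omU_cube : omU F ^ (3 : ℤ) = 1 := by
  refine Units.ext ?_
  show F.om ^ 3 = 1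
  linear_combination (F.om + 1) * F.om_sq + F.om * F.two

theorem omU_zpow (e : ℤ) : ((omU F ^ e : Kˣ) : K) = cf F.om ((e % 3).toNat + 1) := by
  conv_lhs => rw [← Int.emod_add_mul_ediv e 3]
  rw [zpow_add, zpow_mul, omU_cube, one_zpow, mul_one]
  have h0 : 0 ≤ e % 3 := Int.emod_nonneg _ (by norm_num)
  have h1 : e % 3 < 3 := Int.emod_lt_of_pos _ (by norm_num)
  interval_cases e % 3
  · simp [cf]
  · simp [cf, omU]
  · show ((omU F ^ (2 : ℤ) : Kˣ) : K) = _
    rw [show (2 : ℤ) = ((2 : ℕ) : ℤ) from rfl, zpow_natCast, Units.val_pow_eq_pow_val, pow_two]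
    show F.om * F.om = _
    rw [F.om_sq, add_comm]
    rfl

/-- the parameters of the two torus generators -/
noncomputable def cT (j : ℕ) : Fin chevE6.rank → Kˣ := fun i => omU F ^ zex j i.val

theorem zex_node : ∀ j ∈ [4, 5], ∀ i : Fin chevE6.rank,
    zex j i.val = if i = nd 4 then 2 * zex j 2 else if i = nd 5 then 2 * zex j 0 else
      if i = nd 1 ∨ i = nd 3 then 0 else zex j i.val := by
  decide +kernel

theorem cT_par {j : ℕ} (hj : j ∈ [4, 5]) :
    cT F j = TE6.par F.th 1 1 (omU F ^ zex j 2) (omU F ^ zex j 0) := by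
  funext i
  obtain ⟨v1, v3, v2, v4, v0, v5⟩ := TE6.par_vals F.th 1 1 (omU F ^ zex j 2) (omU F ^ zex j 0)
  have hθ : ∀ e : ℤ, Units.map F.th.toMonoidHom (omU F ^ e) = omU F ^ (2 * e) := fun e => by
    refine Units.ext ?_
    show F.th ((omU F ^ e : Kˣ) : K) = _
    rw [F.th_mul, ← Units.val_mul, ← zpow_add, two_mul]
  have hz := zex_node j hj i
  rcases TE6.nd_cases i with rfl | rfl | rfl | rfl | rfl | rfl
  · rw [v0]; rfl
  · rw [v1, cT, hz, if_neg (by decide +kernel), if_neg (by decide +kernel), if_pos (Or.inl rfl), zpow_zero]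
  · rw [v2]; rfl
  · rw [v3, cT, hz, if_neg (by decide +kernel), if_neg (by decide +kernel), if_pos (Or.inr rfl), zpow_zero]
  · rw [v4, hθ, cT, hz, if_pos rfl]
  · rw [v5, hθ, cT, hz, if_neg (by decide +kernel), if_pos rfl]

theorem cT_fix {j : ℕ} (hj : j ∈ [4, 5]) : C.G.torθ (cT F j) ∈ (twist F.th).Fix ⊓ chevE6.diagonalSubgroup K := by
  rw [cT_par F hj]
  exact (twist F.th).torθ_mem_Fix (TE6.par_fixed F.th F.th_th (by simp) (by simp))

/-- a torus generator -/
noncomputable def tG (j : ℕ) (hj : j ∈ [4, 5]) : ↥(twistedE6 K 2) :=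
  ⟨C.G.torθ (cT F j), by rw [F.Fix_eq]; exact (cT_fix F hj).1⟩

theorem good_tG (j : ℕ) (hj : j ∈ [4, 5]) : Good F (tG F j hj) := by
  have hj' : 4 ≤ j ∧ j < 6 := by simp at hj; omega
  refine good_of_map F hj'.2 _ (fun r t h => ?_) fun r hr => mapR_spec hj'.2 hr
  show C.G.torθ (cT F j) * _ * (C.G.torθ (cT F j))⁻¹ = _
  rw [C.G.torθ_conj_xu]
  have hR : mapR j r.val = r.val := if_neg (by omega)
  congr 1
  · exact Fin.ext hR.symm
  · have hpr : ∏ i, cT F j i ^ cart chevE6 i r = omU F ^ (∑ i, cart chevE6 i r * zex j i.val) := by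
      simp only [cT, ← zpow_mul]
      generalize (Finset.univ : Finset (Fin chevE6.rank)) = s
      classical
      induction s using Finset.induction with
      | empty => simp
      | insert a s ha ih => rw [Finset.prod_insert ha, Finset.sum_insert ha, ih, zpow_add, mul_comm (zex j a.val)]
    rw [hpr, omU_zpow, cf_mul F.two F.om_sq, mapC, if_neg (by omega), dif_pos r.isLt]

theorem conj_tG_mem {j : ℕ} (hj : j ∈ [4, 5]) {x : ↥(twistedE6 K 2)} (hx : x ∈ Upos F) :
    tG F j hj * x * (tG F j hj)⁻¹ ∈ Upos F := by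
  rw [mem_Upos_iff] at hx ⊢
  have h := Subgroup.mem_normalizer_iff.1 (C.G.H_normalizes_U (cT_fix F hj).2) (x : GL chevE6.Idx K)
  rw [Subgroup.coe_mul, Subgroup.coe_mul, Subgroup.coe_inv]
  exact h.1 hx

/-- the identity keeps commutators -/
theorem good_one : Good F 1 := by
  intro A B A' B' _ ha hb
  exact hat_comm_congr F (by simpa using ha) (by simpa using hb)

/-- elements normalising the positive part that keep commutators are closed under products -/
theorem good_closed {n1 n2 : ↥(twistedE6 K 2)} (h1 : Good F n1) (h2 : Good F n2)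
    (hn : ∀ x ∈ Upos F, n2 * x * n2⁻¹ ∈ Upos F) : Good F (n1 * n2) := fun A B A' B' hc ha hb =>
  good_mul F h1 h2 hc ha hb (hn _ (pU_range F ▸ ⟨A, rfl⟩)) (hn _ (pU_range F ▸ ⟨B, rfl⟩))

theorem good_torus {n : ↥(twistedE6 K 2)} (hn : (n : GL chevE6.Idx K) ∈ chevE6.diagonalSubgroup K) :
    Good F n := by
  classical
  have hfix : (n : GL chevE6.Idx K) ∈ (twist F.th).Fix ⊓ chevE6.diagonalSubgroup K :=
    ⟨F.Fix_eq ▸ n.2, hn⟩
  obtain ⟨c, hcn, hc⟩ := (twist F.th).exists_fixed_tor_two hfix (TE6.σT_two F.th F.th_th)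
    fun z hz => TE6.ker_cube hz
  obtain ⟨f1, f3, -, -⟩ := TE6.fixed_params F.th hc
  have hunit : ∀ u : Kˣ, ∃ a : ℕ, u = omU F ^ (a : ℤ) := by
    intro u
    obtain ⟨t, ht, hu⟩ := F.codes u
    interval_cases t
    · exact absurd hu (by simp [cf])
    · exact ⟨0, Units.ext (by simpa [cf] using hu)⟩
    · exact ⟨1, Units.ext (by simpa [cf, omU] using hu)⟩
    · exact ⟨2, Units.ext (by rw [omU_zpow]; simpa [cf] using hu)⟩
  have hfix1 : ∀ u : Kˣ, F.th (u : K) = u → u = 1 := by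
    intro u hu
    refine Units.ext ?_
    rw [F.th_mul] at hu
    exact mul_left_cancel₀ u.ne_zero (hu.trans (mul_one _).symm)
  obtain ⟨a, ha⟩ := hunit (c (nd 2))
  obtain ⟨b, hb⟩ := hunit (c (nd 0))
  have h45 : (4 : ℕ) ∈ [4, 5] ∧ (5 : ℕ) ∈ [4, 5] := by simp
  have e : n = tG F 4 h45.1 ^ a * tG F 5 h45.2 ^ b := by
    refine Subtype.ext ?_
    rw [Subgroup.coe_mul, Subgroup.coe_pow, Subgroup.coe_pow]
    show (n : GL chevE6.Idx K) = C.G.torθ (cT F 4) ^ a * C.G.torθ (cT F 5) ^ b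
    rw [hcn, ← map_pow, ← map_pow, ← map_mul]
    congr 1
    rw [TE6.eq_par F.th hc, hfix1 _ f1, hfix1 _ f3, ha, hb, cT_par F h45.1, cT_par F h45.2]
    funext i
    obtain ⟨v1, v3, v2, v4, v0, v5⟩ := TE6.par_vals F.th 1 1 (omU F ^ (a : ℤ)) (omU F ^ (b : ℤ))
    obtain ⟨w1, w3, w2, w4, w0, w5⟩ := TE6.par_vals F.th 1 1 (omU F ^ zex 4 2) (omU F ^ zex 4 0)
    obtain ⟨u1, u3, u2, u4, u0, u5⟩ := TE6.par_vals F.th 1 1 (omU F ^ zex 5 2) (omU F ^ zex 5 0)
    rcases TE6.nd_cases i with rfl | rfl | rfl | rfl | rfl | rfl <;>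
      simp only [Pi.mul_apply, Pi.pow_apply, v0, v1, v2, v3, v4, v5, w0, w1, w2, w3, w4, w5, u0, u1, u2, u3,
        u4, u5, one_pow, mul_one, ← map_pow, ← map_mul] <;>
      simp [zex]
  have key : ∀ (j : ℕ) (hj : j ∈ [4, 5]) (m : ℕ),
      Good F (tG F j hj ^ m) ∧ ∀ x ∈ Upos F, tG F j hj ^ m * x * (tG F j hj ^ m)⁻¹ ∈ Upos F := by
    intro j hj m
    induction m with
    | zero => exact ⟨by rw [pow_zero]; exact good_one F, fun x hx => by simpa using hx⟩
    | succ m ih =>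
      refine ⟨by rw [pow_succ]; exact good_closed F ih.1 (good_tG F j hj) (fun x hx => conj_tG_mem F hj hx),
        fun x hx => ?_⟩
      have := ih.2 _ (conj_tG_mem F hj hx)
      rw [pow_succ]
      rwa [show tG F j hj ^ m * (tG F j hj * x * (tG F j hj)⁻¹) * (tG F j hj ^ m)⁻¹ =
        tG F j hj ^ m * tG F j hj * x * (tG F j hj ^ m * tG F j hj)⁻¹ by group] at this
  rw [e]
  exact good_closed F (key 4 h45.1 a).1 (key 5 h45.2 b).1 (key 5 h45.2 b).2

/-- monomial elements keep commutators -/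
theorem good_monomial {π : Equiv.Perm (Fin chevE6.nroots)} (hπ : π ∈ Wp C.G (twist F.th).p) :
    ∀ m : ↥(twistedE6 K 2), (m : GL chevE6.Idx K) ∈ chevE6.monomialSubgroup K →
      C.G.NPerm (m : GL chevE6.Idx K) π → Good F m := by
  refine (orbits F.th).induction_on (P := fun π => ∀ m : ↥(twistedE6 K 2),
    (m : GL chevE6.Idx K) ∈ chevE6.monomialSubgroup K → C.G.NPerm (m : GL chevE6.Idx K) π → Good F m)
    hπ (fun m hm hp => good_torus F (C.G.mem_H_of_nPerm_one hm hp)) ?_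
  intro π' hπ' k hk _ ih m hm hp A B A' B' hc ha hb
  set N := nG F k
  have hNm : (N : GL chevE6.Idx K) ∈ chevE6.monomialSubgroup K := C.G.nw_mem_monomial _
  have hNp : C.G.NPerm (N : GL chevE6.Idx K) ((orbits F.th).wO k) := C.G.nPerm_nw _
  have hm' : ((m * N⁻¹ : ↥(twistedE6 K 2)) : GL chevE6.Idx K) ∈ chevE6.monomialSubgroup K := by
    rw [Subgroup.coe_mul, Subgroup.coe_inv]; exact mul_mem hm (inv_mem hNm)
  have hp' : C.G.NPerm ((m * N⁻¹ : ↥(twistedE6 K 2)) : GL chevE6.Idx K) π' := by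
    have := Good.NPerm.mul C.G hp (Good.NPerm.inv C.G hNp)
    rwa [mul_inv_cancel_right] at this
  have hkeep : ∀ X : Uhat, ∀ X' : Uhat, pU F X' = m * pU F X * m⁻¹ → N * pU F X * N⁻¹ ∈ Upos F := by
    intro X X' hX
    rw [mem_Upos_iff, Subgroup.coe_mul, Subgroup.coe_mul, Subgroup.coe_inv]
    have hXU := (mem_Upos_iff F).1 (pU_range F ▸ ⟨X, rfl⟩ : pU F X ∈ Upos F)
    have hX'U := (mem_Upos_iff F).1 (pU_range F ▸ ⟨X', rfl⟩ : pU F X' ∈ Upos F)
    rw [hX, Subgroup.coe_mul, Subgroup.coe_mul, Subgroup.coe_inv] at hX'U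
    have h1 := C.mem_Ukeep_of_conj hp hXU hX'U
    refine C.G.conj_Ukeep hNp _ ?_
    refine (Subgroup.closure_le _).2 ?_ h1
    rintro g ⟨r, t, ⟨hr, hr'⟩, rfl⟩
    refine Subgroup.subset_closure ⟨r, t, ⟨hr, ?_⟩, rfl⟩
    by_contra hn
    have hin : InJ C.G ((orbits F.th).J k) r := by
      by_contra hin
      exact hn (((orbits F.th).wO_pos_iff hr).2 hin)
    obtain ⟨l, hl⟩ := C.G.exists_pw (mem_Wp.1 hπ').1
    set s := (orbits F.th).wO k r
    have hins : InJ C.G ((orbits F.th).J k) (C.G.negr s) :=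
      C.G.inJ_negr ((C.G.inJ_pw ((orbits F.th).wl_mem k)).2 hin)
    have hspos : chevE6.IsPosRoot (C.G.negr s).val := (C.G.negr_pos_iff _).2 hn
    have h2 := C.G.keep_posJ (l := l) (fun j hj => by rw [hl]; exact hk j hj) hins hspos
    rw [C.G.pw_negr, C.G.negr_pos_iff, hl] at h2
    exact h2 hr'
  refine good_mul F (ih _ hm' hp') (good_nG F k) hc ?_ ?_ (hkeep A A' ha) (hkeep B B' hb)
  · rw [ha]; simp only [N]; group
  · rw [hb]; simp only [N]; group

/-- the pairing is stable -/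
theorem stable_pU : OddTransfer.Stable (pU F) := by
  intro g A B A' B' hc ha hb
  have hfix : ((g⁻¹ : ↥(twistedE6 K 2)) : GL chevE6.Idx K) ∈ (twist F.th).Fix := F.Fix_eq ▸ (g⁻¹).2
  obtain ⟨v, m, u, π, hv, hm, hπ, hnp, hu, e⟩ := (twist F.th).fix_bruhat hfix
  let V : ↥(twistedE6 K 2) := ⟨v, by rw [F.Fix_eq]; exact hv.1⟩
  let M : ↥(twistedE6 K 2) := ⟨m, by rw [F.Fix_eq]; exact hm.1⟩
  let W : ↥(twistedE6 K 2) := ⟨u, by rw [F.Fix_eq]; exact hu.1⟩
  have hV : V ∈ Upos F := (mem_Upos_iff F).2 hv.2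
  have hW : W ∈ Upos F := (mem_Upos_iff F).2 (C.G.Uinv_le π hu.2)
  have eg : g⁻¹ = V * (M * W) := Subtype.ext (by rw [e, Subgroup.coe_mul, Subgroup.coe_mul, mul_assoc])
  have hM : Good F M := good_monomial F hπ M hm.2 hnp
  -- the middle conjugates are positive
  have hUA : ∀ X : Uhat, pU F X ∈ Upos F := fun X => pU_range F ▸ ⟨X, rfl⟩
  have hmid : ∀ {X X' : Uhat}, pU F X' = g⁻¹ * pU F X * g →
      M * W * pU F X * (M * W)⁻¹ ∈ Upos F := by
    intro X X' hX
    have h := mul_mem (mul_mem (inv_mem hV) (hUA X')) hV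
    have eg' : g = (V * (M * W))⁻¹ := by rw [← eg, inv_inv]
    rwa [hX, eg, eg',
      show V⁻¹ * (V * (M * W) * pU F X * (V * (M * W))⁻¹) * V = M * W * pU F X * (M * W)⁻¹ by group] at h
  have hMW : ∀ {X Y X' Y' : Uhat}, Commute (pU F X) (pU F Y) → pU F X' = M * W * pU F X * (M * W)⁻¹ →
      pU F Y' = M * W * pU F Y * (M * W)⁻¹ → ⁅X', Y'⁆ = ⁅X, Y⁆ := by
    intro X Y X' Y' hXY hX hY
    exact good_mul F hM (good_pos F hW) hXY hX hY (mul_mem (mul_mem hW (hUA X)) (inv_mem hW))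
      (mul_mem (mul_mem hW (hUA Y)) (inv_mem hW))
  refine good_mul F (good_pos F hV) (fun X Y X' Y' => hMW) hc ?_ ?_ (hmid ha) (hmid hb)
  · rw [ha, ← eg, inv_inv]
  · rw [hb, ← eg, inv_inv]

end CfsgLib.Lie.MultExc.TwESixTwo
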