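import Cfsg.Agent.Lib.Lie.MultExc.TwESixTwo.Bound
import Cfsg.Agent.Lib.Lie.MultExc.TwESixTwo.Fusion
import Cfsg.Agent.Lib.Lie.Mult.TE6.Cover

/-!
The multiplier of `²E₆(2)` is `Z3 × Z2 × Z2`.
-/

set_option autoImplicit false
set_option maxRecDepth 100000

namespace CfsgLib.Lie.MultExc.TwESixTwo

open Cfsg.Lie CfsgLib.Lie.Chev
open scoped MatrixGroups commutatorElement

universe u

variable {K : Type u} [Field K] [Fintype K]

theorem wit_spec :
    (Pc.ev (Pc.gen pcE 36 full) (Pc.zen pcE 36 full) witA * Pc.ev (Pc.gen pcE 36 full) (Pc.zen pcE 36 full) witA = 1) ∧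
    ∀ q ∈ [(witB1, ((true, false) : Pc.Bits)), (witB2, (false, true))],
      Pc.ev (Pc.gen pcE 36 full) (Pc.zen pcE 36 full) witA * Pc.ev (Pc.gen pcE 36 full) (Pc.zen pcE 36 full) q.1 =
        Pc.zen pcE 36 full q.2 * (Pc.ev (Pc.gen pcE 36 full) (Pc.zen pcE 36 full) q.1 *
          Pc.ev (Pc.gen pcE 36 full) (Pc.zen pcE 36 full) witA) := by
  have h := wit_ok
  simp only [Bool.and_eq_true] at h
  obtain ⟨⟨h0, h1⟩, h2⟩ := h
  have S := sat_hat
  refine ⟨by rw [← S.ev_mul, S.eq_of_eqW h0, S.ev_one], fun q hq => ?_⟩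
  simp only [List.mem_cons, List.not_mem_nil, or_false] at hq
  rcases hq with rfl | rfl
  · have e := S.eq_of_eqW h1
    rw [S.ev_mul, S.ev_mul, S.ev_mul] at e
    rw [e]
    simp [Pc.ev]
  · have e := S.eq_of_eqW h2
    rw [S.ev_mul, S.ev_mul, S.ev_mul] at e
    rw [e]
    simp [Pc.ev]

/-- the double covers together -/
theorem exists_cover_four (F : Fld K) :
    ∃ (Γ : Type u) (_ : Group Γ) (_ : Finite Γ) (σ : Γ →* ↥(twistedE6 K 2)),
      Cfsg.IsStemExtension σ ∧ Nat.card σ.ker = 4 ∧ ∀ z ∈ σ.ker, z * z = 1 := by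
  classical
  haveI : Fintype (↥(twistedE6 K 2) ⧸ Upos F) := Fintype.ofFinite _
  have hodd : Odd (Fintype.card (↥(twistedE6 K 2) ⧸ Upos F)) := by
    rw [← Nat.card_eq_fintype_card]
    exact Upos_index_odd F
  have hexp : ∀ z ∈ (pU F).ker, z * z = 1 := fun z hz => by
    obtain ⟨b, rfl⟩ := pU_ker F hz
    exact sat_hat.z_self b
  have hgen : ∀ z ∈ (pU F).ker, z ∈ Subgroup.closure
      {d | ∃ A B : Uhat, pU F A * pU F A = 1 ∧ Commute (pU F A) (pU F B) ∧ d = ⁅A, B⁆} := by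
    intro z hz
    obtain ⟨b, rfl⟩ := pU_ker F hz
    have hq : ∀ q ∈ [(witB1, ((true, false) : Pc.Bits)), (witB2, (false, true))],
        Pc.zen pcE 36 full q.2 ∈ Subgroup.closure
          {d | ∃ A B : Uhat, pU F A * pU F A = 1 ∧ Commute (pU F A) (pU F B) ∧ d = ⁅A, B⁆} := by
      intro q hq
      obtain ⟨hA, hB⟩ := wit_spec
      have e := hB q hq
      set A := Pc.ev (Pc.gen pcE 36 full) (Pc.zen pcE 36 full) witA
      set B := Pc.ev (Pc.gen pcE 36 full) (Pc.zen pcE 36 full) q.1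
      refine Subgroup.subset_closure ⟨A, B, by rw [← map_mul, hA, map_one], ?_, ?_⟩
      · have h := congrArg (pU F) e
        rwa [map_mul, map_mul, map_mul, pU_zen, one_mul] at h
      · rw [commutatorElement_def, e]; group
    obtain ⟨b1, b2⟩ := b
    have e1 := hq (witB1, (true, false)) (by simp)
    have e2 := hq (witB2, (false, true)) (by simp)
    cases b1 <;> cases b2
    · rw [sat_hat.z_zero]; exact one_mem _
    · exact e2
    · exact e1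
    · have := mul_mem e1 e2
      rwa [sat_hat.zmul] at this
  obtain ⟨σ, hs, hc, hcomm, ⟨e⟩⟩ := OddTransfer.exists_stem (pU_range F) (pU_ker_le F) (stable_pU F) hexp hodd hgen
  refine ⟨_, inferInstance, ?_, σ, ⟨hs, hc, hcomm⟩, ?_, fun z hz => ?_⟩
  · haveI : Finite ((↥(twistedE6 K 2) ⧸ Upos F → Uhat) ⋊[OddTransfer.act (Upos F)] ↥(twistedE6 K 2)) :=
      Finite.of_equiv _ SemidirectProduct.equivProd.symm
    infer_instance
  · rw [← Nat.card_congr e.toEquiv, show ((pU F).ker : Subgroup Uhat) = (pU F).ker from rfl]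
    have h : ((pU F).ker : Set Uhat) = Set.range (Pc.zen pcE 36 full) := by
      ext x
      exact ⟨pU_ker F, fun ⟨b, hb⟩ => hb ▸ pU_zen F b⟩
    show Nat.card ((pU F).ker : Set Uhat) = 4
    rw [h, Nat.card_range_of_injective zen_inj]
    simp
  · have hy : ∀ y, e y * e y = 1 := fun y => by
      rw [← map_mul, show y * y = 1 from Subtype.ext (hexp y.1 y.2), map_one]
    have h := hy (e.symm ⟨z, hz⟩)
    rw [e.apply_symm_apply] at h
    exact congrArg Subtype.val h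

/-- the multiplier of `²E₆(2)` -/
theorem multiplier_twistedE6_two (hK : Fintype.card K = 4) :
    Cfsg.HasSchurMultiplier ↥(twistedE6 K 2) (Multiplicative (ZMod 3 × ZMod 2 × ZMod 2)) := by
  classical
  obtain ⟨F⟩ := exists_fld hK
  refine ⟨?_, fun Γ _ _ σ hσ => exists_surj F hσ⟩
  obtain ⟨Γ2, i2, f2, σ2, hσ2, c2, z2⟩ := exists_cover_four F
  obtain ⟨Γ3, i3, f3, σ3, hσ3, c3⟩ := CfsgLib.Lie.Mult.TE6Cover.exists_cover.{u} (θ := F.th) F.th_pow F.th_th F.q_isPrimePow F.card' (by norm_num)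
  let Δ : Subgroup (Γ2 × Γ3) := (σ2.comp (MonoidHom.fst Γ2 Γ3)).eqLocus (σ3.comp (MonoidHom.snd Γ2 Γ3))
  let σ : ↥Δ →* ↥(twistedE6 K 2) := (σ2.comp (MonoidHom.fst Γ2 Γ3)).comp Δ.subtype
  have hmem : ∀ {x : Γ2 × Γ3}, x ∈ Δ ↔ σ2 x.1 = σ3 x.2 := Iff.rfl
  have p2 : ∀ a, ∃ x : ↥Δ, x.1.1 = a := fun a => by
    obtain ⟨b, hb⟩ := hσ3.1 (σ2 a)
    exact ⟨⟨(a, b), hmem.2 hb.symm⟩, rfl⟩
  have p3 : ∀ b, ∃ x : ↥Δ, x.1.2 = b := fun b => by
    obtain ⟨a, ha⟩ := hσ2.1 (σ3 b)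
    exact ⟨⟨(a, b), hmem.2 ha⟩, rfl⟩
  have hker : ∀ x : ↥Δ, x ∈ σ.ker → x.1.1 ∈ σ2.ker ∧ x.1.2 ∈ σ3.ker := fun x hx =>
    ⟨hx, (hmem.1 x.2).symm.trans hx⟩
  have z3 : ∀ w ∈ σ3.ker, w ^ 3 = 1 := fun w hw => by
    rw [← c3]
    exact congrArg Subtype.val (pow_card_eq_one' (G := σ3.ker) (x := ⟨w, hw⟩))
  have hmap2 : (commutator ↥Δ).map ((MonoidHom.fst Γ2 Γ3).comp Δ.subtype) = commutator Γ2 := by
    rw [commutator_def, Subgroup.map_commutator, Subgroup.map_top_of_surjective ((MonoidHom.fst Γ2 Γ3).comp Δ.subtype) p2, commutator_def]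
  have hmap3 : (commutator ↥Δ).map ((MonoidHom.snd Γ2 Γ3).comp Δ.subtype) = commutator Γ3 := by
    rw [commutator_def, Subgroup.map_commutator, Subgroup.map_top_of_surjective ((MonoidHom.snd Γ2 Γ3).comp Δ.subtype) p3, commutator_def]
  let in2 : ↥σ2.ker → ↥Δ := fun z => ⟨(z.1, 1), hmem.2 (by rw [map_one]; exact z.2)⟩
  let in3 : ↥σ3.ker → ↥Δ := fun w => ⟨(1, w.1), hmem.2 (by rw [map_one]; exact (w.2 : σ3 w.1 = 1).symm)⟩
  have hin2 : ∀ z, in2 z ∈ commutator ↥Δ := by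
    rintro ⟨z, hz⟩
    obtain ⟨x, hx, e⟩ := hmap2.ge (hσ2.2.2 hz)
    change x.1.1 = z at e
    have hw : x.1.2 ∈ σ3.ker := by
      rw [MonoidHom.mem_ker, ← hmem.1 x.2, e]; exact hz
    have : in2 ⟨z, hz⟩ = x ^ 3 := Subtype.ext (Prod.ext (by
      show z = (x ^ 3).1.1
      rw [SubgroupClass.coe_pow, Prod.pow_fst, e, pow_succ, pow_two, z2 z hz, one_mul]) (by
      show (1 : Γ3) = (x ^ 3).1.2
      rw [SubgroupClass.coe_pow, Prod.pow_snd, z3 _ hw]))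
    rw [this]
    exact pow_mem hx 3
  have hin3 : ∀ w, in3 w ∈ commutator ↥Δ := by
    rintro ⟨w, hw⟩
    obtain ⟨x, hx, e⟩ := hmap3.ge (hσ3.2.2 hw)
    change x.1.2 = w at e
    have hz : x.1.1 ∈ σ2.ker := by
      rw [MonoidHom.mem_ker, hmem.1 x.2, e]; exact hw
    have : in3 ⟨w, hw⟩ = x ^ 4 := Subtype.ext (Prod.ext (by
      show (1 : Γ2) = (x ^ 4).1.1
      rw [SubgroupClass.coe_pow, Prod.pow_fst, show 4 = 2 + 2 from rfl, pow_add, pow_two, z2 _ hz, one_mul]) (by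
      show w = (x ^ 4).1.2
      rw [SubgroupClass.coe_pow, Prod.pow_snd, e, pow_succ, z3 _ hw, one_mul]))
    rw [this]
    exact pow_mem hx 4
  have hstem : Cfsg.IsStemExtension σ := by
    refine ⟨fun g => ?_, fun x hx => ?_, fun x hx => ?_⟩
    · obtain ⟨a, ha⟩ := hσ2.1 g
      obtain ⟨x, hx⟩ := p2 a
      exact ⟨x, by show σ2 x.1.1 = g; rw [hx, ha]⟩
    · obtain ⟨h2, h3⟩ := hker x hx
      exact Subgroup.mem_center_iff.2 fun y => Subtype.ext (Prod.ext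
        (Subgroup.mem_center_iff.1 (hσ2.2.1 h2) y.1.1) (Subgroup.mem_center_iff.1 (hσ3.2.1 h3) y.1.2))
    · obtain ⟨h2, h3⟩ := hker x hx
      have : x = in2 ⟨_, h2⟩ * in3 ⟨_, h3⟩ := Subtype.ext (Prod.ext (mul_one _).symm (one_mul _).symm)
      rw [this]
      exact mul_mem (hin2 _) (hin3 _)
  refine ⟨↥Δ, inferInstance, inferInstance, σ, hstem, ?_⟩
  obtain ⟨π, hπ⟩ := exists_surj F hstem
  let e : ↥σ.ker ≃ ↥σ2.ker × ↥σ3.ker :=
    { toFun := fun x => (⟨_, (hker x.1 x.2).1⟩, ⟨_, (hker x.1 x.2).2⟩)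
      invFun := fun p => ⟨⟨(p.1.1, p.2.1), hmem.2 ((p.1.2 : σ2 _ = 1).trans (p.2.2 : σ3 _ = 1).symm)⟩, p.1.2⟩
      left_inv := fun _ => rfl
      right_inv := fun _ => rfl }
  have hc : Nat.card ↥σ.ker = 12 := by rw [Nat.card_congr e, Nat.card_prod, c2, c3]
  have hA : Nat.card (Multiplicative (ZMod 3 × ZMod 2 × ZMod 2)) = 12 := by
    rw [Nat.card_congr Multiplicative.toAdd, Nat.card_prod, Nat.card_prod, Nat.card_zmod, Nat.card_zmod]
  exact ⟨(MulEquiv.ofBijective π ((Nat.bijective_iff_surjective_and_card _).2 ⟨hπ, hA.trans hc.symm⟩)).symm⟩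

end CfsgLib.Lie.MultExc.TwESixTwo
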