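import Cfsg.Agent.Lib.Lie.MultExc.TwESixTwo.Rels
import Cfsg.Agent.Lib.Lie.MultExc.TwESixTwo.PosTable
import Cfsg.Agent.Lib.Lie.Mult.TE6.Layers
import Cfsg.Agent.Lib.Lie.Chev.Tw.E6Gp

/-!
The positive letters generate a subgroup of odd index of `²E₆(2)`, and central extensions of it by the
table have no further kernel.
-/

set_option autoImplicit false
set_option maxRecDepth 100000

namespace CfsgLib.Lie.MultExc.TwESixTwo

open Cfsg.Lie CfsgLib.Lie.Chev
open scoped MatrixGroups
open TE6 (C twist)

/-- the letter of a positive index -/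
def posLet (i : ℕ) : ℕ := posList.getD i 0

/-- a pair of positive indices agrees with the letters -/
def posOK (b a : ℕ) : Bool :=
  !(Nat.ble a b) ||
    ((decode (entry tab (posLet b) (posLet a)) == some ((pcE b a).2.map posLet)) &&
      knownF.testBit (pid (posLet b) (posLet a)) &&
      ((pcE b a).1 == (val1F.testBit (pid (posLet b) (posLet a)), val2F.testBit (pid (posLet b) (posLet a)))))

theorem pos_ok : ((List.range 36).all fun b => (List.range 36).all fun a => posOK b a) = true := by
  decide +kernel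

theorem pos_inj : ((List.range 36).all fun b => Nat.blt (posLet b) 72 &&
    (List.range 36).all fun a => (a == b) || !(posLet a == posLet b)) = true := by decide +kernel

theorem full_lt {a : ℕ} (h : full.testBit a = true) : a < 36 := by
  rw [full_spec] at h
  exact ((Pc.testBit_tail 36 0 a).1 h).2

theorem full_bit {a : ℕ} (h : a < 36) : full.testBit a = true := by
  rw [full_spec]
  exact (Pc.testBit_tail 36 0 a).2 ⟨Nat.zero_le _, h⟩

theorem full_up : Pc.upOK pcE 36 full = true := by
  have h := pc_ok
  simp only [Bool.and_eq_true] at h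
  exact h.2

theorem full_cnt : Pc.cnt 36 full 0 = 36 := by decide +kernel

theorem pos_spec {a b : ℕ} (hab : a ≤ b) (hb : b < 36) :
    decode (entry tab (posLet b) (posLet a)) = some ((pcE b a).2.map posLet) ∧
      knownF.testBit (pid (posLet b) (posLet a)) = true ∧
      (pcE b a).1 = (val1F.testBit (pid (posLet b) (posLet a)), val2F.testBit (pid (posLet b) (posLet a))) := by
  have h := pos_ok
  simp only [List.all_eq_true, List.mem_range] at h
  have e := h b hb a (by omega)
  simp only [posOK, Bool.or_eq_true, Bool.not_eq_true', Bool.and_eq_true, beq_iff_eq] at e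
  rcases e with e | ⟨⟨e1, e2⟩, e3⟩
  · rw [← Nat.ble_eq, e] at hab
    simp at hab
  · exact ⟨e1, e2, e3⟩

theorem posLet_lt {a : ℕ} (h : a < 36) : posLet a < 72 := by
  have e := pos_inj
  simp only [List.all_eq_true, List.mem_range, Bool.and_eq_true, Nat.blt_eq] at e
  exact (e a h).1

theorem posLet_ne {a b : ℕ} (ha : a < 36) (hb : b < 36) (h : a ≠ b) : posLet a ≠ posLet b := by
  have e := pos_inj
  simp only [List.all_eq_true, List.mem_range, Bool.and_eq_true, Bool.or_eq_true, beq_iff_eq, Bool.not_eq_true',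
    beq_eq_false_iff_ne] at e
  exact ((e b hb).2 a ha).resolve_left h

/-- the code of the scalars on an orbit with the given code at the representative -/
noncomputable def layerWord (a t : ℕ) : List (ℕ × ℕ) :=
  (CfsgLib.Lie.Mult.TE6Lay.orb a).map fun s =>
    (s.val, if s.val == (CfsgLib.Lie.Mult.TE6Lay.rep a).val then t else tmul t t)

/-- the candidate letters of a layer -/
noncomputable def layerCands (a : ℕ) : List ℕ :=
  posList.filter fun l => (CfsgLib.Lie.Mult.TE6Lay.orb a).any fun s => s.val == letR l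

/-- every element of a layer is a word in positive letters -/
noncomputable def layerOK (a : ℕ) : Bool :=
  (List.range 4).all fun t =>
    (prN (CfsgLib.Lie.Mult.TE6Lay.rep a).val == (CfsgLib.Lie.Mult.TE6Lay.rep a).val && !(tmul t t == t)) ||
      ((layerCands a).sublists.any fun w => rcollect idRank 100 (wordW w) == rcollect idRank 100
        ((layerWord a t).filter fun p => !(p.2 == 0)))

theorem layers_ok : ((List.range 24).all layerOK) = true := by decide +kernel

/-- the data of the field of four elements -/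
structure Fld (K : Type*) [Field K] [Fintype K] where
  /-- a scalar outside the prime field -/
  om : K
  /-- the Frobenius map -/
  th : K ≃+* K
  card : Fintype.card K = 4
  two : (2 : K) = 0
  om_sq : om * om = om + 1
  th_mul : ∀ t, th t = t * t
  th_pow : ∀ t, th t = t ^ 2
  th_th : ∀ t, th (th t) = t
  codes : ∀ x : K, ∃ t < 4, x = cf om t

variable {K : Type*} [Field K] [Fintype K]

theorem exists_fld (hK : Fintype.card K = 4) : Nonempty (Fld K) := by
  classical
  have h2 : (2 : K) = 0 := by
    have h4 : ((Fintype.card K : ℕ) : K) = 0 := FiniteField.cast_card_eq_zero K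
    rw [hK] at h4
    have : (2 : K) * 2 = 0 := by push_cast at h4; linear_combination h4
    simpa using this
  obtain ⟨θ, hθ⟩ := Frob.exists_powEquiv (K := K) (q := 2) ⟨2, 1, Nat.prime_two.prime, one_pos, rfl⟩ (show Fintype.card K = 2 ^ 2 by rw [hK]; norm_num)
  obtain ⟨w, hw⟩ : ∃ w : K, w ∉ ({0, 1} : Finset K) := by
    by_contra h
    push_neg at h
    have h1 : (Finset.univ : Finset K).card ≤ ({0, 1} : Finset K).card := Finset.card_le_card fun x _ => h x
    rw [Finset.card_univ, hK, Finset.card_pair zero_ne_one] at h1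
    omega
  simp only [Finset.mem_insert, Finset.mem_singleton, not_or] at hw
  have hcube : w ^ 3 = 1 := by
    have := FiniteField.pow_card_sub_one_eq_one w hw.1
    rwa [hK] at this
  have hsq : w * w = w + 1 := by
    have e : (w - 1) * (w * w + w + 1) = 0 := by linear_combination hcube
    rcases mul_eq_zero.1 e with e | e
    · exact absurd (sub_eq_zero.1 e) hw.2
    · linear_combination e - (w + 1) * h2
  refine ⟨⟨w, θ, hK, h2, hsq, fun t => by rw [hθ, pow_two], hθ, fun t => by
    rw [hθ, hθ, ← pow_mul, show 2 * 2 = Fintype.card K by rw [hK], FiniteField.pow_card], ?_⟩⟩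
  have hinj : Function.Injective (fun t : Fin 4 => cf w t.val) := by
    intro i j h
    have hw1 : 1 + w ≠ 0 := fun e => hw.2 (by linear_combination e - h2)
    have hw2 : 1 + w ≠ 1 := fun e => hw.1 (by linear_combination e)
    fin_cases i <;> fin_cases j <;> simp [cf] at h ⊢
    all_goals first
      | exact hw.1 h
      | exact hw.1 h.symm
      | exact hw.2 h
      | exact hw.2 h.symm
      | exact hw1 h
      | exact hw1 h.symm
      | exact hw2 h
      | exact hw2 h.symm
  intro x
  obtain ⟨t, ht⟩ := ((Fintype.bijective_iff_injective_and_card _).2 ⟨hinj, by simp [hK]⟩).2 x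
  exact ⟨t.val, t.isLt, ht.symm⟩

variable (F : Fld K)

theorem Fld.q_isPrimePow (_ : Fld K) : IsPrimePow 2 := ⟨2, 1, Nat.prime_two.prime, one_pos, rfl⟩

theorem Fld.card' (F : Fld K) : Fintype.card K = 2 ^ 2 := by rw [F.card]; norm_num

theorem Fld.twGp : TwGp (TE6.orbits F.th) (twistedE6 K 2) := TE6.twGp F.th F.th_pow F.th_th

theorem Fld.Fix_eq : twistedE6 K 2 = (twist F.th).Fix := F.twGp.eq_Fix

/-- a letter in the twisted group -/
noncomputable def elG (l : ℕ) : ↥(twistedE6 K 2) :=
  ⟨el F.om l, by rw [F.Fix_eq]; exact el_fix F.two F.om_sq F.th F.th_mul l⟩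

theorem elG_sq (l : ℕ) : elG F l * elG F l = 1 := Subtype.ext (el_sq F.two F.om_sq l)

theorem elG_rel {x y : ℕ} {T : List ℕ} (h : decode (entry tab x y) = some T) :
    elG F x * elG F y = ((T ++ if x = y then [] else [y, x]).map (elG F)).prod := by
  refine Subtype.ext ?_
  rw [Subgroup.coe_mul, Subgroup.val_list_prod, List.map_map]
  exact el_rel F.two F.om_sq h

/-- a positive letter in the twisted group -/
noncomputable def elP (i : ℕ) : ↥(twistedE6 K 2) := elG F (posLet i)

theorem elP_sat : Pc.Sat pcE 36 full (elP F) (fun _ => 1) := by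
  refine ⟨fun a ha => full_lt ha, fun _ _ => mul_one 1, fun _ g => Commute.one_left g, fun a b ha hb hle => ?_⟩
  obtain ⟨hd, -, -⟩ := pos_spec hle (full_lt hb)
  show elG F (posLet b) * elG F (posLet a) = _
  rw [elG_rel F hd]
  by_cases e : a = b
  · subst e
    simp [Pc.ev, Pc.R, Function.comp_def, List.map_map]
    rfl
  · rw [if_neg (posLet_ne (full_lt hb) (full_lt ha) (Ne.symm e))]
    simp [Pc.ev, Pc.R, if_neg e, Function.comp_def, List.map_map]
    rfl

/-- the subgroup generated by the positive letters -/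
noncomputable def Upos : Subgroup ↥(twistedE6 K 2) := Subgroup.closure (elP F '' {i | full.testBit i = true})

theorem Upos_ge : (chevE6.posUnipotent K ⊓ twistedE6 K 2).subgroupOf (twistedE6 K 2) ≤ Upos F := by
  intro g hg
  have h1 := CfsgLib.Lie.Mult.TE6Lay.U_le_tail F.th F.twGp (Subgroup.mem_inf.1 (Subgroup.mem_subgroupOf.1 hg)).1
  refine (Subgroup.closure_le _).2 ?_ h1
  rintro v ⟨a, -, ha, c, hc, e⟩
  obtain ⟨t, ht, hct⟩ := F.codes (c (CfsgLib.Lie.Mult.TE6Lay.rep a))
  obtain ⟨-, -, hpos, hrep, -, hpp, -⟩ := CfsgLib.Lie.Mult.TE6Lay.orb_ok a ha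
  set r := CfsgLib.Lie.Mult.TE6Lay.rep a
  have heps : ∀ s, (twist F.th).eps s = (1 : K) := by
    intro s
    rw [TwSub.E6.hef F.th s]
    unfold TwSub.sgI
    split <;> simp [neg_eq' F.two]
  have hpf := hc r hrep
  rw [heps, one_mul, TwSub.E6.hpf F.th, hct, F.th_mul, ← cf_mul F.two F.om_sq] at hpf
  have ok := layers_ok
  simp only [List.all_eq_true, List.mem_range] at ok
  have ok' := ok a ha
  simp only [layerOK, List.all_eq_true, List.mem_range, Bool.or_eq_true, Bool.and_eq_true, beq_iff_eq,
    Bool.not_eq_true', beq_eq_false_iff_ne, List.any_eq_true] at ok'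
  rcases ok' t ht with ⟨hfix, hne⟩ | ⟨w, hw, he⟩
  · exfalso
    have e1 : TwSub.E6.pf r = r := by
      rw [← TwSub.E6.hpf F.th]; exact TE6.p_eq F.th hfix
    rw [e1, hct] at hpf
    refine hne ?_
    have key : ∀ i < 4, ∀ j < 4, cf F.om i = cf F.om j → i = j := by
      intro i hi j hj hij
      let f : Fin 4 → K := fun t => cf F.om t.val
      have hs : Function.Surjective f := fun x => by
        obtain ⟨t, ht, rfl⟩ := F.codes x; exact ⟨⟨t, ht⟩, rfl⟩
      have hi' := ((Fintype.bijective_iff_surjective_and_card f).2 ⟨hs, by simp [F.card]⟩).1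
        (a₁ := ⟨i, hi⟩) (a₂ := ⟨j, hj⟩) hij
      exact congrArg Fin.val hi'
    have hlt : ∀ t < 4, tmul t t < 4 := by decide
    exact key _ (hlt t ht) _ ht hpf.symm
  · have hwpos : ∀ l ∈ w, l ∈ posList := fun l hl =>
      (List.mem_filter.1 ((List.mem_sublists.1 hw).subset hl)).1
    have hidx : ∀ l ∈ posList, ∃ i < 36, posLet i = l := by
      intro l hl
      obtain ⟨i, hi, rfl⟩ := List.getElem_of_mem hl
      exact ⟨i, (show posList.length = 36 from rfl) ▸ hi, List.getD_eq_getElem _ _ hi⟩
    have e2 := congrArg (rev F.om) he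
    rw [rcollect_spec F.two F.om_sq, rcollect_spec F.two F.om_sq, rev_wordW (fun l hl => by
      obtain ⟨i, hi, rfl⟩ := hidx l (hwpos l hl); exact posLet_lt hi)] at e2
    have e3 : (v : GL chevE6.Idx K) = rev F.om (layerWord a t) := by
      rw [e, TwSub.orbX, rev, layerWord, List.map_map]
      refine congrArg List.prod (List.map_congr_left fun s hs => ?_)
      rw [Function.comp_apply, rx, dif_pos s.isLt]
      congr 1
      rcases (hpos s hs).2.2 with rfl | rfl
      · simp [r, hct]
      · by_cases heq : TwSub.E6.pf r = r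
        · rw [heq]
          simp [r, hct]
        · rw [if_neg (by simpa [Fin.val_inj] using heq), hpf]
    have e4 : rev F.om (layerWord a t) = rev F.om ((layerWord a t).filter fun p => !(p.2 == 0)) := by
      generalize layerWord a t = L
      induction L with
      | nil => rfl
      | cons p L ih =>
        by_cases hp : p.2 = 0
        · rw [List.filter_cons_of_neg (by simp [hp]), ← ih]
          simp only [rev, List.map_cons, List.prod_cons]
          rw [show rx F.om p = 1 from by
            unfold rx; split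
            · rw [hp]; simp [cf, C.G.xu_zero]
            · rfl, one_mul]
        · rw [List.filter_cons_of_pos (by simp [hp])]
          simp only [rev, List.map_cons, List.prod_cons] at ih ⊢
          rw [ih]
    have e5 : v = (w.map (elG F)).prod := Subtype.ext (by
      rw [Subgroup.val_list_prod, List.map_map, e3, e4, ← e2]; rfl)
    show v ∈ Upos F
    rw [e5]
    refine Subgroup.list_prod_mem _ fun x hx => ?_
    obtain ⟨l, hl, rfl⟩ := List.mem_map.1 hx
    obtain ⟨i, hi, rfl⟩ := hidx l (hwpos l hl)
    exact Subgroup.subset_closure ⟨i, full_bit hi, rfl⟩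

theorem card_Upos_ge : 2 ^ 36 ≤ Nat.card (Upos F) := by
  have h := Nat.card_le_card_of_injective _ (Subgroup.inclusion_injective (Upos_ge F))
  rwa [Nat.card_congr (Subgroup.subgroupOfEquivOfLe inf_le_right).toEquiv,
    (TE6.summary F.q_isPrimePow F.card').2.1] at h

theorem card_Upos : Nat.card (Upos F) = 2 ^ 36 := by
  refine le_antisymm ?_ (card_Upos_ge F)
  have h := (Pc.card_le (elP_sat F) full_up).2
  rw [full_cnt, Set.range_const, Set.ncard_singleton, one_mul] at h
  refine le_trans (le_of_eq ?_) h
  congr 2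
  rw [Subgroup.closure_union, Subgroup.closure_singleton_one, bot_sup_eq]
  rfl

theorem Upos_index_odd : Odd (Upos F).index := by
  have hG := (TE6.summary F.q_isPrimePow F.card').2.2.2.1
  rw [← Subgroup.card_mul_index (Upos F), card_Upos F] at hG
  have hodd : Odd ((2 ^ 2 - 1) * (2 ^ 5 + 1) * (2 ^ 6 - 1) * (2 ^ 8 - 1) * (2 ^ 9 + 1) * (2 ^ 12 - 1) : ℕ) := by
    decide +kernel
  have e : 2 ^ 36 * (Nat.gcd 3 (2 + 1) * (Upos F).index) =
      2 ^ 36 * ((2 ^ 2 - 1) * (2 ^ 5 + 1) * (2 ^ 6 - 1) * (2 ^ 8 - 1) * (2 ^ 9 + 1) * (2 ^ 12 - 1)) := by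
    rw [Nat.mul_left_comm, hG]
    simp only [mul_assoc]
  rw [← Nat.eq_of_mul_eq_mul_left (by positivity) e] at hodd
  exact (Nat.odd_mul.1 hodd).2

/-- lifts of the positive letters leave no kernel beyond the centre of the table -/
theorem mem_range_of_p_eq_one {P : Type*} [Group P] {φ : ℕ → P} {z : Pc.Bits → P}
    (S : Pc.Sat pcE 36 full φ z) (p : P →* ↥(twistedE6 K 2)) (hφ : ∀ i < 36, p (φ i) = elP F i)
    (hz : ∀ b, p (z b) = 1) {x : P} (hx : x ∈ Subgroup.closure (Set.range z ∪ φ '' {i | full.testBit i = true}))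
    (h1 : p x = 1) : x ∈ Set.range z := by
  set M := Subgroup.closure (Set.range z ∪ φ '' {i | full.testBit i = true}) with hM
  obtain ⟨hfin, hcard⟩ := Pc.card_le S full_up
  rw [full_cnt] at hcard
  haveI : Finite M := hfin.to_subtype
  let f : M →* ↥(twistedE6 K 2) := p.comp M.subtype
  have hr : Upos F ≤ f.range := (Subgroup.closure_le _).2 (by
    rintro _ ⟨i, hi, rfl⟩
    exact ⟨⟨φ i, Subgroup.subset_closure (Or.inr ⟨i, hi, rfl⟩)⟩, hφ i (full_lt hi)⟩)
  have hm := f.ker.card_mul_index
  rw [Subgroup.index_ker] at hm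
  have hge := (card_Upos_ge F).trans (Subgroup.card_le_of_le hr)
  have hk : Nat.card f.ker ≤ (Set.range z).ncard :=
    Nat.le_of_mul_le_mul_right (hm.le.trans hcard |>.trans' (Nat.mul_le_mul_left _ hge)) (by positivity)
  have hzM : ∀ b, z b ∈ M := fun b => Subgroup.subset_closure (Or.inl ⟨b, rfl⟩)
  have hsub : Set.range z ⊆ Subtype.val '' (f.ker : Set M) := by
    rintro _ ⟨b, rfl⟩; exact ⟨⟨z b, hzM b⟩, hz b, rfl⟩
  have hfk : (Subtype.val '' (f.ker : Set M)).Finite := (Set.toFinite _).image _
  have heq : Set.range z = Subtype.val '' (f.ker : Set M) := Set.eq_of_subset_of_ncard_le hsub (by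
    rw [Set.ncard_image_of_injective _ Subtype.val_injective, ← Nat.card_coe_set_eq]
    exact hk) hfk
  rw [heq]
  exact ⟨⟨x, hx⟩, h1, rfl⟩

end CfsgLib.Lie.MultExc.TwESixTwo
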