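import Cfsg.Agent.Lib.Lie.MultExc.TwESixTwo.Table
import Cfsg.Agent.Lib.Lie.Chev.Tw.Sub.E6
import Cfsg.Agent.Lib.MinDeg.TwE6Base

/-!
The commutator words of the letters hold in the twisted group: both sides collect to one product of root
elements over four elements.
-/

set_option autoImplicit false
set_option maxRecDepth 100000

namespace CfsgLib.Lie.MultExc.TwESixTwo

open Cfsg.Lie CfsgLib.Lie.Chev
open scoped MatrixGroups
open CfsgLib.MinDeg
open TE6 (C twist)

/-- root of a letter -/
def letR (l : ℕ) : ℕ := (letTab >>> (8 * l)) % 128

/-- scalar code of a letter -/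
def letT (l : ℕ) : ℕ := (letTab >>> (8 * l + 7)) % 2 + 1

/-- product of scalar codes -/
def tmul (t u : ℕ) : ℕ := [[0, 0, 0, 0], [0, 1, 2, 3], [0, 2, 3, 1], [0, 3, 1, 2]].getD (t % 4) [] |>.getD (u % 4) 0

/-- sum of scalar codes -/
def tadd (t u : ℕ) : ℕ := [[0, 1, 2, 3], [1, 0, 3, 2], [2, 3, 0, 1], [3, 2, 1, 0]].getD (t % 4) [] |>.getD (u % 4) 0

/-- the symmetry of roots -/
noncomputable def prN (r : ℕ) : ℕ := graphE6.p.get r

/-- the root word of a letter -/
noncomputable def letW (l : ℕ) : List (ℕ × ℕ) :=
  if prN (letR l) == letR l then [(letR l, letT l)]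
  else [(letR l, letT l), (prN (letR l), tmul (letT l) (letT l))]

/-- the root word of a word -/
noncomputable def wordW (w : List ℕ) : List (ℕ × ℕ) := w.flatMap letW

/-- the entry of two roots -/
def addE (a b : ℕ) : ℕ := (addTab >>> (8 * (72 * a + b))) % 256

/-- exchange or merge of two root elements -/
def rstep (rk : ℕ) : List (ℕ × ℕ) → Option (List (ℕ × ℕ))
  | [] => none
  | [_] => none
  | (a, t) :: (b, u) :: r =>
    if (rk >>> (8 * b)) % 256 ≤ (rk >>> (8 * a)) % 256 then
      if a = b then
        (if tadd t u = 0 then some r else some ((a, tadd t u) :: r))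
      else
        match addE a b with
        | 0 => none
        | 1 => if a < 72 ∧ b < 72 then some ((b, u) :: (a, t) :: r) else none
        | z + 2 => if a < 72 ∧ b < 72 then some ((b, u) :: (a, t) :: (z, tmul t u) :: r) else none
    else (rstep rk ((b, u) :: r)).map fun q => (a, t) :: q

/-- collection of root elements -/
def rcollect (rk : ℕ) : ℕ → List (ℕ × ℕ) → List (ℕ × ℕ)
  | 0, w => w
  | f + 1, w =>
    match rstep rk w with
    | none => w
    | some q => rcollect rk f q

/-- the table of root sums agrees with the datum -/
noncomputable def addOK (a b : ℕ) : Bool :=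
  if a == b || b == chevE6.neg a then addE a b == 0
  else
    match addE a b, commTermsF chevE6 fastE6 b a with
    | 1, [] => true
    | z + 2, [(z', c, i, j)] => z == z' && !(c % 2 == 0) && i == 1 && j == 1 && Nat.blt z 72
    | _, _ => false

theorem adds_ok : ((List.range 72).all fun a => (List.range 72).all fun b => addOK a b) = true := by
  decide +kernel

/-- one pair of letters -/
noncomputable def pairOK (x y : ℕ) : Bool :=
  match decode (entry tab x y) with
  | none => true
  | some T =>
    let rk := ranks.getD ((sysTab >>> (8 * pid x y)) % 256) 0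
    rcollect rk 200 (wordW [x, y]) == rcollect rk 200 (wordW (T ++ if x = y then [] else [y, x])) &&
      T.all (fun t => Nat.blt t 72) && (!(x == y) || T.isEmpty)

/-- the diagonal is present and letters are roots with nonzero scalars -/
noncomputable def letOK (l : ℕ) : Bool :=
  Nat.blt (letR l) 72 && (decode (entry tab l l) == some []) &&
    (if prN (letR l) == letR l then letT l == 1
     else rstep 0 [(prN (letR l), tmul (letT l) (letT l)), (letR l, letT l)] == some (letW l))

theorem lets_ok : ((List.range 72).all letOK) = true := by decide +kernel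

theorem pairs_ok : ((List.range 72).all fun x => (List.range 72).all fun y => pairOK x y) = true := by
  decide +kernel

theorem nroots_eq : chevE6.nroots = 72 := rfl

section Field

variable {K : Type*} [Field K] (ω : K)

/-- the scalar of a code -/
def cf (t : ℕ) : K := [(0 : K), 1, ω, 1 + ω].getD (t % 4) 0

/-- a root element -/
noncomputable def rx (p : ℕ × ℕ) : GL chevE6.Idx K :=
  if h : p.1 < chevE6.nroots then C.G.xu ⟨p.1, h⟩ (cf ω p.2) else 1

/-- evaluation of a root word -/
noncomputable def rev (w : List (ℕ × ℕ)) : GL chevE6.Idx K := (w.map (rx ω)).prod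

variable {ω} (h2 : (2 : K) = 0) (hω : ω * ω = ω + 1)

include h2 in
theorem add_self' (x : K) : x + x = 0 := by rw [← two_mul, h2, zero_mul]

include h2 in
theorem neg_eq' (x : K) : -x = x := neg_eq_of_add_eq_zero_left (add_self' h2 x)

include h2 hω in
theorem cf_mul (t u : ℕ) : cf ω (tmul t u) = cf ω t * cf ω u := by
  have key : ∀ i < 4, ∀ j < 4, cf ω (tmul i j) = cf ω i * cf ω j := by
    intro i hi j hj
    interval_cases i <;> interval_cases j <;> simp [cf, tmul] <;>
      first
        | ring1
        | linear_combination (-1 : K) * hω
        | linear_combination (-1 : K) * hω - ω * h2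
        | linear_combination (-1 : K) * hω - (1 + ω) * h2
  have := key (t % 4) (Nat.mod_lt _ (by norm_num)) (u % 4) (Nat.mod_lt _ (by norm_num))
  simpa [cf, tmul] using this

include h2 in
theorem cf_add (t u : ℕ) : cf ω (tadd t u) = cf ω t + cf ω u := by
  have key : ∀ i < 4, ∀ j < 4, cf ω (tadd i j) = cf ω i + cf ω j := by
    intro i hi j hj
    interval_cases i <;> interval_cases j <;> simp [cf, tadd] <;>
      first
        | ring1
        | linear_combination (-1 : K) * h2
        | linear_combination -ω * h2
        | linear_combination -(1 + ω) * h2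
  have := key (t % 4) (Nat.mod_lt _ (by norm_num)) (u % 4) (Nat.mod_lt _ (by norm_num))
  simpa [cf, tadd] using this

include h2 hω in
theorem rstep_spec (rk : ℕ) : ∀ (w q : List (ℕ × ℕ)), rstep rk w = some q → rev ω q = rev ω w
  | [], q, h => by simp [rstep] at h
  | [_], q, h => by simp [rstep] at h
  | (a, t) :: (b, u) :: r, q, h => by
    unfold rstep at h
    split at h
    · split at h
      next e =>
        subst e
        have hm : rx ω (a, t) * rx ω (a, u) = rx ω (a, tadd t u) := by
          unfold rx
          simp only
          split
          · rw [cf_add h2, C.G.xu_add]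
          · exact mul_one _
        split at h
        next hz =>
          simp only [Option.some.injEq] at h
          subst h
          simp only [rev, List.map_cons, List.prod_cons, ← mul_assoc, hm]
          rw [hz, show rx ω (a, 0) = 1 from by
            unfold rx; split
            · simp [cf, C.G.xu_zero]
            · rfl, one_mul]
        next =>
          simp only [Option.some.injEq] at h
          subst h
          simp only [rev, List.map_cons, List.prod_cons, ← mul_assoc, hm]
      next hne =>
        have key : a < 72 → b < 72 → addE a b ≠ 0 → rx ω (a, t) * rx ω (b, u) = rx ω (b, u) * rx ω (a, t) *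
            (if addE a b = 1 then 1 else rx ω (addE a b - 2, tmul t u)) := by
          intro ha hb h0
          have ok := adds_ok
          simp only [List.all_eq_true, List.mem_range] at ok
          have o := ok a ha b hb
          unfold addOK at o
          split at o
          next => exact absurd (eq_of_beq o) h0
          next hc =>
            simp only [Bool.or_eq_true, beq_iff_eq, not_or] at hc
            rw [commTermsF_eq TwE6.rows (C).keys (show b < chevE6.nroots from hb) (show a < chevE6.nroots from ha)] at o
            have hn : (⟨a, ha⟩ : Fin chevE6.nroots) ≠ C.G.negr ⟨b, hb⟩ := fun e => hc.2 (by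
              have := congrArg Fin.val e
              rw [C.G.negr_val] at this
              simp only at this
              have hnn : ∀ i < 72, chevE6.neg (chevE6.neg i) = i := by decide +kernel
              rw [this, hnn b hb])
            have hcm := C.commAt (R := K) ⟨b, hb⟩ ⟨a, ha⟩ (fun e => hc.1 (congrArg Fin.val e)) hn (cf ω u) (cf ω t)
            unfold CommAt cwR at hcm
            simp only [rx, dif_pos (show a < chevE6.nroots from ha), dif_pos (show b < chevE6.nroots from hb)]
            split at o
            next e1 e2 =>
              rw [if_pos e1, mul_one]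
              rw [show ((⟨b, hb⟩ : Fin chevE6.nroots) : ℕ) = b from rfl,
                show ((⟨a, ha⟩ : Fin chevE6.nroots) : ℕ) = a from rfl, e2, List.map_nil, wordR_nil, mul_one] at hcm
              exact Units.ext hcm
            next z z' c i j e1 e2 =>
              simp only [Bool.and_eq_true, beq_iff_eq, Bool.not_eq_true', beq_eq_false_iff_ne, Nat.blt_eq] at o
              obtain ⟨⟨⟨⟨rfl, hc2⟩, rfl⟩, rfl⟩, hz⟩ := o
              rw [if_neg (by omega), show addE a b - 2 = z by omega, dif_pos (show z < chevE6.nroots from hz)]
              rw [show ((⟨b, hb⟩ : Fin chevE6.nroots) : ℕ) = b from rfl,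
                show ((⟨a, ha⟩ : Fin chevE6.nroots) : ℕ) = a from rfl, e2, List.map_cons, List.map_nil] at hcm
              have hcast : (c : K) = 1 := by
                conv_lhs => rw [show c = 1 + 2 * (c / 2) by omega]
                rw [Int.cast_add, Int.cast_mul, Int.cast_one, show ((2 : ℤ) : K) = 0 by exact_mod_cast h2, zero_mul,
                  add_zero]
              simp only [hcast, one_mul, pow_one, neg_eq' h2, ← cf_mul h2 hω] at hcm
              refine Units.ext ?_
              rw [cf_mul h2 hω, mul_comm (cf ω t)]
              simp only [Units.val_mul, C.G.coe_xu, hcm, wordR_cons, wordR_nil, mul_one, xN,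
                dif_pos (show z < chevE6.nroots from hz), cf_mul h2 hω]
            next => exact absurd o Bool.false_ne_true
        split at h
        · simp at h
        next e1 =>
          split at h
          next hab =>
            simp only [Option.some.injEq] at h
            subst h
            have := key hab.1 hab.2 (by omega)
            rw [if_pos e1, mul_one] at this
            simp only [rev, List.map_cons, List.prod_cons, ← mul_assoc, this]
          next => simp at h
        next z e1 =>
          split at h
          next hab =>
            simp only [Option.some.injEq] at h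
            subst h
            have := key hab.1 hab.2 (by omega)
            rw [if_neg (by omega), show addE a b - 2 = z by omega] at this
            simp only [rev, List.map_cons, List.prod_cons, ← mul_assoc, this]
          next => simp at h
    · obtain ⟨q', hq, rfl⟩ := Option.map_eq_some_iff.1 h
      have := rstep_spec rk _ q' hq
      simp only [rev, List.map_cons, List.prod_cons] at this ⊢
      rw [this]

include h2 hω in
theorem rcollect_spec (rk : ℕ) : ∀ (f : ℕ) (w : List (ℕ × ℕ)), rev ω (rcollect rk f w) = rev ω w
  | 0, w => rfl
  | f + 1, w => by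
    unfold rcollect
    split
    · rfl
    next q hq => rw [rcollect_spec rk f, rstep_spec h2 hω rk w q hq]

/-- a letter in the group -/
noncomputable def el (ω : K) (l : ℕ) : GL chevE6.Idx K := if l < 72 then rev ω (letW l) else 1

theorem rev_wordW {w : List ℕ} (h : ∀ l ∈ w, l < 72) : rev ω (wordW w) = (w.map (el ω)).prod := by
  induction w with
  | nil => rfl
  | cons a w ih =>
    rw [List.map_cons, List.prod_cons, ← ih fun l hl => h l (List.mem_cons_of_mem _ hl), el,
      if_pos (h a (List.mem_cons_self ..))]
    simp [rev, wordW]

theorem lt_of_decode {x y : ℕ} {T : List ℕ} (h : decode (entry tab x y) = some T) : x < 72 ∧ y < 72 := by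
  by_contra hxy
  rw [entry, if_neg hxy] at h
  simp [decode] at h

theorem T_lt {x y : ℕ} {T : List ℕ} (h : decode (entry tab x y) = some T) :
    (∀ t ∈ T, t < 72) ∧ (x = y → T = []) := by
  obtain ⟨hx, hy⟩ := lt_of_decode h
  have ok := pairs_ok
  simp only [List.all_eq_true, List.mem_range] at ok
  have o := ok x hx y hy
  rw [pairOK, h] at o
  simp only [Bool.and_eq_true, List.all_eq_true, Nat.blt_eq, Bool.or_eq_true, Bool.not_eq_true',
    beq_eq_false_iff_ne, List.isEmpty_iff] at o
  exact ⟨o.1.2, fun e => o.2.resolve_left (fun hne => hne e)⟩

include h2 hω in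
theorem el_rel {x y : ℕ} {T : List ℕ} (h : decode (entry tab x y) = some T) :
    el ω x * el ω y = ((T ++ if x = y then [] else [y, x]).map (el ω)).prod := by
  obtain ⟨hx, hy⟩ := lt_of_decode h
  obtain ⟨hT, -⟩ := T_lt h
  have ok := pairs_ok
  simp only [List.all_eq_true, List.mem_range] at ok
  have o := ok x hx y hy
  rw [pairOK, h] at o
  simp only [Bool.and_eq_true, beq_iff_eq] at o
  have e := congrArg (rev ω) o.1.1
  rw [rcollect_spec h2 hω, rcollect_spec h2 hω, rev_wordW (by simp [hx, hy]), rev_wordW (by
    intro l hl
    rcases List.mem_append.1 hl with h | h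
    · exact hT l h
    · split at h
      · simp at h
      · simp only [List.mem_cons, List.not_mem_nil, or_false] at h
        rcases h with rfl | rfl <;> assumption)] at e
  simpa using e

theorem let_spec {l : ℕ} (h : l < 72) : letR l < 72 ∧ decode (entry tab l l) = some [] ∧
    (prN (letR l) = letR l → letT l = 1) ∧ (prN (letR l) ≠ letR l →
      rstep 0 [(prN (letR l), tmul (letT l) (letT l)), (letR l, letT l)] = some (letW l)) := by
  have ok := lets_ok
  simp only [List.all_eq_true, List.mem_range] at ok
  have o := ok l h
  simp only [letOK, Bool.and_eq_true, Nat.blt_eq, beq_iff_eq] at o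
  refine ⟨o.1.1, o.1.2, fun e => ?_, fun e => ?_⟩
  · have := o.2; rw [if_pos e] at this; simpa using this
  · have := o.2; rw [if_neg e] at this; simpa using this

include h2 hω in
theorem el_sq (l : ℕ) : el ω l * el ω l = 1 := by
  by_cases h : l < 72
  · simpa using el_rel h2 hω (let_spec h).2.1
  · simp [el, h]

include h2 hω in
theorem el_fix (θ : K ≃+* K) (hθ : ∀ t, θ t = t * t) (l : ℕ) : el ω l ∈ (twist θ).Fix := by
  by_cases h : l < 72
  swap
  · simp [el, h]
  obtain ⟨hr, -, hs, hp⟩ := let_spec h
  rw [el, if_pos h]
  set r : Fin chevE6.nroots := ⟨letR l, hr⟩ with hrdef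
  have heps : ∀ s, (twist θ).eps s = 1 := by
    intro s
    rw [TwSub.E6.hef θ s]
    unfold TwSub.sgI
    split <;> simp [neg_eq' h2]
  by_cases hfix : prN (letR l) = letR l
  · have e : letW l = [(letR l, 1)] := by rw [letW, if_pos (by simpa using hfix), hs hfix]
    rw [e, rev, List.map_singleton, List.prod_singleton, rx, dif_pos (show (letR l, 1).1 < chevE6.nroots from hr)]
    have hpr : (twist θ).p r = r := TE6.p_eq θ hfix
    have h1 : cf ω 1 = (1 : K) := rfl
    have := (twist θ).mem_Fix_list [(r, cf ω 1)] (by
      simp only [List.map_cons, List.map_nil, heps, one_mul, TE6.σ_eq, hpr, h1, map_one])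
    simpa using this
  · have e : letW l = [(letR l, letT l), (prN (letR l), tmul (letT l) (letT l))] := by
      rw [letW, if_neg (by simpa using hfix)]
    have hs' := rstep_spec h2 hω 0 _ _ (hp hfix)
    rw [e] at hs' ⊢
    set s : Fin chevE6.nroots := ⟨prN (letR l), TwE6.pr_lt r⟩ with hsdef
    have e1 : (twist θ).p r = s := TwE6.twist_p θ r
    have e2 : (twist θ).p s = r := (TwE6.twist_p θ s).trans (TwE6.pr_pr r)
    simp only [rev, List.map_cons, List.map_nil, List.prod_cons, List.prod_nil, mul_one, rx,
      dif_pos (show letR l < chevE6.nroots from hr), dif_pos (show prN (letR l) < chevE6.nroots from s.2)] at hs' ⊢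
    have hsq : cf ω (tmul (letT l) (letT l)) = θ (cf ω (letT l)) := by rw [cf_mul h2 hω, hθ]
    have h22 : ∀ t, θ (θ t) = t ∨ True := fun _ => Or.inr trivial
    clear h22
    have hθθ : θ (θ (cf ω (letT l))) = cf ω (letT l) := by
      rw [hθ, hθ]
      have : ∀ t : ℕ, cf ω t * cf ω t * (cf ω t * cf ω t) = cf ω t := fun t => by
        rw [← cf_mul h2 hω, ← cf_mul h2 hω]
        have hk : ∀ i < 4, tmul (tmul i i) (tmul i i) = i := by decide
        have hm : ∀ t, tmul t t = tmul (t % 4) (t % 4) := fun t => by simp [tmul]
        rw [hm t, hk _ (Nat.mod_lt _ (by norm_num))]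
        simp [cf]
      exact this _
    have := (twist θ).mem_Fix_list [(r, cf ω (letT l)), (s, θ (cf ω (letT l)))] (by
      simp only [List.map_cons, List.map_nil, List.prod_cons, List.prod_nil, mul_one, heps, one_mul, TE6.σ_eq,
        e1, e2, hθθ]
      rw [← hsq]
      exact hs'.symm)
    rw [hsq]
    simpa using this

end Field

end CfsgLib.Lie.MultExc.TwESixTwo
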