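import Cfsg.Agent.Lib.Lie.MultExc.TwESixTwo.Pos
import Cfsg.Agent.Lib.Lie.MultExc.OddTransfer
import Cfsg.Agent.Lib.Lie.Chev.Tw.BNPair

/-!
The commutator pairing of the extension of the positive part is invariant under fusion in `²E₆(2)`:
it is carried by maps over the torus and over the four fundamental monomial elements, and along a reduced
decomposition every intermediate conjugate stays positive.
-/

set_option autoImplicit false
set_option maxRecDepth 100000

namespace CfsgLib.Lie.MultExc.TwESixTwo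

open Cfsg.Lie CfsgLib.Lie.Chev
open scoped MatrixGroups commutatorElement
open TE6 (C twist rt nd)

/-- exponents of the two torus generators -/
def zex (j : ℕ) (i : ℕ) : ℤ :=
  if j = 4 then [0, 0, 1, 0, 2, 0].getD i 0 else [1, 0, 0, 0, 0, 2].getD i 0

/-- the image of a root under a fusion map -/
noncomputable def mapR (j r : ℕ) : ℕ := if j < 4 then digit (orbGraphE6.tab.get j) r else r

/-- the factor of a root under a fusion map -/
noncomputable def mapC (j r : ℕ) : ℕ :=
  if j < 4 then 1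
  else if h : r < chevE6.nroots then
    ((∑ i : Fin chevE6.rank, cart chevE6 i ⟨r, h⟩ * zex j i.val) % 3).toNat + 1
  else 1

/-- the domain of a fusion map -/
def dom (j : ℕ) : ℕ := [phiDom0, phiDom1, phiDom2, phiDom3, phiDom4, phiDom5].getD j 0

/-- the images of a fusion map -/
def img (j i : ℕ) : Pc.Wd :=
  ([phiImg0, phiImg1, phiImg2, phiImg3, phiImg4, phiImg5].getD j []).getD i Pc.wone

/-- the generators outside the domain -/
def outM (j : ℕ) : ℕ := full ^^^ dom j

/-- the checks of a fusion map -/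
noncomputable def mapOK (j : ℕ) : Bool :=
  Pc.upOK pcE 36 (dom j) && Pc.upOK pcE 36 (outM j) && Pc.homOK pcE 36 (dom j) full (img j) &&
    Nat.beq (Pc.cnt 36 (dom j) 0 + Pc.cnt 36 (outM j) 0) 36 &&
    (dom j &&& full == dom j) && (outM j &&& full == outM j) &&
    ((List.range 36).all fun i => !(dom j).testBit i ||
      ((img j i).2.all (fun t => Nat.blt t 36) &&
        (rcollect idRank 200 ((wordW [posLet i]).map fun p => (mapR j p.1, tmul (mapC j p.1) p.2)) ==
          rcollect idRank 200 (wordW ((img j i).2.map posLet))))) &&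
    ((List.range 36).all fun e => !(outM j).testBit e || (List.range 36).all fun i => !(dom j).testBit i ||
      (Pc.collect pcE full 200 ((false, false), [e, i, e])).2.all fun t => (dom j).testBit t) &&
    ((List.range 36).all fun e => !(outM j).testBit e ||
      (wordW [posLet e]).all fun p => Nat.blt (mapR j p.1) 36 && Nat.ble 36 p.1)

theorem maps_ok : ((List.range 6).all mapOK) = true := by decide +kernel

theorem pos_roots : ((List.range 36).all fun e => (wordW [posLet e]).all fun p =>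
    Nat.blt p.1 72 && Nat.ble 36 p.1) = true := by decide +kernel

theorem wl_nodes : ∀ o : Fin orbGraphE6.no, (orbGraphE6.wl chevE6 o).map Fin.val =
    [[1], [3], [2, 4], [0, 5]].getD o.val [] := by decide +kernel

theorem pos_half (r : Fin chevE6.nroots) : chevE6.IsPosRoot r.val ↔ 36 ≤ r.val := by
  rw [C.G.pos_iff_half, show chevE6.nroots / 2 = 36 from by decide +kernel]

/-- the extension of the positive part -/
abbrev Uhat : Type := Pc.PG pcE 36 full

theorem sat_hat : Pc.Sat pcE 36 full (Pc.gen pcE 36 full) (Pc.zen pcE 36 full) :=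
  Pc.sat_PG pcE fun _ => full_lt

theorem zen_inj : Function.Injective (Pc.zen pcE 36 full) := by
  have h := pc_ok
  simp only [Bool.and_eq_true] at h
  rw [full_spec]
  exact Pc.zen_injective h.1 0 (by norm_num)

variable {K : Type*} [Field K] [Fintype K] (F : Fld K)

theorem exists_pU : ∃ p : Uhat →* ↥(twistedE6 K 2),
    (∀ a, full.testBit a = true → p (Pc.gen pcE 36 full a) = elP F a) ∧
      ∀ b, p (Pc.zen pcE 36 full b) = 1 :=
  Pc.exists_lift (elP_sat F) full_up

/-- the projection of the extension -/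
noncomputable def pU : Uhat →* ↥(twistedE6 K 2) := (exists_pU F).choose

theorem pU_gen {a : ℕ} (h : full.testBit a = true) : pU F (Pc.gen pcE 36 full a) = elP F a :=
  (exists_pU F).choose_spec.1 a h

theorem pU_zen (b : Pc.Bits) : pU F (Pc.zen pcE 36 full b) = 1 := (exists_pU F).choose_spec.2 b

theorem pU_ker {x : Uhat} (h : pU F x = 1) : x ∈ Set.range (Pc.zen pcE 36 full) :=
  mem_range_of_p_eq_one F sat_hat (pU F) (fun i hi => pU_gen F (full_bit hi)) (pU_zen F)
    (by rw [Pc.closure_gen]; exact Subgroup.mem_top x) h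

instance : Finite Uhat := by
  have h := (Pc.card_le sat_hat full_up).1
  rw [Pc.closure_gen] at h
  exact Set.finite_univ_iff.1 h

theorem pU_ker_le : (pU F).ker ≤ Subgroup.center Uhat := fun x hx => by
  obtain ⟨b, rfl⟩ := pU_ker F hx
  exact Subgroup.mem_center_iff.2 fun g => (sat_hat.zc b g).eq.symm

theorem pU_range : (pU F).range = Upos F := by
  refine le_antisymm ?_ ((Subgroup.closure_le _).2 fun _ ⟨i, hi, e⟩ => e ▸ ⟨_, pU_gen F hi⟩)
  rw [MonoidHom.range_eq_map, ← Pc.closure_gen, MonoidHom.map_closure, Subgroup.closure_le]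
  rintro _ ⟨x, ⟨b, rfl⟩ | ⟨i, hi, rfl⟩, rfl⟩
  · rw [pU_zen]; exact one_mem _
  · rw [pU_gen F hi]; exact Subgroup.subset_closure ⟨i, hi, rfl⟩

theorem elP_root {e : ℕ} (he : e < 36) {p : ℕ × ℕ} (hp : p ∈ letW (posLet e)) : p.1 < 72 ∧ 36 ≤ p.1 := by
  have h := pos_roots
  simp only [List.all_eq_true, List.mem_range, Bool.and_eq_true, Nat.blt_eq, Nat.ble_eq] at h
  exact h e he p (by simpa [wordW] using hp)

theorem elP_mem {e : ℕ} (he : e < 36) (H : Subgroup (GL chevE6.Idx K))
    (h : ∀ p ∈ letW (posLet e), ∀ hp : p.1 < chevE6.nroots, C.G.xu ⟨p.1, hp⟩ (cf F.om p.2) ∈ H) :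
    ((elP F e : ↥(twistedE6 K 2)) : GL chevE6.Idx K) ∈ H := by
  show el F.om (posLet e) ∈ H
  rw [el, if_pos (posLet_lt he), rev]
  refine list_prod_mem fun x hx => ?_
  obtain ⟨p, hp, rfl⟩ := List.mem_map.1 hx
  unfold rx
  split
  next hp' => exact h p hp hp'
  next => exact one_mem _

theorem mem_Upos_iff {g : ↥(twistedE6 K 2)} : g ∈ Upos F ↔ (g : GL chevE6.Idx K) ∈ chevE6.posUnipotent K := by
  constructor
  · intro hg
    induction hg using Subgroup.closure_induction with
    | one => exact one_mem _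
    | mul x y _ _ hx hy => exact mul_mem hx hy
    | inv x _ hx => exact inv_mem hx
    | mem x hx =>
      obtain ⟨e, he, rfl⟩ := hx
      exact elP_mem F (full_lt he) _ fun p hp hp' =>
        C.G.xu_mem_U ((pos_half _).2 (elP_root (full_lt he) hp).2) _
  · intro hg
    exact Upos_ge F (Subgroup.mem_subgroupOf.2 (Subgroup.mem_inf.2 ⟨hg, g.2⟩))

/-- commutators of commuting elements are kept by conjugation with `n` -/
def Good (n : ↥(twistedE6 K 2)) : Prop :=
  ∀ A B A' B' : Uhat, Commute (pU F A) (pU F B) → pU F A' = n * pU F A * n⁻¹ →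
    pU F B' = n * pU F B * n⁻¹ → ⁅A', B'⁆ = ⁅A, B⁆

theorem hat_comm_congr {A B A' B' : Uhat} (ha : pU F A' = pU F A) (hb : pU F B' = pU F B) :
    ⁅A', B'⁆ = ⁅A, B⁆ := by
  have hmem : ∀ {X Y : Uhat}, pU F X = pU F Y → ∃ z ∈ Subgroup.center Uhat, X = Y * z := fun {X Y} h =>
    ⟨Y⁻¹ * X, pU_ker_le F (by rw [MonoidHom.mem_ker, map_mul, map_inv, h, inv_mul_cancel]), by group⟩
  obtain ⟨za, hza, rfl⟩ := hmem ha
  obtain ⟨zb, hzb, rfl⟩ := hmem hb
  have ca : ∀ x : Uhat, za * x = x * za := fun x => (Subgroup.mem_center_iff.1 hza x).symm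
  have cb : ∀ x : Uhat, zb * x = x * zb := fun x => (Subgroup.mem_center_iff.1 hzb x).symm
  calc ⁅A * za, B * zb⁆ = A * (za * B) * (zb * za⁻¹) * A⁻¹ * zb⁻¹ * B⁻¹ := by
        rw [commutatorElement_def]; group
    _ = A * B * (zb * A⁻¹) * zb⁻¹ * B⁻¹ := by rw [ca B, cb za⁻¹]; group
    _ = _ := by rw [cb, commutatorElement_def]; group

theorem good_pos {n : ↥(twistedE6 K 2)} (hn : n ∈ Upos F) : Good F n := by
  intro A B A' B' hc ha hb
  rw [← pU_range] at hn
  obtain ⟨N, rfl⟩ := hn
  have h1 : ⁅A', B'⁆ = ⁅N * A * N⁻¹, N * B * N⁻¹⁆ :=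
    hat_comm_congr F (by rw [ha, map_mul, map_mul, map_inv]) (by rw [hb, map_mul, map_mul, map_inv])
  have h2 : ⁅A, B⁆ ∈ Subgroup.center Uhat := pU_ker_le F (by
    rw [MonoidHom.mem_ker, map_commutatorElement, commutatorElement_eq_one_iff_mul_comm]; exact hc.eq)
  rw [h1, show ⁅N * A * N⁻¹, N * B * N⁻¹⁆ = N * ⁅A, B⁆ * N⁻¹ by
    simp only [commutatorElement_def]; group, Subgroup.mem_center_iff.1 h2 N, mul_inv_cancel_right]

theorem good_mul {n1 n2 : ↥(twistedE6 K 2)} (h1 : Good F n1)
    (h2 : Good F n2) {A B A' B' : Uhat} (hc : Commute (pU F A) (pU F B))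
    (ha : pU F A' = n1 * n2 * pU F A * (n1 * n2)⁻¹) (hb : pU F B' = n1 * n2 * pU F B * (n1 * n2)⁻¹)
    (hka : n2 * pU F A * n2⁻¹ ∈ Upos F) (hkb : n2 * pU F B * n2⁻¹ ∈ Upos F) : ⁅A', B'⁆ = ⁅A, B⁆ := by
  rw [← pU_range] at hka hkb
  obtain ⟨A1, eA⟩ := hka
  obtain ⟨B1, eB⟩ := hkb
  refine (h1 A1 B1 A' B' ?_ ?_ ?_).trans (h2 A B A1 B1 hc eA eB)
  · rw [eA, eB]
    show n2 * pU F A * n2⁻¹ * (n2 * pU F B * n2⁻¹) = n2 * pU F B * n2⁻¹ * (n2 * pU F A * n2⁻¹)
    calc n2 * pU F A * n2⁻¹ * (n2 * pU F B * n2⁻¹) = n2 * (pU F A * pU F B) * n2⁻¹ := by group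
      _ = _ := by rw [hc.eq]; group
  · rw [ha, eA]; group
  · rw [hb, eB]; group

/-- a checked fusion map carried out by `n` keeps commutators -/
theorem good_of_map {j : ℕ} (hj : j < 6) (n : ↥(twistedE6 K 2))
    (hn : ∀ (r : Fin chevE6.nroots) (t : ℕ), ∀ h : mapR j r.val < chevE6.nroots,
      (n : GL chevE6.Idx K) * C.G.xu r (cf F.om t) * (n : GL chevE6.Idx K)⁻¹ =
        C.G.xu ⟨mapR j r.val, h⟩ (cf F.om (tmul (mapC j r.val) t)))
    (hr : ∀ r < 72, mapR j r < 72) : Good F n := by
  have ok := maps_ok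
  simp only [List.all_eq_true, List.mem_range] at ok
  have o := ok j hj
  simp only [mapOK, Bool.and_eq_true] at o
  obtain ⟨⟨⟨⟨⟨⟨⟨⟨hupS, hupE⟩, hhom⟩, hcnt⟩, hS⟩, hE⟩, hconj⟩, hnorm⟩, hneg⟩ := o
  have hsub : ∀ M : ℕ, M &&& full = M → ∀ a, M.testBit a = true → full.testBit a = true := by
    intro M hM a ha
    have := congrArg (fun m => m.testBit a) hM
    simp only [Nat.testBit_and, ha, Bool.true_and] at this
    exact this
  have hSf := hsub _ (eq_of_beq hS)
  have hEf := hsub _ (eq_of_beq hE)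
  have hsplit : ∀ a, full.testBit a = true → (dom j).testBit a = true ∨ (outM j).testBit a = true := by
    intro a ha
    unfold outM
    rw [Nat.testBit_xor, ha]
    cases (dom j).testBit a <;> simp
  have hlt : ∀ a, (dom j).testBit a = true → a < 36 := fun a ha => full_lt (hSf a ha)
  have S := sat_hat.restrict (M0 := dom j) hSf
  have SE := (elP_sat F).restrict (M0 := outM j) hEf
  obtain ⟨inc, hinc, hincz⟩ := Pc.exists_lift S hupS
  obtain ⟨Φ, hΦ, hΦz⟩ := Pc.exists_lift (sat_hat.of_homOK hlt hhom) hupS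
  -- the map covers conjugation by `n`
  have hcov : ∀ x, pU F (Φ x) = n * pU F (inc x) * n⁻¹ := by
    have : (pU F).comp Φ = (MulAut.conj n).toMonoidHom.comp ((pU F).comp inc) := by
      refine MonoidHom.eq_of_eqOn_dense Pc.closure_gen ?_
      rintro x (⟨b, rfl⟩ | ⟨i, hi, rfl⟩)
      · simp [hΦz, hincz, pU_zen]
      show pU F (Φ _) = n * pU F (inc _) * n⁻¹
      rw [hΦ i hi, hinc i hi, pU_gen F (hSf i hi)]
      simp only [List.all_eq_true, List.mem_range, Bool.or_eq_true, Bool.not_eq_true', Bool.and_eq_true,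
        Nat.blt_eq, beq_iff_eq] at hconj
      obtain ⟨ht, he⟩ := (hconj i (hlt i hi)).resolve_left (by rw [show (dom j).testBit i = true from hi]; simp)
      rw [Pc.map_ev]
      refine Subtype.ext ?_
      have e2 := congrArg (rev F.om) he
      rw [rcollect_spec F.two F.om_sq, rcollect_spec F.two F.om_sq, rev_wordW (fun l hl => by
        obtain ⟨t, ht', rfl⟩ := List.mem_map.1 hl; exact posLet_lt (ht t ht'))] at e2
      rw [show (((List.map posLet (img j i).2)).map (el F.om)).prod =
          ((Pc.ev (fun t => pU F (Pc.gen pcE 36 full t)) (fun b => pU F (Pc.zen pcE 36 full b)) (img j i) :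
            ↥(twistedE6 K 2)) : GL chevE6.Idx K) from by
        rw [Pc.ev, pU_zen, one_mul, Subgroup.val_list_prod, List.map_map, List.map_map]
        refine congrArg List.prod (List.map_congr_left fun t ht' => ?_)
        simp only [Function.comp_apply, pU_gen F (full_bit (ht t ht'))]
        rfl] at e2
      rw [← e2]
      show rev F.om _ = (n : GL chevE6.Idx K) * el F.om (posLet i) * (n : GL chevE6.Idx K)⁻¹
      rw [el, if_pos (posLet_lt (hlt i hi)), show wordW [posLet i] = letW (posLet i) by simp [wordW]]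
      have hroot := fun p hp => elP_root (hlt i hi) (p := p) hp
      revert hroot
      generalize letW (posLet i) = W
      intro hroot
      induction W with
      | nil => simp [rev]
      | cons q W ih =>
        have hq := (hroot q (List.mem_cons_self ..)).1
        simp only [rev, List.map_cons, List.prod_cons] at ih ⊢
        rw [ih fun p hp => hroot p (List.mem_cons_of_mem _ hp)]
        have e := hn ⟨q.1, hq⟩ q.2 (hr q.1 hq)
        simp only [rx, dif_pos (show mapR j q.1 < chevE6.nroots from hr q.1 hq),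
          dif_pos (show q.1 < chevE6.nroots from hq)] at e ⊢
        rw [← e]
        group
    exact fun x => DFunLike.congr_fun this x
  -- every element splits
  let H : Subgroup Uhat := inc.range
  let X : Subgroup Uhat := Subgroup.closure (Pc.gen pcE 36 full '' {e | (outM j).testBit e = true})
  have hgenH : ∀ i, (dom j).testBit i = true → Pc.gen pcE 36 full i ∈ H := fun i hi => ⟨_, hinc i hi⟩
  have hzH : ∀ b, Pc.zen pcE 36 full b ∈ H := fun b => ⟨_, hincz b⟩
  have hnormH : X ≤ Subgroup.normalizer (H : Set Uhat) := by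
    refine (Subgroup.closure_le _).2 ?_
    rintro _ ⟨e, he, rfl⟩
    haveI : Finite H := by
      have h := (Pc.card_le S hupS).1
      refine (h.subset ?_).to_subtype
      rintro _ ⟨x, rfl⟩
      have hx : x ∈ (Subgroup.closure (Set.range (Pc.zen pcE 36 (dom j)) ∪
          Pc.gen pcE 36 (dom j) '' {i | (dom j).testBit i = true})) := by
        rw [Pc.closure_gen]; exact Subgroup.mem_top x
      have := Subgroup.mem_map_of_mem inc hx
      rw [MonoidHom.map_closure] at this
      refine Subgroup.closure_mono ?_ this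
      rintro _ ⟨y, ⟨b, rfl⟩ | ⟨i, hi, rfl⟩, rfl⟩
      · exact Or.inl ⟨b, (hincz b).symm⟩
      · exact Or.inr ⟨i, hi, (hinc i hi).symm⟩
    set g := Pc.gen pcE 36 full e
    have hef := hEf e he
    obtain ⟨c, hc⟩ : ∃ c, g * g = Pc.zen pcE 36 full c := by
      refine ⟨(pcE e e).1, ?_⟩
      have := sat_hat.rel e e hef hef le_rfl
      rw [Pc.R, if_pos rfl, (Pc.upOK_spec (fun a ha => full_lt ha) full_up hef hef le_rfl).2 rfl] at this
      simpa [Pc.ev] using this
    have hginv : g⁻¹ = g * Pc.zen pcE 36 full c :=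
      inv_eq_of_mul_eq_one_right (by rw [← mul_assoc, hc, sat_hat.z_self])
    refine CfsgLib.Lie.Mult.Ladder.normalizer_of_le fun w hw => ?_
    obtain ⟨x, rfl⟩ := hw
    have hx : x ∈ (Subgroup.closure (Set.range (Pc.zen pcE 36 (dom j)) ∪
        Pc.gen pcE 36 (dom j) '' {i | (dom j).testBit i = true})) := by
      rw [Pc.closure_gen]; exact Subgroup.mem_top x
    induction hx using Subgroup.closure_induction with
    | one => simp [H.one_mem]
    | mul a b _ _ ha hb =>
      rw [map_mul, show g * (inc a * inc b) * g⁻¹ = g * inc a * g⁻¹ * (g * inc b * g⁻¹) by group]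
      exact mul_mem ha hb
    | inv a _ ha =>
      rw [map_inv, show g * (inc a)⁻¹ * g⁻¹ = (g * inc a * g⁻¹)⁻¹ by group]
      exact inv_mem ha
    | mem a ha =>
      rcases ha with ⟨b, rfl⟩ | ⟨i, hi, rfl⟩
      · rw [hincz, ← (sat_hat.zc b g).eq, mul_inv_cancel_right]; exact hzH b
      rw [hinc i hi, hginv, ← mul_assoc]
      refine mul_mem ?_ (hzH c)
      simp only [List.all_eq_true, List.mem_range, Bool.or_eq_true, Bool.not_eq_true'] at hnorm
      have h := ((hnorm e (full_lt hef)).resolve_left (by rw [show (outM j).testBit e = true from he]; simp) i (hlt i hi)).resolve_left (by rw [show (dom j).testBit i = true from hi]; simp)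
      have e1 := sat_hat.collect_spec 200 ((false, false), [e, i, e])
      rw [show g * Pc.gen pcE 36 full i * g = Pc.ev (Pc.gen pcE 36 full) (Pc.zen pcE 36 full) ((false, false), [e, i, e]) by
        simp [Pc.ev, sat_hat.z_zero, g, mul_assoc], ← e1]
      refine mul_mem (hzH _) (list_prod_mem fun y hy => ?_)
      obtain ⟨t, ht, rfl⟩ := List.mem_map.1 hy
      exact hgenH t (h t ht)
  have htop : H ⊔ X = ⊤ := by
    rw [eq_top_iff, ← Pc.closure_gen, Subgroup.closure_le]
    rintro _ (⟨b, rfl⟩ | ⟨a, ha, rfl⟩)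
    · exact Subgroup.mem_sup_left (hzH b)
    · rcases hsplit a ha with h | h
      · exact Subgroup.mem_sup_left (hgenH a h)
      · exact Subgroup.mem_sup_right (Subgroup.subset_closure ⟨a, h, rfl⟩)
  have hdec : ∀ A : Uhat, ∃ x ∈ H, ∃ y ∈ X, A = x * y := by
    intro A
    have hA : A ∈ ((H ⊔ X : Subgroup Uhat) : Set Uhat) := by rw [htop]; exact Subgroup.mem_top A
    rw [Subgroup.coe_mul_of_right_le_normalizer_left H X hnormH] at hA
    obtain ⟨x, hx, y, hy, e⟩ := hA
    exact ⟨x, hx, y, hy, e.symm⟩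
  -- the outside part cannot be moved into the positive part
  have hkeep : ∀ A : Uhat, n * pU F A * n⁻¹ ∈ Upos F → A ∈ H := by
    intro A hA
    obtain ⟨_, ⟨x, rfl⟩, y, hy, rfl⟩ := hdec A
    have h1 : n * pU F y * n⁻¹ ∈ Upos F := by
      have h0 : pU F (Φ x) ∈ Upos F := pU_range F ▸ ⟨_, rfl⟩
      have := mul_mem (inv_mem h0) hA
      rwa [hcov, map_mul, show (n * pU F (inc x) * n⁻¹)⁻¹ * (n * (pU F (inc x) * pU F y) * n⁻¹) =
        n * pU F y * n⁻¹ by group] at this
    have h2 : ((n * pU F y * n⁻¹ : ↥(twistedE6 K 2)) : GL chevE6.Idx K) ∈ chevE6.negUnipotent K := by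
      simp only [Subgroup.coe_mul, Subgroup.coe_inv]
      clear h1 hA
      induction hy using Subgroup.closure_induction with
      | one => simp
      | mul a b _ _ ha hb =>
        have := mul_mem ha hb
        rwa [show (n : GL chevE6.Idx K) * (pU F a : GL chevE6.Idx K) * (n : GL chevE6.Idx K)⁻¹ *
          ((n : GL chevE6.Idx K) * (pU F b : GL chevE6.Idx K) * (n : GL chevE6.Idx K)⁻¹) =
          (n : GL chevE6.Idx K) * ((pU F a * pU F b : ↥(twistedE6 K 2)) : GL chevE6.Idx K) * (n : GL chevE6.Idx K)⁻¹ by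
            rw [Subgroup.coe_mul]; group, ← map_mul] at this
      | inv a _ ha =>
        have := inv_mem ha
        rwa [show ((n : GL chevE6.Idx K) * (pU F a : GL chevE6.Idx K) * (n : GL chevE6.Idx K)⁻¹)⁻¹ =
          (n : GL chevE6.Idx K) * (((pU F a)⁻¹ : ↥(twistedE6 K 2)) : GL chevE6.Idx K) * (n : GL chevE6.Idx K)⁻¹ by
            rw [Subgroup.coe_inv]; group, ← map_inv] at this
      | mem a ha =>
        obtain ⟨e, he, rfl⟩ := ha
        rw [pU_gen F (hEf e he)]
        have hef := full_lt (hEf e he)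
        refine elP_mem F hef ((chevE6.negUnipotent K).comap (MulAut.conj (n : GL chevE6.Idx K)).toMonoidHom)
          fun p hp hp' => ?_
        show (n : GL chevE6.Idx K) * _ * _ ∈ chevE6.negUnipotent K
        simp only [List.all_eq_true, List.mem_range, Bool.or_eq_true, Bool.not_eq_true', Bool.and_eq_true,
          Nat.blt_eq, Nat.ble_eq] at hneg
        have h := ((hneg e hef).resolve_left (by rw [show (outM j).testBit e = true from he]; simp)) p (by simpa [wordW] using hp)
        rw [hn ⟨p.1, hp'⟩ p.2 (hr p.1 hp')]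
        refine C.G.xu_mem_V ((C.G.isNegRoot_iff_not_pos _).2 ?_) _
        rw [pos_half]
        simp only
        omega
    have h3 : n * pU F y * n⁻¹ = 1 := Subtype.ext (Subgroup.mem_bot.1
      (C.G.U_inf_V_eq (K := K) ▸ Subgroup.mem_inf.2 ⟨(mem_Upos_iff F).1 h1, h2⟩))
    obtain ⟨b, hb⟩ := pU_ker F (conj_eq_one_iff.1 h3)
    exact mul_mem ⟨x, rfl⟩ (hb ▸ hzH b)
  -- kernels
  have hker : ∀ x, pU F (inc x) = 1 → ∃ b, x = Pc.zen pcE 36 (dom j) b := by
    have hS' := Pc.sat_PG pcE hlt
    obtain ⟨hfin, hcard⟩ := Pc.card_le hS' hupS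
    rw [Pc.closure_gen] at hfin hcard
    haveI : Finite (Pc.PG pcE 36 (dom j)) := Set.finite_univ_iff.1 hfin
    rw [Subgroup.card_top] at hcard
    let f := (pU F).comp inc
    -- the image is large
    let XG : Subgroup ↥(twistedE6 K 2) := Subgroup.closure (elP F '' {e | (outM j).testBit e = true})
    have hsub' : (Upos F : Set ↥(twistedE6 K 2)) ⊆ (fun q => q.1 * q.2) '' ((f.range : Set ↥(twistedE6 K 2)) ×ˢ (XG : Set ↥(twistedE6 K 2))) := by
      intro g hg
      rw [SetLike.mem_coe, ← pU_range] at hg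
      obtain ⟨A, rfl⟩ := hg
      obtain ⟨_, ⟨x, rfl⟩, y, hy, rfl⟩ := hdec A
      refine ⟨(pU F (inc x), pU F y), ⟨⟨x, rfl⟩, ?_⟩, (map_mul _ _ _).symm⟩
      have hy' := Subgroup.mem_map_of_mem (pU F) hy
      rw [MonoidHom.map_closure] at hy'
      refine Subgroup.closure_mono ?_ hy'
      rintro _ ⟨_, ⟨e, he, rfl⟩, rfl⟩
      exact ⟨e, he, (pU_gen F (hEf e he)).symm⟩
    have hXG : Nat.card XG ≤ 2 ^ Pc.cnt 36 (outM j) 0 := by
      have h := (Pc.card_le SE hupE).2
      rw [Set.range_const, Set.ncard_singleton, one_mul] at h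
      refine le_trans (le_of_eq ?_) h
      congr 2
      rw [Subgroup.closure_union, Subgroup.closure_singleton_one, bot_sup_eq]
    have h1 := Set.ncard_le_ncard hsub' (Set.toFinite _)
    have h2 := Set.ncard_image_le (f := fun q : ↥(twistedE6 K 2) × ↥(twistedE6 K 2) => q.1 * q.2)
      (s := (f.range : Set ↥(twistedE6 K 2)) ×ˢ (XG : Set ↥(twistedE6 K 2))) (Set.toFinite _)
    rw [Set.ncard_prod] at h2
    simp only [← Nat.card_coe_set_eq, SetLike.coe_sort_coe] at h1 h2
    have hcnt' : Pc.cnt 36 (dom j) 0 + Pc.cnt 36 (outM j) 0 = 36 := Nat.eq_of_beq_eq_true hcnt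
    have h3 : 2 ^ Pc.cnt 36 (dom j) 0 ≤ Nat.card f.range := by
      refine Nat.le_of_mul_le_mul_right (?_ : _ * 2 ^ Pc.cnt 36 (outM j) 0 ≤ _ * 2 ^ Pc.cnt 36 (outM j) 0) (Nat.two_pow_pos _)
      rw [← pow_add, hcnt', ← card_Upos F]
      calc Nat.card (Upos F) ≤ _ := h1
        _ ≤ Nat.card f.range * Nat.card XG := h2
        _ ≤ _ := Nat.mul_le_mul_left _ hXG
    have hm := f.ker.card_mul_index
    rw [Subgroup.index_ker] at hm
    have hk : Nat.card f.ker ≤ (Set.range (Pc.zen pcE 36 (dom j))).ncard :=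
      Nat.le_of_mul_le_mul_right (hm.le.trans hcard |>.trans' (Nat.mul_le_mul_left _ h3)) (Nat.two_pow_pos _)
    have heq : Set.range (Pc.zen pcE 36 (dom j)) = (f.ker : Set _) := Set.eq_of_subset_of_ncard_le (by
      rintro _ ⟨b, rfl⟩
      show pU F (inc _) = 1
      rw [hincz, pU_zen]) (by rw [← Nat.card_coe_set_eq]; exact hk) (Set.toFinite _)
    intro x hx
    have : x ∈ (f.ker : Set _) := hx
    rw [← heq] at this
    obtain ⟨b, hb⟩ := this
    exact ⟨b, hb.symm⟩
  intro A B A' B' hc ha hb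
  obtain ⟨A0, rfl⟩ := hkeep A (ha ▸ pU_range F ▸ ⟨A', rfl⟩)
  obtain ⟨B0, rfl⟩ := hkeep B (hb ▸ pU_range F ▸ ⟨B', rfl⟩)
  obtain ⟨b, hb0⟩ := hker ⁅A0, B0⁆ (by
    rw [map_commutatorElement, map_commutatorElement, commutatorElement_eq_one_iff_mul_comm]; exact hc.eq)
  rw [hat_comm_congr F (A := Φ A0) (B := Φ B0) (by rw [ha, hcov]) (by rw [hb, hcov]),
    ← map_commutatorElement, ← map_commutatorElement, hb0, hΦz, hincz]

end CfsgLib.Lie.MultExc.TwESixTwo
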