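import Cfsg.Agent.Lib.Lie.MultExc.TwESixTwo.Table

/-!
Deductions of the central corrections, part 0.
-/

set_option autoImplicit false
set_option maxRecDepth 100000
set_option maxHeartbeats 0

open scoped IsMulCommutative

namespace CfsgLib.Lie.MultExc.TwESixTwo

/-- deductions -/
def steps0 : List Step := [
  ⟨[8, 40, 14], [0, 1, 1, 0, 2], [1, 0, 2, 0, 1, 2], 832, false, false⟩,
  ⟨[38, 40, 47], [0, 1, 0, 0, 1, 2], [1, 1, 2, 0, 1], 2846, false, false⟩,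
  ⟨[42, 47, 46], [0, 0, 1, 2, 1, 0], [1, 0, 1, 1, 2], 550, false, false⟩,
  ⟨[42, 11, 40], [0, 1, 1, 0, 2], [1, 0, 2, 0, 1, 2], 2315, false, false⟩,
  ⟨[42, 11, 41], [0, 1, 1, 0, 2], [1, 0, 2, 0, 1, 2], 2387, false, false⟩,
  ⟨[42, 38, 46], [0, 0, 1, 2, 1, 0], [1, 0, 1, 1, 2], 2206, false, false⟩,
  ⟨[42, 39, 46], [0, 0, 1, 2, 1, 0], [1, 0, 1, 1, 2], 2278, false, false⟩,
  ⟨[43, 39, 47], [0, 0, 1, 2, 1, 0], [1, 0, 1, 1, 2], 2207, false, false⟩,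
  ⟨[43, 42, 46], [0, 1, 1, 0, 2], [1, 0, 2, 0, 1, 2], 546, false, false⟩,
  ⟨[44, 47, 14], [0, 0, 1, 2, 1, 0], [1, 0, 1, 1, 2], 734, false, false⟩,
  ⟨[44, 47, 46], [0, 0, 1, 2, 1, 0], [1, 0, 1, 1, 2], 766, false, false⟩,
  ⟨[44, 8, 14], [0, 1, 0, 0, 1], [1, 1, 2, 0, 1, 2], 3179, false, false⟩,
  ⟨[44, 11, 40], [0, 1, 1, 0, 2], [1, 0, 2, 0, 1, 2], 2603, false, false⟩,
  ⟨[44, 11, 41], [0, 1, 1, 0, 2], [1, 0, 2, 0, 1, 2], 2675, false, false⟩,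
  ⟨[44, 38, 46], [0, 0, 1, 2, 1, 0], [1, 0, 1, 1, 2], 2494, false, false⟩,
  ⟨[44, 39, 46], [0, 0, 1, 2, 1, 0], [1, 0, 1, 1, 2], 2566, false, false⟩,
  ⟨[44, 43, 8], [0, 0, 1, 2, 1, 0], [1, 0, 1, 1, 2], 440, false, false⟩,
  ⟨[44, 43, 11], [0, 0, 1, 2, 1, 0], [1, 0, 1, 1, 2], 443, false, false⟩,
  ⟨[44, 43, 42], [0, 0, 1, 2, 1, 0], [1, 0, 1, 1, 2], 474, false, false⟩,
  ⟨[45, 47, 46], [0, 1, 1, 0, 2], [1, 0, 2, 0, 1, 2], 767, false, false⟩,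
  ⟨[45, 39, 47], [0, 0, 1, 2, 1, 0], [1, 0, 1, 1, 2], 2495, false, false⟩,
  ⟨[45, 44, 46], [0, 1, 1, 0, 2], [1, 0, 2, 0, 1, 2], 764, false, false⟩,
  ⟨[45, 44, 42], [0, 1, 1, 0, 2], [1, 0, 2, 0, 1, 2], 476, false, false⟩,
  ⟨[7, 39, 14], [0, 1, 1, 0, 2], [1, 0, 2, 0, 1, 2], 759, false, false⟩,
  ⟨[7, 42, 38], [0, 1, 0, 0, 1, 2], [1, 1, 2, 0, 1], 2167, false, false⟩,
  ⟨[7, 44, 47], [0, 1, 0, 0, 1, 2], [1, 1, 2, 0, 1], 727, false, false⟩,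
  ⟨[7, 44, 43], [0, 1, 0, 0, 1, 2], [1, 1, 2, 0, 1], 439, false, false⟩,
  ⟨[7, 45, 14], [0, 1, 1, 0, 2], [1, 0, 2, 0, 1, 2], 765, false, false⟩,
  ⟨[10, 44, 38], [0, 1, 0, 0, 1, 2], [1, 1, 2, 0, 1], 2458, false, false⟩,
  ⟨[10, 44, 43], [0, 1, 0, 0, 1, 2], [1, 1, 2, 0, 1], 442, false, false⟩,
  ⟨[32, 38, 46], [0, 1, 1, 0, 2], [1, 0, 2, 0, 1, 2], 2198, false, false⟩,
  ⟨[32, 39, 40], [0, 0, 1, 2, 1, 0], [1, 0, 1, 1, 2], 328, false, false⟩,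
  ⟨[32, 39, 41], [0, 0, 1, 2, 1, 0], [1, 0, 1, 1, 2], 329, false, false⟩,
  ⟨[32, 39, 38], [0, 0, 1, 2, 1, 0], [1, 0, 1, 1, 2], 326, false, false⟩,
  ⟨[32, 42, 46], [0, 1, 1, 0, 2], [1, 0, 2, 0, 1, 2], 2202, false, false⟩,
  ⟨[32, 42, 41], [0, 1, 0, 0, 1, 2], [1, 1, 2, 0, 1], 2408, false, false⟩,
  ⟨[32, 42, 38], [0, 1, 0, 0, 1, 2], [1, 1, 2, 0, 1], 2192, false, false⟩,
  ⟨[32, 44, 8], [0, 0, 1, 2, 1, 0], [1, 0, 1, 1, 2], 2024, false, false⟩,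
  ⟨[32, 44, 42], [0, 0, 1, 2, 1, 0], [1, 0, 1, 1, 2], 2058, false, false⟩,
  ⟨[32, 7, 39], [0, 1, 1, 0, 2], [1, 0, 2, 0, 1, 2], 295, false, false⟩,
  ⟨[33, 39, 46], [0, 1, 1, 0, 2], [1, 0, 2, 0, 1, 2], 2271, false, false⟩,
  ⟨[33, 39, 47], [0, 1, 1, 0, 2], [1, 0, 2, 0, 1, 2], 2199, false, false⟩,
  ⟨[33, 42, 46], [0, 1, 1, 0, 2], [1, 0, 2, 0, 1, 2], 2274, false, false⟩,
  ⟨[33, 42, 39], [0, 1, 0, 0, 1, 2], [1, 1, 2, 0, 1], 2265, false, false⟩,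
  ⟨[33, 43, 47], [0, 1, 1, 0, 2], [1, 0, 2, 0, 1, 2], 2203, false, false⟩,
  ⟨[33, 43, 39], [0, 1, 0, 0, 1, 2], [1, 1, 2, 0, 1], 2193, false, false⟩,
  ⟨[33, 44, 8], [0, 0, 1, 2, 1, 0], [1, 0, 1, 1, 2], 2096, false, false⟩,
  ⟨[33, 32, 38], [0, 1, 1, 0, 2], [1, 0, 2, 0, 1, 2], 320, false, false⟩,
  ⟨[36, 38, 46], [0, 1, 1, 0, 2], [1, 0, 2, 0, 1, 2], 2486, false, false⟩,
  ⟨[36, 39, 14], [0, 0, 1, 2, 1, 0], [1, 0, 1, 1, 2], 374, false, false⟩,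
  ⟨[36, 39, 40], [0, 0, 1, 2, 1, 0], [1, 0, 1, 1, 2], 400, false, false⟩,
  ⟨[36, 39, 41], [0, 0, 1, 2, 1, 0], [1, 0, 1, 1, 2], 401, false, false⟩,
  ⟨[36, 39, 38], [0, 0, 1, 2, 1, 0], [1, 0, 1, 1, 2], 398, false, false⟩,
  ⟨[36, 44, 46], [0, 1, 1, 0, 2], [1, 0, 2, 0, 1, 2], 2492, false, false⟩,
  ⟨[36, 44, 38], [0, 1, 0, 0, 1, 2], [1, 1, 2, 0, 1], 2484, false, false⟩,
  ⟨[36, 44, 42], [0, 1, 1, 0, 2], [1, 0, 2, 0, 1, 2], 2060, false, false⟩,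
  ⟨[36, 10, 39], [0, 1, 1, 0, 2], [1, 0, 2, 0, 1, 2], 370, false, false⟩,
  ⟨[36, 32, 42], [0, 1, 1, 0, 2], [1, 0, 2, 0, 1, 2], 2048, false, false⟩,
  ⟨[36, 32, 44], [0, 1, 0, 0, 1, 2], [1, 1, 2, 0, 1], 2052, false, false⟩,
  ⟨[36, 33, 40], [0, 0, 1, 2, 1, 0], [1, 0, 1, 1, 2], 256, false, false⟩,
  ⟨[36, 33, 8], [0, 0, 1, 2, 1, 0], [1, 0, 1, 1, 2], 224, false, false⟩,
  ⟨[36, 33, 11], [0, 0, 1, 2, 1, 0], [1, 0, 1, 1, 2], 227, false, false⟩,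
  ⟨[36, 33, 32], [0, 0, 1, 2, 1, 0], [1, 0, 1, 1, 2], 248, false, false⟩,
  ⟨[37, 39, 46], [0, 1, 1, 0, 2], [1, 0, 2, 0, 1, 2], 2559, false, false⟩,
  ⟨[37, 39, 47], [0, 1, 1, 0, 2], [1, 0, 2, 0, 1, 2], 2487, false, false⟩,
  ⟨[37, 39, 38], [0, 1, 1, 0, 2], [1, 0, 2, 0, 1, 2], 399, false, false⟩,
  ⟨[37, 44, 46], [0, 1, 1, 0, 2], [1, 0, 2, 0, 1, 2], 2564, false, false⟩,
  ⟨[37, 44, 39], [0, 1, 0, 0, 1, 2], [1, 1, 2, 0, 1], 2557, false, false⟩,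
  ⟨[37, 45, 47], [0, 1, 1, 0, 2], [1, 0, 2, 0, 1, 2], 2493, false, false⟩,
  ⟨[37, 45, 39], [0, 1, 0, 0, 1, 2], [1, 1, 2, 0, 1], 2485, false, false⟩,
  ⟨[37, 45, 43], [0, 1, 1, 0, 2], [1, 0, 2, 0, 1, 2], 2061, false, false⟩,
  ⟨[37, 33, 43], [0, 1, 1, 0, 2], [1, 0, 2, 0, 1, 2], 2049, false, false⟩,
  ⟨[37, 33, 32], [0, 1, 1, 0, 2], [1, 0, 2, 0, 1, 2], 249, false, false⟩,
  ⟨[37, 36, 38], [0, 1, 1, 0, 2], [1, 0, 2, 0, 1, 2], 396, false, false⟩,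
  ⟨[37, 36, 32], [0, 1, 1, 0, 2], [1, 0, 2, 0, 1, 2], 252, false, false⟩,
  ⟨[30, 8, 41], [0, 1, 1, 0, 2], [1, 0, 2, 0, 1, 2], 296, false, false⟩,
  ⟨[30, 33, 41], [0, 1, 1, 0, 2], [1, 0, 2, 0, 1, 2], 321, false, false⟩,
  ⟨[30, 36, 40], [0, 0, 1, 2, 1, 0], [1, 0, 1, 1, 2], 1768, false, false⟩,
  ⟨[30, 36, 38], [0, 0, 1, 2, 1, 0], [1, 0, 1, 1, 2], 1766, false, false⟩,
  ⟨[30, 36, 32], [0, 0, 1, 2, 1, 0], [1, 0, 1, 1, 2], 1760, false, false⟩,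
  ⟨[31, 37, 39], [0, 0, 1, 2, 1, 0], [1, 0, 1, 1, 2], 1767, false, false⟩,
  ⟨[31, 37, 33], [0, 0, 1, 2, 1, 0], [1, 0, 1, 1, 2], 1761, false, false⟩,
  ⟨[31, 30, 40], [0, 1, 1, 0, 2], [1, 0, 2, 0, 1, 2], 318, false, false⟩,
  ⟨[34, 11, 41], [0, 1, 1, 0, 2], [1, 0, 2, 0, 1, 2], 371, false, false⟩,
  ⟨[34, 36, 32], [0, 1, 1, 0, 2], [1, 0, 2, 0, 1, 2], 1764, false, false⟩,
  ⟨[34, 37, 41], [0, 1, 1, 0, 2], [1, 0, 2, 0, 1, 2], 397, false, false⟩,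
  ⟨[34, 30, 32], [0, 1, 1, 0, 2], [1, 0, 2, 0, 1, 2], 1758, false, false⟩,
  ⟨[34, 30, 36], [0, 1, 0, 0, 1, 2], [1, 1, 2, 0, 1], 1762, false, false⟩,
  ⟨[34, 31, 46], [0, 0, 1, 2, 1, 0], [1, 0, 1, 1, 2], 190, false, false⟩,
  ⟨[34, 31, 7], [0, 0, 1, 2, 1, 0], [1, 0, 1, 1, 2], 151, false, false⟩,
  ⟨[34, 31, 10], [0, 0, 1, 2, 1, 0], [1, 0, 1, 1, 2], 154, false, false⟩,
  ⟨[35, 37, 33], [0, 1, 1, 0, 2], [1, 0, 2, 0, 1, 2], 1765, false, false⟩,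
  ⟨[35, 31, 33], [0, 1, 1, 0, 2], [1, 0, 2, 0, 1, 2], 1759, false, false⟩,
  ⟨[35, 31, 37], [0, 1, 0, 0, 1, 2], [1, 1, 2, 0, 1], 1763, false, false⟩,
  ⟨[35, 34, 40], [0, 1, 1, 0, 2], [1, 0, 2, 0, 1, 2], 394, false, false⟩,
  ⟨[6, 32, 44], [0, 1, 0, 0, 1, 2], [1, 1, 2, 0, 1], 2022, false, false⟩,
  ⟨[6, 36, 33], [0, 1, 0, 0, 1, 2], [1, 1, 2, 0, 1], 222, false, false⟩,
  ⟨[6, 34, 31], [0, 1, 0, 0, 1, 2], [1, 1, 2, 0, 1], 150, false, false⟩,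
  ⟨[4, 46, 14], [0, 1, 1, 0, 2], [1, 0, 2, 0, 1, 2], 406, false, false⟩,
  ⟨[4, 47, 14], [0, 1, 1, 0, 2], [1, 0, 2, 0, 1, 2], 407, false, false⟩,
  ⟨[4, 36, 46], [0, 1, 0, 0, 1], [1, 1, 2, 0, 1, 2], 322, false, false⟩,
  ⟨[4, 36, 39], [0, 1, 0, 0, 1, 2], [1, 1, 2, 0, 1], 364, false, false⟩,
  ⟨[4, 36, 10], [0, 1, 1, 0, 2], [1, 0, 2, 0, 1, 2], 180, false, false⟩,
  ⟨[4, 36, 33], [0, 1, 0, 0, 1, 2], [1, 1, 2, 0, 1], 220, false, false⟩,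
  ⟨[4, 37, 11], [0, 1, 1, 0, 2], [1, 0, 2, 0, 1, 2], 253, false, false⟩,
  ⟨[4, 37, 10], [0, 1, 1, 0, 2], [1, 0, 2, 0, 1, 2], 181, false, false⟩,
  ⟨[4, 30, 36], [0, 1, 0, 0, 1, 2], [1, 1, 2, 0, 1], 1732, false, false⟩,
  ⟨[4, 34, 31], [0, 1, 0, 0, 1, 2], [1, 1, 2, 0, 1], 148, false, false⟩,
  ⟨[4, 35, 14], [0, 1, 1, 0, 2], [1, 0, 2, 0, 1, 2], 395, false, false⟩,
  ⟨[4, 6, 36], [0, 0, 1, 2, 1, 0], [1, 0, 1, 1, 2], 36, false, false⟩,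
  ⟨[4, 6, 34], [0, 0, 1, 2, 1, 0], [1, 0, 1, 1, 2], 34, false, false⟩,
  ⟨[4, 6, 35], [0, 0, 1, 2, 1, 0], [1, 0, 1, 1, 2], 35, false, false⟩,
  ⟨[5, 7, 44], [0, 0, 1, 2, 1, 0], [1, 0, 1, 1, 2], 188, false, false⟩,
  ⟨[5, 32, 7], [0, 1, 1, 0, 2], [1, 0, 2, 0, 1, 2], 176, false, false⟩,
  ⟨[5, 36, 33], [0, 1, 0, 0, 1, 2], [1, 1, 2, 0, 1], 221, false, false⟩,
  ⟨[5, 6, 14], [0, 0, 1, 2, 1, 0], [1, 0, 1, 1, 2], 86, false, false⟩,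
  ⟨[5, 6, 46], [0, 0, 1, 2, 1, 0], [1, 0, 1, 1, 2], 118, false, false⟩,
  ⟨[5, 6, 11], [0, 0, 1, 2, 1, 0], [1, 0, 1, 1, 2], 83, false, false⟩,
  ⟨[5, 6, 44], [0, 0, 1, 2, 1, 0], [1, 0, 1, 1, 2], 116, false, false⟩,
  ⟨[5, 6, 10], [0, 0, 1, 2, 1, 0], [1, 0, 1, 1, 2], 82, false, false⟩,
  ⟨[5, 6, 32], [0, 0, 1, 2, 1, 0], [1, 0, 1, 1, 2], 104, false, false⟩,
  ⟨[5, 6, 33], [0, 0, 1, 2, 1, 0], [1, 0, 1, 1, 2], 105, false, false⟩,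
  ⟨[5, 6, 30], [0, 0, 1, 2, 1, 0], [1, 0, 1, 1, 2], 102, false, false⟩,
  ⟨[5, 6, 31], [0, 0, 1, 2, 1, 0], [1, 0, 1, 1, 2], 103, false, false⟩,
  ⟨[5, 6, 34], [0, 0, 1, 2, 1, 0], [1, 0, 1, 1, 2], 106, false, false⟩,
  ⟨[28, 46, 14], [0, 0, 1, 2, 1, 0], [1, 0, 1, 1, 2], 1886, false, false⟩,
  ⟨[28, 41, 14], [0, 0, 1, 2, 1, 0], [1, 0, 1, 1, 2], 230, false, false⟩,
  ⟨[28, 36, 33], [0, 1, 0, 0, 1, 2], [1, 1, 2, 0, 1], 244, false, false⟩,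
  ⟨[28, 31, 10], [0, 0, 1, 2, 1, 0], [1, 0, 1, 1, 2], 10, false, false⟩,
  ⟨[28, 35, 7], [0, 0, 1, 2, 1, 0], [1, 0, 1, 1, 2], 79, false, false⟩,
  ⟨[28, 6, 35], [0, 1, 1, 0, 2], [1, 0, 2, 0, 1, 2], 78, false, false⟩,
  ⟨[28, 4, 10], [0, 1, 0, 0, 1, 2], [1, 1, 2, 0, 1], 172, false, false⟩,
  ⟨[28, 4, 35], [0, 1, 1, 0, 2], [1, 0, 2, 0, 1, 2], 76, false, false⟩,
  ⟨[28, 5, 31], [0, 1, 1, 0, 2], [1, 0, 2, 0, 1, 2], 5, false, false⟩,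
  ⟨[28, 5, 35], [0, 1, 1, 0, 2], [1, 0, 2, 0, 1, 2], 77, false, false⟩,
  ⟨[29, 28, 34], [0, 1, 1, 0, 2], [1, 0, 2, 0, 1, 2], 100, false, false⟩,
  ⟨[26, 39, 14], [0, 0, 1, 2, 1, 0], [1, 0, 1, 1, 2], 158, false, false⟩,
  ⟨[26, 33, 11], [0, 0, 1, 2, 1, 0], [1, 0, 1, 1, 2], 11, false, false⟩,
  ⟨[26, 37, 8], [0, 0, 1, 2, 1, 0], [1, 0, 1, 1, 2], 80, false, false⟩,
  ⟨[26, 30, 36], [0, 1, 0, 0, 1, 2], [1, 1, 2, 0, 1], 1754, false, false⟩,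
  ⟨[26, 26, 40], [0], [1, 1, 2, 0, 2, 0, 1], 1752, false, false⟩,
  ⟨[3, 7, 38], [0, 0, 1, 2, 1, 0], [1, 0, 1, 1, 2], 38, false, false⟩,
  ⟨[3, 7, 44], [0, 0, 1, 2, 1, 0], [1, 0, 1, 1, 2], 44, false, false⟩,
  ⟨[3, 10, 38], [0, 0, 1, 2, 1, 0], [1, 0, 1, 1, 2], 110, false, false⟩,
  ⟨[3, 10, 39], [0, 0, 1, 2, 1, 0], [1, 0, 1, 1, 2], 111, false, false⟩,
  ⟨[3, 10, 42], [0, 0, 1, 2, 1, 0], [1, 0, 1, 1, 2], 114, false, false⟩,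
  ⟨[3, 34, 31], [0, 1, 0, 0, 1, 2], [1, 1, 2, 0, 1], 147, false, false⟩,
  ⟨[3, 5, 6], [0, 1, 0, 0, 1, 2], [1, 1, 2, 0, 1], 75, false, false⟩,
  ⟨[24, 34, 31], [0, 1, 0, 0, 1, 2], [1, 1, 2, 0, 1], 168, false, false⟩,
  ⟨[25, 24, 44], [0, 1, 1, 0, 2], [1, 0, 2, 0, 1, 2], 96, false, false⟩,
  ⟨[2, 8, 40], [0, 0, 1, 2, 1, 0], [1, 0, 1, 1, 2], 40, false, false⟩,
  ⟨[2, 8, 41], [0, 0, 1, 2, 1, 0], [1, 0, 1, 1, 2], 41, false, false⟩,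
  ⟨[2, 5, 6], [0, 1, 0, 0, 1, 2], [1, 1, 2, 0, 1], 74, false, false⟩,
  ⟨[0, 5, 6], [0, 1, 0, 0, 1, 2], [1, 1, 2, 0, 1], 72, false, false⟩,
  ⟨[0, 0, 14], [0], [1, 1, 2, 0, 2, 0, 1], 73, false, false⟩,
  ⟨[28, 59, 58], [0, 0, 1, 2, 1, 0], [1, 0, 1, 1, 2], 634, false, false⟩,
  ⟨[28, 38, 1], [0, 0, 1, 2, 1, 0], [1, 0, 1, 1, 2], 1729, false, false⟩,
  ⟨[29, 28, 58], [0, 1, 1, 0, 2], [1, 0, 2, 0, 1, 2], 604, false, false⟩,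
  ⟨[54, 28, 58], [0, 0, 1, 2, 1, 0], [1, 0, 1, 1, 2], 2362, false, false⟩,
  ⟨[54, 29, 59], [0, 0, 1, 2, 1, 0], [1, 0, 1, 1, 2], 2435, false, false⟩,
  ⟨[55, 38, 58], [0, 1, 0, 0, 1], [1, 1, 2, 0, 1, 2], 4014, false, false⟩,
  ⟨[55, 28, 58], [0, 0, 1, 2, 1, 0], [1, 0, 1, 1, 2], 2434, false, false⟩,
  ⟨[23, 38, 58], [0, 1, 0, 0, 1], [1, 1, 2, 0, 1, 2], 1710, false, false⟩,
  ⟨[23, 38, 1], [0, 1, 1, 0, 2], [1, 0, 2, 0, 1, 2], 1046, false, false⟩,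
  ⟨[23, 39, 58], [0, 1, 0, 0, 1], [1, 1, 2, 0, 1, 2], 1711, false, false⟩,
  ⟨[8, 23, 58], [0, 0, 1, 2, 1, 0], [1, 0, 1, 1, 2], 1570, false, false⟩,
  ⟨[8, 23, 59], [0, 0, 1, 2, 1, 0], [1, 0, 1, 1, 2], 1571, false, false⟩,
  ⟨[8, 23, 54], [0, 0, 1, 2, 1, 0], [1, 0, 1, 1, 2], 1566, false, false⟩,
  ⟨[8, 23, 55], [0, 0, 1, 2, 1, 0], [1, 0, 1, 1, 2], 1567, false, false⟩,
  ⟨[24, 28, 58], [0, 1, 1, 0, 2], [1, 0, 2, 0, 1, 2], 2332, false, false⟩,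
  ⟨[24, 29, 59], [0, 1, 1, 0, 2], [1, 0, 2, 0, 1, 2], 2405, false, false⟩,
  ⟨[24, 54, 58], [0, 1, 1, 0, 2], [1, 0, 2, 0, 1, 2], 2358, false, false⟩,
  ⟨[24, 54, 59], [0, 1, 1, 0, 2], [1, 0, 2, 0, 1, 2], 2430, false, false⟩,
  ⟨[24, 54, 28], [0, 1, 0, 0, 1, 2], [1, 1, 2, 0, 1], 2328, false, false⟩,
  ⟨[24, 24, 58], [0], [1, 1, 2, 0, 2, 0, 1], 2336, false, false⟩,
  ⟨[24, 54, 29], [0, 1, 0, 0, 1, 2], [1, 1, 2, 0, 1], 2400, false, false⟩,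
  ⟨[24, 24, 59], [0], [1, 1, 2, 0, 2, 0, 1], 2409, false, false⟩,
  ⟨[24, 55, 54], [0, 0, 1, 2, 1, 0], [1, 0, 1, 1, 2], 342, false, false⟩,
  ⟨[25, 28, 58], [0, 1, 1, 0, 2], [1, 0, 2, 0, 1, 2], 2404, false, false⟩,
  ⟨[25, 55, 58], [0, 1, 1, 0, 2], [1, 0, 2, 0, 1, 2], 2431, false, false⟩,
  ⟨[25, 55, 28], [0, 1, 0, 0, 1, 2], [1, 1, 2, 0, 1], 2401, false, false⟩,
  ⟨[25, 24, 54], [0, 1, 1, 0, 2], [1, 0, 2, 0, 1, 2], 312, false, false⟩,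
  ⟨[14, 8, 1], [0, 0, 1, 2, 1, 0], [1, 0, 1, 1, 2], 793, false, false⟩,
  ⟨[14, 8, 28], [0, 0, 1, 2, 1, 0], [1, 0, 1, 1, 2], 820, false, false⟩,
  ⟨[14, 8, 29], [0, 0, 1, 2, 1, 0], [1, 0, 1, 1, 2], 821, false, false⟩,
  ⟨[14, 24, 8], [0, 1, 1, 0, 2], [1, 0, 2, 0, 1, 2], 816, false, false⟩,
  ⟨[32, 39, 1], [0, 0, 1, 2, 1, 0], [1, 0, 1, 1, 2], 289, false, false⟩,
  ⟨[64, 38, 1], [0, 0, 1, 2, 1, 0], [1, 0, 1, 1, 2], 4321, false, false⟩,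
  ⟨[64, 54, 58], [0, 0, 1, 2, 1, 0], [1, 0, 1, 1, 2], 4954, false, false⟩,
  ⟨[64, 55, 58], [0, 0, 1, 2, 1, 0], [1, 0, 1, 1, 2], 5026, false, false⟩,
  ⟨[64, 23, 59], [0, 1, 1, 0, 2], [1, 0, 2, 0, 1, 2], 1535, false, false⟩,
  ⟨[64, 23, 1], [0, 1, 0, 0, 1], [1, 1, 2, 0, 1, 2], 4622, false, false⟩,
  ⟨[64, 23, 38], [0, 1, 1, 0, 2], [1, 0, 2, 0, 1, 2], 4343, false, false⟩,
  ⟨[64, 23, 39], [0, 1, 1, 0, 2], [1, 0, 2, 0, 1, 2], 4415, false, false⟩,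
  ⟨[64, 23, 54], [0, 1, 1, 0, 2], [1, 0, 2, 0, 1, 2], 4919, false, false⟩,
  ⟨[64, 23, 55], [0, 1, 1, 0, 2], [1, 0, 2, 0, 1, 2], 4991, false, false⟩,
  ⟨[64, 8, 59], [0, 1, 1, 0, 2], [1, 0, 2, 0, 1, 2], 1520, false, false⟩,
  ⟨[8, 8, 23], [0], [1, 1, 2, 0, 2, 0, 1], 1533, false, false⟩,
  ⟨[64, 8, 29], [0, 1, 1, 0, 2], [1, 0, 2, 0, 1, 2], 800, false, false⟩,
  ⟨[64, 8, 23], [0, 1, 0, 0, 1, 2], [1, 1, 2, 0, 1], 1576, false, false⟩,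
  ⟨[64, 24, 1], [0, 0, 1, 2, 1, 0], [1, 0, 1, 1, 2], 2593, false, false⟩,
  ⟨[64, 24, 28], [0, 0, 1, 2, 1, 0], [1, 0, 1, 1, 2], 2620, false, false⟩,
  ⟨[64, 25, 1], [0, 0, 1, 2, 1, 0], [1, 0, 1, 1, 2], 2665, false, false⟩,
  ⟨[64, 25, 28], [0, 0, 1, 2, 1, 0], [1, 0, 1, 1, 2], 2692, false, false⟩,
  ⟨[64, 14, 38], [0, 1, 1, 0, 2], [1, 0, 2, 0, 1, 2], 4334, false, false⟩,
  ⟨[64, 14, 39], [0, 1, 1, 0, 2], [1, 0, 2, 0, 1, 2], 4406, false, false⟩,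
  ⟨[64, 14, 29], [0, 1, 1, 0, 2], [1, 0, 2, 0, 1, 2], 806, false, false⟩,
  ⟨[64, 32, 58], [0, 0, 1, 2, 1, 0], [1, 0, 1, 1, 2], 3658, false, false⟩,
  ⟨[64, 32, 1], [0, 0, 1, 2, 1, 0], [1, 0, 1, 1, 2], 3601, false, false⟩,
  ⟨[64, 32, 28], [0, 0, 1, 2, 1, 0], [1, 0, 1, 1, 2], 3628, false, false⟩,
  ⟨[64, 32, 8], [0, 0, 1, 2, 1, 0], [1, 0, 1, 1, 2], 3608, false, false⟩,
  ⟨[64, 33, 58], [0, 0, 1, 2, 1, 0], [1, 0, 1, 1, 2], 3730, false, false⟩,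
  ⟨[64, 33, 28], [0, 0, 1, 2, 1, 0], [1, 0, 1, 1, 2], 3700, false, false⟩,
  ⟨[65, 54, 59], [0, 0, 1, 2, 1, 0], [1, 0, 1, 1, 2], 5027, false, false⟩,
  ⟨[65, 23, 1], [0, 1, 0, 0, 1], [1, 1, 2, 0, 1, 2], 4694, false, false⟩,
  ⟨[65, 8, 23], [0, 1, 0, 0, 1, 2], [1, 1, 2, 0, 1], 1577, false, false⟩,
  ⟨[65, 24, 29], [0, 0, 1, 2, 1, 0], [1, 0, 1, 1, 2], 2693, false, false⟩,
  ⟨[65, 33, 59], [0, 0, 1, 2, 1, 0], [1, 0, 1, 1, 2], 3659, false, false⟩,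
  ⟨[65, 33, 29], [0, 0, 1, 2, 1, 0], [1, 0, 1, 1, 2], 3629, false, false⟩,
  ⟨[65, 64, 28], [0, 1, 1, 0, 2], [1, 0, 2, 0, 1, 2], 856, false, false⟩,
  ⟨[21, 54, 28], [0, 1, 0, 0, 1], [1, 1, 2, 0, 1, 2], 1544, false, false⟩,
  ⟨[21, 54, 29], [0, 1, 0, 0, 1], [1, 1, 2, 0, 1, 2], 1545, false, false⟩,
  ⟨[21, 14, 8], [0, 1, 0, 0, 1, 2], [1, 1, 2, 0, 1], 813, false, false⟩,
  ⟨[1, 1, 21], [0], [1, 1, 2, 0, 2, 0, 1], 803, false, false⟩,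
  ⟨[21, 64, 54], [0, 1, 0, 0, 1, 2], [1, 1, 2, 0, 1], 4917, false, false⟩,
  ⟨[21, 64, 55], [0, 1, 0, 0, 1, 2], [1, 1, 2, 0, 1], 4989, false, false⟩,
  ⟨[21, 64, 32], [0, 1, 0, 0, 1, 2], [1, 1, 2, 0, 1], 3621, false, false⟩,
  ⟨[21, 64, 33], [0, 1, 0, 0, 1, 2], [1, 1, 2, 0, 1], 3693, false, false⟩,
  ⟨[21, 65, 1], [0, 1, 1, 0, 2], [1, 0, 2, 0, 1, 2], 857, false, false⟩,
  ⟨[4, 23, 58], [0, 0, 1, 2, 1, 0], [1, 0, 1, 1, 2], 1282, false, false⟩,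
  ⟨[4, 23, 59], [0, 0, 1, 2, 1, 0], [1, 0, 1, 1, 2], 1283, false, false⟩,
  ⟨[4, 23, 38], [0, 0, 1, 2, 1, 0], [1, 0, 1, 1, 2], 1262, false, false⟩,
  ⟨[4, 23, 39], [0, 0, 1, 2, 1, 0], [1, 0, 1, 1, 2], 1263, false, false⟩,
  ⟨[4, 23, 54], [0, 0, 1, 2, 1, 0], [1, 0, 1, 1, 2], 1278, false, false⟩,
  ⟨[4, 23, 55], [0, 0, 1, 2, 1, 0], [1, 0, 1, 1, 2], 1279, false, false⟩,
  ⟨[4, 14, 1], [0, 0, 1, 2, 1, 0], [1, 0, 1, 1, 2], 361, false, false⟩,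
  ⟨[4, 14, 28], [0, 0, 1, 2, 1, 0], [1, 0, 1, 1, 2], 388, false, false⟩,
  ⟨[4, 14, 24], [0, 0, 1, 2, 1, 0], [1, 0, 1, 1, 2], 384, false, false⟩,
  ⟨[4, 21, 58], [0, 0, 1, 2, 1, 0], [1, 0, 1, 1, 2], 994, false, false⟩,
  ⟨[4, 21, 59], [0, 0, 1, 2, 1, 0], [1, 0, 1, 1, 2], 995, false, false⟩,
  ⟨[4, 21, 28], [0, 0, 1, 2, 1, 0], [1, 0, 1, 1, 2], 964, false, false⟩,
  ⟨[4, 21, 54], [0, 0, 1, 2, 1, 0], [1, 0, 1, 1, 2], 990, false, false⟩,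
  ⟨[4, 21, 55], [0, 0, 1, 2, 1, 0], [1, 0, 1, 1, 2], 991, false, false⟩,
  ⟨[4, 21, 8], [0, 0, 1, 2, 1, 0], [1, 0, 1, 1, 2], 944, false, false⟩,
  ⟨[4, 21, 32], [0, 0, 1, 2, 1, 0], [1, 0, 1, 1, 2], 968, false, false⟩,
  ⟨[4, 21, 33], [0, 0, 1, 2, 1, 0], [1, 0, 1, 1, 2], 969, false, false⟩,
  ⟨[60, 54, 58], [0, 1, 1, 0, 2], [1, 0, 2, 0, 1, 2], 4950, false, false⟩,
  ⟨[60, 54, 59], [0, 1, 1, 0, 2], [1, 0, 2, 0, 1, 2], 5022, false, false⟩,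
  ⟨[60, 23, 55], [0, 1, 1, 0, 2], [1, 0, 2, 0, 1, 2], 1247, false, false⟩,
  ⟨[60, 24, 28], [0, 1, 1, 0, 2], [1, 0, 2, 0, 1, 2], 2616, false, false⟩]

/-- masks before -/
def stA0 : ℕ × ℕ × ℕ := (0x300000000000000000000000000000000000000000000000000000000000000000000000000000000000000000000000000000000000000000000000000000000000000000000000c00000000000000000400000000000000000400000000000000000400000000000000000400000000000000000000000000000000000f00000000000000000400000000000000000400000000000000000000000000000000000f00000000000000000000000000000000000f000000000000000004504000100000000004504000100000000000000000000000000003fcf33000000000000000000000000000000000000000000000000000000000000000000000000000000000000000000000000000000000000000000000000000000000000000000000000000000000000000000000000000000000000000000400000000000000000000000000000000000000000000000000000000000000000000000000000000000000000800000000000000000800000000000000000800000000000000000c00000000000000000000000000000000000800000000000000000c00000000000000000c00000000000000000b202000000000000007bc000,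 0x0, 0x0)

/-- masks after -/
def stB0 : ℕ × ℕ × ℕ := (0xc40000000a00000000440000000a00000000000000000000000000000000000000000000000000000004000000000000000004000000000000000000000000000000000000000000000000000804000000000000000804002000000000000000000000000000000000000000000000000000000000000000000000000000040000000000000000000000000000000000000000000000000000000000000000000000400000010200000000c00000030200102000000000000000000300000000000000000000000000000000000000000000000000000000000000000000000000000000000000800000000000000000000000000000000000000000000000000000000c0000000000000000040000000400000000040000000000000000040000000003000080240000000001100080200000050a000000000f00000f0f000000400400cc0000333000800400440000111000800000000448200000000f00000ccc300000080000000000000000100f00000341300000140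4504000100000000004504000100000040000000000000000000003fcf3301ffc50000120000c0000000000000000000000000000000030cc0000300a00100000000000000000000000000000000000000000000000000000000000cc000c000800000000000000000000000000000000000000000000000004000400000000cc0000310000100000000000000000000030000010031204902000000f08000004080000000000000800000000400000010800000000000440000800000000000140000c00d80000000c3fc11004c12000040034741800182000000013310c04970000000503111c044d800000054c7d1b24fff000000135c007bcc20, 0x0, 0x0)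

theorem chain0_ok : (chainOK tab steps0 stA0.1 stA0.2.1 stA0.2.2 &&
    (learnAll steps0 stA0 == stB0) && (stA0.2.1 ||| stA0.1 == stA0.1) &&
    (stA0.2.2 ||| stA0.1 == stA0.1)) = true := by decide +kernel

theorem run0 {P : Type*} [Group P] (S : Sys tab P) {g h : Subgroup.center P} (hg : g * g = 1) (hh : h * h = 1)
    (H : S.Holds g h stA0.1 stA0.2.1 stA0.2.2) : S.Holds g h stB0.1 stB0.2.1 stB0.2.2 := by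
  have h' := chain0_ok
  simp only [Bool.and_eq_true, beq_iff_eq] at h'
  rw [← h'.1.1.2]
  exact S.chain_spec hg hh steps0 _ _ _ H h'.1.2 h'.2 h'.1.1.1

end CfsgLib.Lie.MultExc.TwESixTwo
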