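import Cfsg.Agent.Lib.Lie.MultExc.TwESixTwo.Table

/-!
Deductions of the central corrections, part 9.
-/

set_option autoImplicit false
set_option maxRecDepth 100000
set_option maxHeartbeats 0

open scoped IsMulCommutative

namespace CfsgLib.Lie.MultExc.TwESixTwo

/-- deductions -/
def steps9 : List Step := [
  ⟨[39, 59, 63], [0, 0, 1, 2, 2, 1, 0, 0, 1, 4], [1, 1, 2, 0, 1, 3, 3, 4, 1, 2, 3], 3951, false, false⟩,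
  ⟨[63, 31, 69], [0, 0, 1, 2, 2, 1, 0, 0, 1, 2, 2, 3, 4], [1, 1, 2, 0, 1, 1, 2, 3], 3381, false, false⟩,
  ⟨[18, 4, 23], [0, 0, 1, 2, 2, 1, 0, 0, 1, 4], [1, 1, 2, 0, 1, 3, 3, 4, 1, 2, 3], 1313, false, false⟩,
  ⟨[18, 4, 10], [0, 0, 1, 2, 2, 1, 0, 0, 1, 2, 2, 3, 4], [1, 1, 2, 0, 1, 1, 2, 3], 162, false, false⟩,
  ⟨[2, 22, 6], [0, 0, 1, 2, 2, 1, 0, 0, 1, 4], [1, 1, 2, 0, 1, 3, 3, 4, 1, 2, 3], 870, false, false⟩,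
  ⟨[18, 17, 10], [0, 0, 1, 2, 2, 1, 0, 0, 1, 2, 2, 3, 4], [1, 1, 2, 0, 1, 1, 2, 3], 1098, false, false⟩,
  ⟨[21, 7, 17], [0, 0, 1, 2, 2, 1, 0, 0, 1, 4], [1, 1, 2, 0, 1, 3, 3, 4, 1, 2, 3], 1524, false, false⟩,
  ⟨[70, 32, 46], [0, 0, 1, 2, 2, 1, 0, 0, 1, 2, 2, 3, 4], [1, 1, 2, 0, 1, 1, 2, 3], 4222, false, false⟩,
  ⟨[58, 62, 30], [0, 0, 1, 2, 2, 1, 0, 0, 1, 4], [1, 1, 2, 0, 1, 3, 3, 4, 1, 2, 3], 5070, false, false⟩,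
  ⟨[66, 52, 30], [0, 0, 1, 2, 2, 1, 0, 0, 1, 4], [1, 1, 2, 0, 1, 3, 3, 4, 1, 2, 3], 4794, false, false⟩,
  ⟨[70, 26, 54], [0, 0, 1, 2, 2, 1, 0, 0, 1, 2, 2, 3, 4], [1, 1, 2, 0, 1, 1, 2, 3], 3510, false, false⟩,
  ⟨[71, 33, 47], [0, 0, 1, 2, 2, 1, 0, 0, 1, 2, 2, 3, 4], [1, 1, 2, 0, 1, 1, 2, 3], 4223, false, false⟩,
  ⟨[71, 27, 55], [0, 0, 1, 2, 2, 1, 0, 0, 1, 2, 2, 3, 4], [1, 1, 2, 0, 1, 1, 2, 3], 3511, false, false⟩,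
  ⟨[0, 21, 10], [0, 0, 1, 2, 2, 1, 0, 0, 1, 4], [1, 1, 2, 0, 1, 3, 3, 4, 1, 2, 3], 586, false, false⟩,
  ⟨[3, 18, 17], [0, 0, 1, 2, 2, 1, 0, 0, 1, 4], [1, 1, 2, 0, 1, 3, 3, 4, 1, 2, 3], 593, false, false⟩,
  ⟨[9, 11, 17], [0, 0, 1, 2, 2, 1, 0, 0, 1, 4], [1, 1, 2, 0, 1, 3, 3, 4, 1, 2, 3], 664, false, false⟩,
  ⟨[9, 23, 3], [0, 0, 1, 2, 2, 1, 0, 0, 1, 4], [1, 1, 2, 0, 1, 3, 3, 4, 1, 2, 3], 1587, false, false⟩,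
  ⟨[21, 12, 3], [0, 0, 1, 2, 2, 1, 0, 0, 1, 4], [1, 1, 2, 0, 1, 3, 3, 4, 1, 2, 3], 1516, false, false⟩,
  ⟨[16, 18, 4], [0, 0, 1, 2, 2, 1, 0, 0, 1, 4], [1, 1, 2, 0, 1, 3, 3, 4, 1, 2, 3], 1161, false, false⟩,
  ⟨[2, 8, 17], [0, 0, 1, 2, 2, 1, 0, 0, 1, 4], [1, 1, 2, 0, 1, 3, 3, 4, 1, 2, 3], 157, false, false⟩,
  ⟨[54, 36, 70], [0, 0, 1, 2, 2, 1, 0, 0, 1, 4], [1, 1, 2, 0, 1, 3, 3, 4, 1, 2, 3], 3952, false, false⟩,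
  ⟨[55, 37, 71], [0, 0, 1, 2, 2, 1, 0, 0, 1, 4], [1, 1, 2, 0, 1, 3, 3, 4, 1, 2, 3], 4024, false, false⟩,
  ⟨[58, 60, 28], [0, 0, 1, 2, 2, 1, 0, 0, 1, 4], [1, 1, 2, 0, 1, 3, 3, 4, 1, 2, 3], 4212, false, false⟩,
  ⟨[58, 61, 28], [0, 0, 1, 2, 2, 1, 0, 0, 1, 4], [1, 1, 2, 0, 1, 3, 3, 4, 1, 2, 3], 4213, false, false⟩,
  ⟨[40, 70, 28], [0, 0, 1, 2, 2, 1, 0, 0, 1, 4], [1, 1, 2, 0, 1, 3, 3, 4, 1, 2, 3], 2932, false, false⟩,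
  ⟨[32, 60, 52], [0, 0, 1, 2, 2, 1, 0, 0, 1, 4], [1, 1, 2, 0, 1, 3, 3, 4, 1, 2, 3], 2368, false, false⟩,
  ⟨[16, 12, 8], [0, 0, 1, 2, 2, 1, 0, 0, 1, 4], [1, 1, 2, 0, 1, 3, 3, 4, 1, 2, 3], 1232, false, false⟩,
  ⟨[19, 17, 8], [0, 0, 1, 2, 2, 1, 0, 0, 1, 2, 2, 3, 4], [1, 1, 2, 0, 1, 1, 2, 3], 1664, false, false⟩,
  ⟨[13, 19, 12], [0, 0, 1, 2, 2, 1, 0, 0, 1, 2, 2, 3, 4], [1, 1, 2, 0, 1, 1, 2, 3], 1453, false, false⟩,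
  ⟨[34, 52, 66], [0, 0, 1, 2, 2, 1, 0, 0, 1, 4], [1, 1, 2, 0, 1, 3, 3, 4, 1, 2, 3], 3234, false, false⟩,
  ⟨[48, 36, 66], [0, 0, 1, 2, 2, 1, 0, 0, 1, 4], [1, 1, 2, 0, 1, 3, 3, 4, 1, 2, 3], 3516, false, false⟩,
  ⟨[48, 38, 64], [0, 0, 1, 2, 2, 1, 0, 0, 1, 4], [1, 1, 2, 0, 1, 3, 3, 4, 1, 2, 3], 3376, false, false⟩,
  ⟨[34, 53, 66], [0, 0, 1, 2, 2, 1, 0, 0, 1, 4], [1, 1, 2, 0, 1, 3, 3, 4, 1, 2, 3], 3306, false, false⟩,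
  ⟨[48, 37, 66], [0, 0, 1, 2, 2, 1, 0, 0, 1, 4], [1, 1, 2, 0, 1, 3, 3, 4, 1, 2, 3], 3517, false, false⟩,
  ⟨[48, 39, 64], [0, 0, 1, 2, 2, 1, 0, 0, 1, 4], [1, 1, 2, 0, 1, 3, 3, 4, 1, 2, 3], 3448, false, false⟩,
  ⟨[16, 20, 1], [0, 0, 1, 2, 2, 1, 0, 0, 1, 2, 2, 3, 4], [1, 1, 2, 0, 1, 1, 2, 3], 1657, false, false⟩,
  ⟨[44, 68, 46], [0, 0, 1, 2, 2, 1, 0, 0, 1, 4], [1, 1, 2, 0, 1, 3, 3, 4, 1, 2, 3], 4654, false, false⟩,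
  ⟨[60, 52, 46], [0, 0, 1, 2, 2, 1, 0, 0, 1, 4], [1, 1, 2, 0, 1, 3, 3, 4, 1, 2, 3], 4368, false, false⟩,
  ⟨[45, 69, 47], [0, 0, 1, 2, 2, 1, 0, 0, 1, 4], [1, 1, 2, 0, 1, 3, 3, 4, 1, 2, 3], 4655, false, false⟩,
  ⟨[61, 53, 47], [0, 0, 1, 2, 2, 1, 0, 0, 1, 4], [1, 1, 2, 0, 1, 3, 3, 4, 1, 2, 3], 4440, false, false⟩,
  ⟨[20, 4, 14], [0, 0, 1, 2, 2, 1, 0, 0, 1, 2, 2, 3, 4], [1, 1, 2, 0, 1, 1, 2, 3], 878, false, false⟩,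
  ⟨[60, 30, 70], [0, 0, 1, 2, 2, 1, 0, 0, 1, 4], [1, 1, 2, 0, 1, 3, 3, 4, 1, 2, 3], 4376, false, false⟩,
  ⟨[62, 40, 56], [0, 0, 1, 2, 2, 1, 0, 0, 1, 4], [1, 1, 2, 0, 1, 3, 3, 4, 1, 2, 3], 4518, false, false⟩,
  ⟨[60, 31, 70], [0, 0, 1, 2, 2, 1, 0, 0, 1, 4], [1, 1, 2, 0, 1, 3, 3, 4, 1, 2, 3], 4377, false, false⟩,
  ⟨[63, 41, 57], [0, 0, 1, 2, 2, 1, 0, 0, 1, 4], [1, 1, 2, 0, 1, 3, 3, 4, 1, 2, 3], 4590, false, false⟩,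
  ⟨[24, 58, 44], [0, 0, 1, 2, 2, 1, 0, 0, 1, 4], [1, 1, 2, 0, 1, 3, 3, 4, 1, 2, 3], 2348, false, false⟩,
  ⟨[42, 40, 44], [0, 0, 1, 2, 2, 1, 0, 0, 1, 4], [1, 1, 2, 0, 1, 3, 3, 4, 1, 2, 3], 3060, false, false⟩,
  ⟨[42, 64, 24], [0, 0, 1, 2, 2, 1, 0, 0, 1, 4], [1, 1, 2, 0, 1, 3, 3, 4, 1, 2, 3], 3768, false, false⟩,
  ⟨[44, 58, 24], [0, 0, 1, 2, 2, 1, 0, 0, 1, 4], [1, 1, 2, 0, 1, 3, 3, 4, 1, 2, 3], 3200, false, false⟩,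
  ⟨[26, 64, 32], [0, 0, 1, 2, 2, 1, 0, 0, 1, 4], [1, 1, 2, 0, 1, 3, 3, 4, 1, 2, 3], 1922, false, false⟩,
  ⟨[24, 52, 60], [0, 0, 1, 2, 2, 1, 0, 0, 1, 4], [1, 1, 2, 0, 1, 3, 3, 4, 1, 2, 3], 2076, false, false⟩,
  ⟨[24, 53, 60], [0, 0, 1, 2, 2, 1, 0, 0, 1, 4], [1, 1, 2, 0, 1, 3, 3, 4, 1, 2, 3], 2148, false, false⟩,
  ⟨[21, 4, 14], [0, 0, 1, 2, 2, 1, 0, 0, 1, 2, 2, 3, 4], [1, 1, 2, 0, 1, 1, 2, 3], 950, false, false⟩,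
  ⟨[21, 1, 17], [0, 0, 1, 2, 2, 1, 0, 0, 1, 2, 2, 3, 4], [1, 1, 2, 0, 1, 1, 2, 3], 809, false, false⟩,
  ⟨[22, 6, 16], [0, 0, 1, 2, 2, 1, 0, 0, 1, 4], [1, 1, 2, 0, 1, 3, 3, 4, 1, 2, 3], 1312, false, false⟩,
  ⟨[34, 43, 66], [0, 0, 1, 2, 2, 1, 0, 0, 1, 4], [1, 1, 2, 0, 1, 3, 3, 4, 1, 2, 3], 2505, false, false⟩,
  ⟨[15, 18, 4], [0, 0, 1, 2, 2, 1, 0, 0, 1, 4], [1, 1, 2, 0, 1, 3, 3, 4, 1, 2, 3], 1444, false, false⟩,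
  ⟨[15, 18, 4], [0, 0, 1, 2, 2, 1, 0, 0, 1, 2, 2, 3, 4], [1, 1, 2, 0, 1, 1, 2, 3], 663, false, false⟩,
  ⟨[30, 44, 66], [0, 0, 1, 2, 2, 1, 0, 0, 1, 4], [1, 1, 2, 0, 1, 3, 3, 4, 1, 2, 3], 2222, false, false⟩,
  ⟨[38, 42, 62], [0, 0, 1, 2, 2, 1, 0, 0, 1, 4], [1, 1, 2, 0, 1, 3, 3, 4, 1, 2, 3], 2784, false, false⟩,
  ⟨[30, 45, 66], [0, 0, 1, 2, 2, 1, 0, 0, 1, 4], [1, 1, 2, 0, 1, 3, 3, 4, 1, 2, 3], 2223, false, false⟩,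
  ⟨[34, 70, 40], [0, 0, 1, 2, 2, 1, 0, 0, 1, 4], [1, 1, 2, 0, 1, 3, 3, 4, 1, 2, 3], 4504, false, false⟩,
  ⟨[66, 44, 40], [0, 0, 1, 2, 2, 1, 0, 0, 1, 2, 2, 3, 4], [1, 1, 2, 0, 1, 1, 2, 3], 2658, false, false⟩,
  ⟨[34, 71, 40], [0, 0, 1, 2, 2, 1, 0, 0, 1, 4], [1, 1, 2, 0, 1, 3, 3, 4, 1, 2, 3], 4576, false, false⟩,
  ⟨[66, 45, 40], [0, 0, 1, 2, 2, 1, 0, 0, 1, 2, 2, 3, 4], [1, 1, 2, 0, 1, 1, 2, 3], 2730, false, false⟩,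
  ⟨[70, 36, 54], [0, 0, 1, 2, 2, 1, 0, 0, 1, 2, 2, 3, 4], [1, 1, 2, 0, 1, 1, 2, 3], 4662, false, false⟩,
  ⟨[64, 38, 58], [0, 0, 1, 2, 2, 1, 0, 0, 1, 4], [1, 1, 2, 0, 1, 3, 3, 4, 1, 2, 3], 4378, false, false⟩,
  ⟨[54, 62, 50], [0, 0, 1, 2, 2, 1, 0, 0, 1, 2, 2, 3, 4], [1, 1, 2, 0, 1, 1, 2, 3], 4802, false, false⟩,
  ⟨[54, 52, 60], [0, 0, 1, 2, 2, 1, 0, 0, 1, 2, 2, 3, 4], [1, 1, 2, 0, 1, 1, 2, 3], 4236, false, false⟩,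
  ⟨[58, 62, 40], [0, 0, 1, 2, 2, 1, 0, 0, 1, 4], [1, 1, 2, 0, 1, 3, 3, 4, 1, 2, 3], 5080, false, false⟩,
  ⟨[66, 36, 58], [0, 0, 1, 2, 2, 1, 0, 0, 1, 2, 2, 3, 4], [1, 1, 2, 0, 1, 1, 2, 3], 3666, false, false⟩,
  ⟨[71, 37, 55], [0, 0, 1, 2, 2, 1, 0, 0, 1, 2, 2, 3, 4], [1, 1, 2, 0, 1, 1, 2, 3], 4663, false, false⟩,
  ⟨[64, 39, 58], [0, 0, 1, 2, 2, 1, 0, 0, 1, 4], [1, 1, 2, 0, 1, 3, 3, 4, 1, 2, 3], 4450, false, false⟩,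
  ⟨[55, 63, 51], [0, 0, 1, 2, 2, 1, 0, 0, 1, 2, 2, 3, 4], [1, 1, 2, 0, 1, 1, 2, 3], 4803, false, false⟩,
  ⟨[55, 53, 61], [0, 0, 1, 2, 2, 1, 0, 0, 1, 2, 2, 3, 4], [1, 1, 2, 0, 1, 1, 2, 3], 4237, false, false⟩,
  ⟨[66, 37, 58], [0, 0, 1, 2, 2, 1, 0, 0, 1, 2, 2, 3, 4], [1, 1, 2, 0, 1, 1, 2, 3], 3738, false, false⟩,
  ⟨[56, 24, 68], [0, 0, 1, 2, 2, 1, 0, 0, 1, 4], [1, 1, 2, 0, 1, 3, 3, 4, 1, 2, 3], 4072, false, false⟩,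
  ⟨[68, 42, 62], [0, 0, 1, 2, 2, 1, 0, 0, 1, 2, 2, 3, 4], [1, 1, 2, 0, 1, 1, 2, 3], 4238, false, false⟩,
  ⟨[58, 60, 48], [0, 0, 1, 2, 2, 1, 0, 0, 1, 4], [1, 1, 2, 0, 1, 3, 3, 4, 1, 2, 3], 4944, false, false⟩,
  ⟨[64, 54, 48], [0, 0, 1, 2, 2, 1, 0, 0, 1, 4], [1, 1, 2, 0, 1, 3, 3, 4, 1, 2, 3], 4664, false, false⟩,
  ⟨[66, 50, 48], [0, 0, 1, 2, 2, 1, 0, 0, 1, 4], [1, 1, 2, 0, 1, 3, 3, 4, 1, 2, 3], 4804, false, false⟩,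
  ⟨[69, 43, 63], [0, 0, 1, 2, 2, 1, 0, 0, 1, 2, 2, 3, 4], [1, 1, 2, 0, 1, 1, 2, 3], 4239, false, false⟩,
  ⟨[58, 61, 48], [0, 0, 1, 2, 2, 1, 0, 0, 1, 4], [1, 1, 2, 0, 1, 3, 3, 4, 1, 2, 3], 5016, false, false⟩,
  ⟨[64, 55, 48], [0, 0, 1, 2, 2, 1, 0, 0, 1, 4], [1, 1, 2, 0, 1, 3, 3, 4, 1, 2, 3], 4665, false, false⟩,
  ⟨[66, 51, 48], [0, 0, 1, 2, 2, 1, 0, 0, 1, 4], [1, 1, 2, 0, 1, 3, 3, 4, 1, 2, 3], 4805, false, false⟩,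
  ⟨[50, 56, 44], [0, 0, 1, 2, 2, 1, 0, 0, 1, 2, 2, 3, 4], [1, 1, 2, 0, 1, 1, 2, 3], 3506, false, false⟩,
  ⟨[70, 26, 50], [0, 0, 1, 2, 2, 1, 0, 0, 1, 4], [1, 1, 2, 0, 1, 3, 3, 4, 1, 2, 3], 5068, false, false⟩,
  ⟨[64, 56, 28], [0, 0, 1, 2, 2, 1, 0, 0, 1, 4], [1, 1, 2, 0, 1, 3, 3, 4, 1, 2, 3], 4650, false, false⟩,
  ⟨[58, 62, 28], [0, 0, 1, 2, 2, 1, 0, 0, 1, 2, 2, 3, 4], [1, 1, 2, 0, 1, 1, 2, 3], 3226, false, false⟩,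
  ⟨[51, 57, 45], [0, 0, 1, 2, 2, 1, 0, 0, 1, 2, 2, 3, 4], [1, 1, 2, 0, 1, 1, 2, 3], 3507, false, false⟩,
  ⟨[71, 27, 51], [0, 0, 1, 2, 2, 1, 0, 0, 1, 4], [1, 1, 2, 0, 1, 3, 3, 4, 1, 2, 3], 5140, false, false⟩,
  ⟨[58, 63, 28], [0, 0, 1, 2, 2, 1, 0, 0, 1, 2, 2, 3, 4], [1, 1, 2, 0, 1, 1, 2, 3], 3298, false, false⟩,
  ⟨[23, 6, 13], [0, 0, 1, 2, 2, 1, 0, 0, 1, 2, 2, 3, 4], [1, 1, 2, 0, 1, 1, 2, 3], 1381, false, false⟩,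
  ⟨[48, 54, 64], [0, 0, 1, 2, 2, 1, 0, 0, 1, 4], [1, 1, 2, 0, 1, 3, 3, 4, 1, 2, 3], 4096, false, false⟩,
  ⟨[48, 55, 64], [0, 0, 1, 2, 2, 1, 0, 0, 1, 4], [1, 1, 2, 0, 1, 3, 3, 4, 1, 2, 3], 4168, false, false⟩,
  ⟨[6, 13, 20], [0, 0, 1, 2, 2, 1, 0, 0, 1, 2, 2, 3, 4], [1, 1, 2, 0, 1, 1, 2, 3], 1590, false, false⟩,
  ⟨[9, 23, 6], [0, 0, 1, 2, 2, 1, 0, 0, 1, 4], [1, 1, 2, 0, 1, 3, 3, 4, 1, 2, 3], 667, false, false⟩,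
  ⟨[14, 0, 20], [0, 0, 1, 2, 2, 1, 0, 0, 1, 4], [1, 1, 2, 0, 1, 3, 3, 4, 1, 2, 3], 1015, false, false⟩,
  ⟨[6, 5, 20], [0, 0, 1, 2, 2, 1, 0, 0, 1, 4], [1, 1, 2, 0, 1, 3, 3, 4, 1, 2, 3], 447, false, false⟩,
  ⟨[19, 0, 15], [0, 0, 1, 2, 2, 1, 0, 0, 1, 4], [1, 1, 2, 0, 1, 3, 3, 4, 1, 2, 3], 1370, false, false⟩,
  ⟨[11, 7, 23], [0, 0, 1, 2, 2, 1, 0, 0, 1, 4], [1, 1, 2, 0, 1, 3, 3, 4, 1, 2, 3], 812, false, false⟩,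
  ⟨[48, 60, 28], [0, 0, 1, 2, 2, 1, 0, 0, 1, 4], [1, 1, 2, 0, 1, 3, 3, 4, 1, 2, 3], 4492, false, false⟩,
  ⟨[26, 60, 52], [0, 0, 1, 2, 2, 1, 0, 0, 1, 4], [1, 1, 2, 0, 1, 3, 3, 4, 1, 2, 3], 2500, false, false⟩,
  ⟨[27, 61, 53], [0, 0, 1, 2, 2, 1, 0, 0, 1, 4], [1, 1, 2, 0, 1, 3, 3, 4, 1, 2, 3], 2501, false, false⟩,
  ⟨[21, 10, 3], [0, 0, 1, 2, 2, 1, 0, 0, 1, 2, 2, 3, 4], [1, 1, 2, 0, 1, 1, 2, 3], 1371, false, false⟩,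
  ⟨[14, 18, 3], [0, 0, 1, 2, 2, 1, 0, 0, 1, 4], [1, 1, 2, 0, 1, 3, 3, 4, 1, 2, 3], 1016, false, false⟩,
  ⟨[8, 23, 1], [0, 0, 1, 2, 2, 1, 0, 0, 1, 2, 2, 3, 4], [1, 1, 2, 0, 1, 1, 2, 3], 1513, false, false⟩,
  ⟨[21, 0, 14], [0, 0, 1, 2, 2, 1, 0, 0, 1, 4], [1, 1, 2, 0, 1, 3, 3, 4, 1, 2, 3], 590, false, false⟩,
  ⟨[8, 5, 19], [0, 0, 1, 2, 2, 1, 0, 0, 1, 4], [1, 1, 2, 0, 1, 3, 3, 4, 1, 2, 3], 235, false, false⟩,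
  ⟨[17, 10, 3], [0, 0, 1, 2, 2, 1, 0, 0, 1, 4], [1, 1, 2, 0, 1, 3, 3, 4, 1, 2, 3], 1225, false, false⟩,
  ⟨[4, 23, 1], [0, 0, 1, 2, 2, 1, 0, 0, 1, 4], [1, 1, 2, 0, 1, 3, 3, 4, 1, 2, 3], 302, false, false⟩,
  ⟨[62, 50, 38], [0, 0, 1, 2, 2, 1, 0, 0, 1, 4], [1, 1, 2, 0, 1, 3, 3, 4, 1, 2, 3], 4646, false, false⟩,
  ⟨[42, 64, 24], [0, 0, 1, 2, 2, 1, 0, 0, 1, 2, 2, 3, 4], [1, 1, 2, 0, 1, 1, 2, 3], 2634, false, false⟩,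
  ⟨[24, 52, 60], [0, 0, 1, 2, 2, 1, 0, 0, 1, 2, 2, 3, 4], [1, 1, 2, 0, 1, 1, 2, 3], 4632, false, false⟩,
  ⟨[60, 52, 24], [0, 0, 1, 2, 2, 1, 0, 0, 1, 4], [1, 1, 2, 0, 1, 3, 3, 4, 1, 2, 3], 4348, false, false⟩,
  ⟨[24, 53, 60], [0, 0, 1, 2, 2, 1, 0, 0, 1, 2, 2, 3, 4], [1, 1, 2, 0, 1, 1, 2, 3], 4704, false, false⟩,
  ⟨[64, 26, 40], [0, 0, 1, 2, 2, 1, 0, 0, 1, 4], [1, 1, 2, 0, 1, 3, 3, 4, 1, 2, 3], 3208, false, false⟩,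
  ⟨[34, 52, 40], [0, 0, 1, 2, 2, 1, 0, 0, 1, 4], [1, 1, 2, 0, 1, 3, 3, 4, 1, 2, 3], 2498, false, false⟩,
  ⟨[65, 27, 41], [0, 0, 1, 2, 2, 1, 0, 0, 1, 4], [1, 1, 2, 0, 1, 3, 3, 4, 1, 2, 3], 3209, false, false⟩,
  ⟨[35, 53, 41], [0, 0, 1, 2, 2, 1, 0, 0, 1, 4], [1, 1, 2, 0, 1, 3, 3, 4, 1, 2, 3], 2570, false, false⟩,
  ⟨[13, 14, 18], [0, 0, 1, 2, 2, 1, 0, 0, 1, 4], [1, 1, 2, 0, 1, 3, 3, 4, 1, 2, 3], 1170, false, false⟩,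
  ⟨[16, 18, 15], [0, 0, 1, 2, 2, 1, 0, 0, 1, 4], [1, 1, 2, 0, 1, 3, 3, 4, 1, 2, 3], 1527, false, false⟩,
  ⟨[22, 11, 15], [0, 0, 1, 2, 2, 1, 0, 0, 1, 4], [1, 1, 2, 0, 1, 3, 3, 4, 1, 2, 3], 1598, false, false⟩,
  ⟨[22, 5, 19], [0, 0, 1, 2, 2, 1, 0, 0, 1, 4], [1, 1, 2, 0, 1, 3, 3, 4, 1, 2, 3], 1243, false, false⟩,
  ⟨[42, 66, 24], [0, 0, 1, 2, 2, 1, 0, 0, 1, 4], [1, 1, 2, 0, 1, 3, 3, 4, 1, 2, 3], 4056, false, false⟩,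
  ⟨[46, 58, 24], [0, 0, 1, 2, 2, 1, 0, 0, 1, 4], [1, 1, 2, 0, 1, 3, 3, 4, 1, 2, 3], 3344, false, false⟩,
  ⟨[38, 50, 62], [0, 0, 1, 2, 2, 1, 0, 0, 1, 2, 2, 3, 4], [1, 1, 2, 0, 1, 1, 2, 3], 2942, false, false⟩,
  ⟨[36, 54, 62], [0, 0, 1, 2, 2, 1, 0, 0, 1, 2, 2, 3, 4], [1, 1, 2, 0, 1, 1, 2, 3], 4788, false, false⟩,
  ⟨[21, 4, 20], [0, 0, 1, 2, 2, 1, 0, 0, 1, 4], [1, 1, 2, 0, 1, 3, 3, 4, 1, 2, 3], 956, false, false⟩,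
  ⟨[58, 38, 48], [0, 0, 1, 2, 2, 1, 0, 0, 1, 4], [1, 1, 2, 0, 1, 3, 3, 4, 1, 2, 3], 3936, false, false⟩,
  ⟨[58, 39, 48], [0, 0, 1, 2, 2, 1, 0, 0, 1, 4], [1, 1, 2, 0, 1, 3, 3, 4, 1, 2, 3], 4008, false, false⟩,
  ⟨[54, 48, 60], [0, 0, 1, 2, 2, 1, 0, 0, 1, 4], [1, 1, 2, 0, 1, 3, 3, 4, 1, 2, 3], 4092, false, false⟩,
  ⟨[54, 49, 60], [0, 0, 1, 2, 2, 1, 0, 0, 1, 4], [1, 1, 2, 0, 1, 3, 3, 4, 1, 2, 3], 4164, false, false⟩,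
  ⟨[24, 48, 60], [0, 0, 1, 2, 2, 1, 0, 0, 1, 4], [1, 1, 2, 0, 1, 3, 3, 4, 1, 2, 3], 1932, false, false⟩,
  ⟨[26, 66, 36], [0, 0, 1, 2, 2, 1, 0, 0, 1, 4], [1, 1, 2, 0, 1, 3, 3, 4, 1, 2, 3], 3348, false, false⟩,
  ⟨[24, 49, 60], [0, 0, 1, 2, 2, 1, 0, 0, 1, 4], [1, 1, 2, 0, 1, 3, 3, 4, 1, 2, 3], 2004, false, false⟩,
  ⟨[27, 67, 37], [0, 0, 1, 2, 2, 1, 0, 0, 1, 4], [1, 1, 2, 0, 1, 3, 3, 4, 1, 2, 3], 3349, false, false⟩,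
  ⟨[24, 56, 60], [0, 0, 1, 2, 2, 1, 0, 0, 1, 4], [1, 1, 2, 0, 1, 3, 3, 4, 1, 2, 3], 2220, false, false⟩,
  ⟨[24, 57, 60], [0, 0, 1, 2, 2, 1, 0, 0, 1, 4], [1, 1, 2, 0, 1, 3, 3, 4, 1, 2, 3], 2292, false, false⟩,
  ⟨[4, 20, 1], [0, 0, 1, 2, 2, 1, 0, 0, 1, 4], [1, 1, 2, 0, 1, 3, 3, 4, 1, 2, 3], 865, false, false⟩,
  ⟨[1, 17, 7], [0, 0, 1, 2, 2, 1, 0, 0, 1, 2, 2, 3, 4], [1, 1, 2, 0, 1, 1, 2, 3], 367, false, false⟩,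
  ⟨[17, 19, 3], [0, 0, 1, 2, 2, 1, 0, 0, 1, 4], [1, 1, 2, 0, 1, 3, 3, 4, 1, 2, 3], 1659, false, false⟩,
  ⟨[70, 38, 44], [0, 0, 1, 2, 2, 1, 0, 0, 1, 2, 2, 3, 4], [1, 1, 2, 0, 1, 1, 2, 3], 4796, false, false⟩,
  ⟨[6, 15, 9], [0, 0, 1, 2, 2, 1, 0, 0, 1, 2, 2, 3, 4], [1, 1, 2, 0, 1, 1, 2, 3], 729, false, false⟩,
  ⟨[20, 1, 9], [0, 0, 1, 2, 2, 1, 0, 0, 1, 4], [1, 1, 2, 0, 1, 3, 3, 4, 1, 2, 3], 1440, false, false⟩,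
  ⟨[12, 16, 0], [0, 0, 1, 2, 2, 1, 0, 0, 1, 4], [1, 1, 2, 0, 1, 3, 3, 4, 1, 2, 3], 1224, false, false⟩,
  ⟨[24, 62, 54], [0, 0, 1, 2, 2, 1, 0, 0, 1, 4], [1, 1, 2, 0, 1, 3, 3, 4, 1, 2, 3], 2502, false, false⟩,
  ⟨[34, 68, 30], [0, 0, 1, 2, 2, 1, 0, 0, 1, 4], [1, 1, 2, 0, 1, 3, 3, 4, 1, 2, 3], 4350, false, false⟩,
  ⟨[66, 36, 30], [0, 0, 1, 2, 2, 1, 0, 0, 1, 4], [1, 1, 2, 0, 1, 3, 3, 4, 1, 2, 3], 4776, false, false⟩,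
  ⟨[66, 32, 34], [0, 0, 1, 2, 2, 1, 0, 0, 1, 4], [1, 1, 2, 0, 1, 3, 3, 4, 1, 2, 3], 3922, false, false⟩,
  ⟨[46, 36, 54], [0, 0, 1, 2, 2, 1, 0, 0, 1, 4], [1, 1, 2, 0, 1, 3, 3, 4, 1, 2, 3], 3352, false, false⟩,
  ⟨[24, 63, 54], [0, 0, 1, 2, 2, 1, 0, 0, 1, 4], [1, 1, 2, 0, 1, 3, 3, 4, 1, 2, 3], 2574, false, false⟩,
  ⟨[35, 69, 31], [0, 0, 1, 2, 2, 1, 0, 0, 1, 4], [1, 1, 2, 0, 1, 3, 3, 4, 1, 2, 3], 4351, false, false⟩,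
  ⟨[67, 37, 31], [0, 0, 1, 2, 2, 1, 0, 0, 1, 4], [1, 1, 2, 0, 1, 3, 3, 4, 1, 2, 3], 4848, false, false⟩,
  ⟨[67, 33, 35], [0, 0, 1, 2, 2, 1, 0, 0, 1, 4], [1, 1, 2, 0, 1, 3, 3, 4, 1, 2, 3], 3923, false, false⟩,
  ⟨[46, 37, 54], [0, 0, 1, 2, 2, 1, 0, 0, 1, 4], [1, 1, 2, 0, 1, 3, 3, 4, 1, 2, 3], 3353, false, false⟩,
  ⟨[8, 20, 1], [0, 0, 1, 2, 2, 1, 0, 0, 1, 4], [1, 1, 2, 0, 1, 3, 3, 4, 1, 2, 3], 1297, false, false⟩,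
  ⟨[5, 19, 12], [0, 0, 1, 2, 2, 1, 0, 0, 1, 4], [1, 1, 2, 0, 1, 3, 3, 4, 1, 2, 3], 1020, false, false⟩,
  ⟨[17, 0, 21], [0, 0, 1, 2, 2, 1, 0, 0, 1, 4], [1, 1, 2, 0, 1, 3, 3, 4, 1, 2, 3], 309, false, false⟩,
  ⟨[20, 4, 21], [0, 0, 1, 2, 2, 1, 0, 0, 1, 4], [1, 1, 2, 0, 1, 3, 3, 4, 1, 2, 3], 885, false, false⟩,
  ⟨[20, 13, 14], [0, 0, 1, 2, 2, 1, 0, 0, 1, 4], [1, 1, 2, 0, 1, 3, 3, 4, 1, 2, 3], 1456, false, false⟩,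
  ⟨[64, 42, 66], [0, 0, 1, 2, 2, 1, 0, 0, 1, 4], [1, 1, 2, 0, 1, 3, 3, 4, 1, 2, 3], 3810, false, false⟩,
  ⟨[64, 43, 66], [0, 0, 1, 2, 2, 1, 0, 0, 1, 4], [1, 1, 2, 0, 1, 3, 3, 4, 1, 2, 3], 3882, false, false⟩,
  ⟨[23, 8, 10], [0, 0, 1, 2, 2, 1, 0, 0, 1, 2, 2, 3, 4], [1, 1, 2, 0, 1, 1, 2, 3], 1522, false, false⟩,
  ⟨[23, 8, 10], [0, 0, 1, 2, 2, 1, 0, 0, 1, 4], [1, 1, 2, 0, 1, 3, 3, 4, 1, 2, 3], 1662, false, false⟩,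
  ⟨[14, 22, 6], [0, 0, 1, 2, 2, 1, 0, 0, 1, 4], [1, 1, 2, 0, 1, 3, 3, 4, 1, 2, 3], 1026, false, false⟩,
  ⟨[18, 16, 10], [0, 0, 1, 2, 2, 1, 0, 0, 1, 4], [1, 1, 2, 0, 1, 3, 3, 4, 1, 2, 3], 1310, false, false⟩,
  ⟨[14, 7, 21], [0, 0, 1, 2, 2, 1, 0, 0, 1, 2, 2, 3, 4], [1, 1, 2, 0, 1, 1, 2, 3], 741, false, false⟩,
  ⟨[20, 8, 14], [0, 0, 1, 2, 2, 1, 0, 0, 1, 4], [1, 1, 2, 0, 1, 3, 3, 4, 1, 2, 3], 1451, false, false⟩,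
  ⟨[28, 60, 48], [0, 0, 1, 2, 2, 1, 0, 0, 1, 2, 2, 3, 4], [1, 1, 2, 0, 1, 1, 2, 3], 2640, false, false⟩,
  ⟨[6, 5, 20], [0, 0, 1, 2, 2, 1, 0, 0, 1, 2, 2, 3, 4], [1, 1, 2, 0, 1, 1, 2, 3], 1086, false, false⟩,
  ⟨[17, 1, 20], [0, 0, 1, 2, 2, 1, 0, 0, 1, 2, 2, 3, 4], [1, 1, 2, 0, 1, 1, 2, 3], 737, false, false⟩,
  ⟨[26, 64, 38], [0, 0, 1, 2, 2, 1, 0, 0, 1, 4], [1, 1, 2, 0, 1, 3, 3, 4, 1, 2, 3], 3206, false, false⟩,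
  ⟨[44, 40, 46], [0, 0, 1, 2, 2, 1, 0, 0, 1, 4], [1, 1, 2, 0, 1, 3, 3, 4, 1, 2, 3], 2638, false, false⟩,
  ⟨[27, 65, 39], [0, 0, 1, 2, 2, 1, 0, 0, 1, 4], [1, 1, 2, 0, 1, 3, 3, 4, 1, 2, 3], 3207, false, false⟩,
  ⟨[44, 41, 46], [0, 0, 1, 2, 2, 1, 0, 0, 1, 4], [1, 1, 2, 0, 1, 3, 3, 4, 1, 2, 3], 2710, false, false⟩,
  ⟨[5, 19, 13], [0, 0, 1, 2, 2, 1, 0, 0, 1, 4], [1, 1, 2, 0, 1, 3, 3, 4, 1, 2, 3], 1021, false, false⟩,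
  ⟨[13, 1, 12], [0, 0, 1, 2, 2, 1, 0, 0, 1, 2, 2, 3, 4], [1, 1, 2, 0, 1, 1, 2, 3], 228, false, false⟩,
  ⟨[3, 22, 2], [0, 0, 1, 2, 2, 1, 0, 0, 1, 4], [1, 1, 2, 0, 1, 3, 3, 4, 1, 2, 3], 938, false, false⟩,
  ⟨[13, 7, 5], [0, 0, 1, 2, 2, 1, 0, 0, 1, 4], [1, 1, 2, 0, 1, 3, 3, 4, 1, 2, 3], 653, false, false⟩,
  ⟨[32, 70, 26], [0, 0, 1, 2, 2, 1, 0, 0, 1, 2, 2, 3, 4], [1, 1, 2, 0, 1, 1, 2, 3], 4202, false, false⟩,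
  ⟨[6, 4, 21], [0, 0, 1, 2, 2, 1, 0, 0, 1, 4], [1, 1, 2, 0, 1, 3, 3, 4, 1, 2, 3], 445, false, false⟩,
  ⟨[13, 19, 0], [0, 0, 1, 2, 2, 1, 0, 0, 1, 2, 2, 3, 4], [1, 1, 2, 0, 1, 1, 2, 3], 1512, false, false⟩,
  ⟨[13, 19, 0], [0, 0, 1, 2, 2, 1, 0, 0, 1, 4], [1, 1, 2, 0, 1, 3, 3, 4, 1, 2, 3], 942, false, false⟩,
  ⟨[9, 16, 6], [0, 0, 1, 2, 2, 1, 0, 0, 1, 4], [1, 1, 2, 0, 1, 3, 3, 4, 1, 2, 3], 659, false, false⟩,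
  ⟨[3, 22, 6], [0, 0, 1, 2, 2, 1, 0, 0, 1, 4], [1, 1, 2, 0, 1, 3, 3, 4, 1, 2, 3], 234, false, false⟩,
  ⟨[11, 22, 0], [0, 0, 1, 2, 2, 1, 0, 0, 1, 4], [1, 1, 2, 0, 1, 3, 3, 4, 1, 2, 3], 801, false, false⟩,
  ⟨[28, 68, 48], [0, 0, 1, 2, 2, 1, 0, 0, 1, 2, 2, 3, 4], [1, 1, 2, 0, 1, 1, 2, 3], 3648, false, false⟩,
  ⟨[28, 69, 48], [0, 0, 1, 2, 2, 1, 0, 0, 1, 2, 2, 3, 4], [1, 1, 2, 0, 1, 1, 2, 3], 3720, false, false⟩,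
  ⟨[18, 4, 23], [0, 0, 1, 2, 2, 1, 0, 0, 1, 2, 2, 3, 4], [1, 1, 2, 0, 1, 1, 2, 3], 1242, false, false⟩,
  ⟨[56, 50, 38], [0, 0, 1, 2, 2, 1, 0, 0, 1, 4], [1, 1, 2, 0, 1, 3, 3, 4, 1, 2, 3], 4214, false, false⟩,
  ⟨[38, 50, 56], [0, 0, 1, 2, 2, 1, 0, 0, 1, 2, 2, 3, 4], [1, 1, 2, 0, 1, 1, 2, 3], 2936, false, false⟩,
  ⟨[64, 46, 58], [0, 0, 1, 2, 2, 1, 0, 0, 1, 4], [1, 1, 2, 0, 1, 3, 3, 4, 1, 2, 3], 4522, false, false⟩,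
  ⟨[64, 47, 58], [0, 0, 1, 2, 2, 1, 0, 0, 1, 4], [1, 1, 2, 0, 1, 3, 3, 4, 1, 2, 3], 4594, false, false⟩,
  ⟨[7, 21, 1], [0, 0, 1, 2, 2, 1, 0, 0, 1, 4], [1, 1, 2, 0, 1, 3, 3, 4, 1, 2, 3], 515, false, false⟩,
  ⟨[6, 12, 14], [0, 0, 1, 2, 2, 1, 0, 0, 1, 4], [1, 1, 2, 0, 1, 3, 3, 4, 1, 2, 3], 518, false, false⟩,
  ⟨[32, 48, 68], [0, 0, 1, 2, 2, 1, 0, 0, 1, 4], [1, 1, 2, 0, 1, 3, 3, 4, 1, 2, 3], 3092, false, false⟩,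
  ⟨[52, 30, 68], [0, 0, 1, 2, 2, 1, 0, 0, 1, 2, 2, 3, 4], [1, 1, 2, 0, 1, 1, 2, 3], 3940, false, false⟩,
  ⟨[52, 30, 68], [0, 0, 1, 2, 2, 1, 0, 0, 1, 4], [1, 1, 2, 0, 1, 3, 3, 4, 1, 2, 3], 3798, false, false⟩,
  ⟨[54, 64, 42], [0, 0, 1, 2, 2, 1, 0, 0, 1, 2, 2, 3, 4], [1, 1, 2, 0, 1, 1, 2, 3], 4938, false, false⟩,
  ⟨[70, 40, 42], [0, 0, 1, 2, 2, 1, 0, 0, 1, 4], [1, 1, 2, 0, 1, 3, 3, 4, 1, 2, 3], 5072, false, false⟩,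
  ⟨[32, 64, 56], [0, 0, 1, 2, 2, 1, 0, 0, 1, 2, 2, 3, 4], [1, 1, 2, 0, 1, 1, 2, 3], 3656, false, false⟩,
  ⟨[56, 64, 32], [0, 0, 1, 2, 2, 1, 0, 0, 1, 4], [1, 1, 2, 0, 1, 3, 3, 4, 1, 2, 3], 4082, false, false⟩,
  ⟨[33, 49, 69], [0, 0, 1, 2, 2, 1, 0, 0, 1, 4], [1, 1, 2, 0, 1, 3, 3, 4, 1, 2, 3], 3093, false, false⟩,
  ⟨[53, 31, 69], [0, 0, 1, 2, 2, 1, 0, 0, 1, 2, 2, 3, 4], [1, 1, 2, 0, 1, 1, 2, 3], 3941, false, false⟩,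
  ⟨[53, 31, 69], [0, 0, 1, 2, 2, 1, 0, 0, 1, 4], [1, 1, 2, 0, 1, 3, 3, 4, 1, 2, 3], 3870, false, false⟩,
  ⟨[54, 65, 42], [0, 0, 1, 2, 2, 1, 0, 0, 1, 2, 2, 3, 4], [1, 1, 2, 0, 1, 1, 2, 3], 5010, false, false⟩,
  ⟨[70, 41, 42], [0, 0, 1, 2, 2, 1, 0, 0, 1, 4], [1, 1, 2, 0, 1, 3, 3, 4, 1, 2, 3], 5073, false, false⟩,
  ⟨[33, 65, 57], [0, 0, 1, 2, 2, 1, 0, 0, 1, 2, 2, 3, 4], [1, 1, 2, 0, 1, 1, 2, 3], 3657, false, false⟩,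
  ⟨[57, 65, 33], [0, 0, 1, 2, 2, 1, 0, 0, 1, 4], [1, 1, 2, 0, 1, 3, 3, 4, 1, 2, 3], 4154, false, false⟩,
  ⟨[4, 20, 16], [0, 0, 1, 2, 2, 1, 0, 0, 1, 4], [1, 1, 2, 0, 1, 3, 3, 4, 1, 2, 3], 880, false, false⟩,
  ⟨[46, 29, 70], [0, 0, 1, 2, 2, 1, 0, 0, 1, 4], [1, 1, 2, 0, 1, 3, 3, 4, 1, 2, 3], 3365, false, false⟩,
  ⟨[13, 2, 23], [0, 0, 1, 2, 2, 1, 0, 0, 1, 4], [1, 1, 2, 0, 1, 3, 3, 4, 1, 2, 3], 951, false, false⟩,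
  ⟨[22, 3, 15], [0, 0, 1, 2, 2, 1, 0, 0, 1, 4], [1, 1, 2, 0, 1, 3, 3, 4, 1, 2, 3], 1589, false, false⟩,
  ⟨[7, 21, 15], [0, 0, 1, 2, 2, 1, 0, 0, 1, 2, 2, 3, 4], [1, 1, 2, 0, 1, 1, 2, 3], 1663, false, false⟩,
  ⟨[22, 14, 7], [0, 0, 1, 2, 2, 1, 0, 0, 1, 2, 2, 3, 4], [1, 1, 2, 0, 1, 1, 2, 3], 742, false, false⟩,
  ⟨[23, 3, 12], [0, 0, 1, 2, 2, 1, 0, 0, 1, 2, 2, 3, 4], [1, 1, 2, 0, 1, 1, 2, 3], 1164, false, false⟩,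
  ⟨[5, 21, 12], [0, 0, 1, 2, 2, 1, 0, 0, 1, 4], [1, 1, 2, 0, 1, 3, 3, 4, 1, 2, 3], 382, false, false⟩,
  ⟨[5, 20, 13], [0, 0, 1, 2, 2, 1, 0, 0, 1, 4], [1, 1, 2, 0, 1, 3, 3, 4, 1, 2, 3], 1093, false, false⟩,
  ⟨[23, 2, 13], [0, 0, 1, 2, 2, 1, 0, 0, 1, 4], [1, 1, 2, 0, 1, 3, 3, 4, 1, 2, 3], 1660, false, false⟩,
  ⟨[19, 17, 7], [0, 0, 1, 2, 2, 1, 0, 0, 1, 4], [1, 1, 2, 0, 1, 3, 3, 4, 1, 2, 3], 1380, false, false⟩,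
  ⟨[23, 8, 5], [0, 0, 1, 2, 2, 1, 0, 0, 1, 4], [1, 1, 2, 0, 1, 3, 3, 4, 1, 2, 3], 1517, false, false⟩,
  ⟨[23, 28, 59], [0, 1, 0, 2, 1, 3, 2, 2, 1, 0, 0, 1, 2, 2, 3, 4], [1, 1, 2, 0, 1, 2, 3, 4, 1, 2, 3], 4667, false, false⟩,
  ⟨[71, 37, 59], [0, 0, 1, 2, 2, 1, 0, 0, 1, 2, 2, 3, 4], [1, 1, 2, 0, 1, 1, 2, 3], 3671, false, false⟩,
  ⟨[71, 33, 65], [0, 0, 1, 2, 2, 1, 0, 0, 1, 2, 2, 3, 4], [1, 1, 2, 0, 1, 1, 2, 3], 4241, false, false⟩,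
  ⟨[52, 54, 65], [0, 0, 1, 2, 2, 1, 0, 0, 1, 2, 2, 3, 4], [1, 1, 2, 0, 1, 1, 2, 3], 5020, false, false⟩,
  ⟨[71, 40, 52], [0, 0, 1, 2, 2, 1, 0, 0, 1, 4], [1, 1, 2, 0, 1, 3, 3, 4, 1, 2, 3], 5162, false, false⟩,
  ⟨[68, 44, 59], [0, 0, 1, 2, 2, 1, 0, 0, 1, 2, 2, 3, 4], [1, 1, 2, 0, 1, 1, 2, 3], 3884, false, false⟩,
  ⟨[58, 60, 53], [0, 0, 1, 2, 2, 1, 0, 0, 1, 4], [1, 1, 2, 0, 1, 3, 3, 4, 1, 2, 3], 4949, false, false⟩,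
  ⟨[53, 54, 64], [0, 0, 1, 2, 2, 1, 0, 0, 1, 2, 2, 3, 4], [1, 1, 2, 0, 1, 1, 2, 3], 4312, false, false⟩,
  ⟨[70, 33, 64], [0, 0, 1, 2, 2, 1, 0, 0, 1, 2, 2, 3, 4], [1, 1, 2, 0, 1, 1, 2, 3], 3742, false, false⟩,
  ⟨[70, 40, 53], [0, 0, 1, 2, 2, 1, 0, 0, 1, 4], [1, 1, 2, 0, 1, 3, 3, 4, 1, 2, 3], 5091, false, false⟩,
  ⟨[70, 37, 58], [0, 0, 1, 2, 2, 1, 0, 0, 1, 2, 2, 3, 4], [1, 1, 2, 0, 1, 1, 2, 3], 4738, false, false⟩,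
  ⟨[69, 44, 58], [0, 0, 1, 2, 2, 1, 0, 0, 1, 2, 2, 3, 4], [1, 1, 2, 0, 1, 1, 2, 3], 3813, false, false⟩,
  ⟨[24, 23, 55], [0, 1, 0, 2, 1, 3, 2, 2, 1, 1, 0, 2, 4], [1, 0, 2, 3, 4, 2, 3, 0, 1, 3, 1, 2, 3, 4], 4375, false, false⟩,
  ⟨[67, 37, 55], [0, 0, 1, 2, 2, 1, 0, 0, 1, 2, 2, 3, 4], [1, 1, 2, 0, 1, 1, 2, 3], 2947, false, false⟩,
  ⟨[40, 57, 60], [0, 0, 1, 2, 2, 1, 0, 0, 1, 4], [1, 1, 2, 0, 1, 3, 3, 4, 1, 2, 3], 4020, false, false⟩,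
  ⟨[55, 34, 68], [0, 0, 1, 2, 2, 1, 0, 0, 1, 4], [1, 1, 2, 0, 1, 3, 3, 4, 1, 2, 3], 2876, false, false⟩,
  ⟨[67, 24, 68], [0, 0, 1, 2, 2, 1, 0, 0, 1, 4], [1, 1, 2, 0, 1, 3, 3, 4, 1, 2, 3], 4864, false, false⟩,
  ⟨[40, 46, 69], [0, 0, 1, 2, 2, 1, 0, 0, 1, 2, 2, 3, 4], [1, 1, 2, 0, 1, 1, 2, 3], 2805, false, false⟩,
  ⟨[54, 34, 69], [0, 0, 1, 2, 2, 1, 0, 0, 1, 4], [1, 1, 2, 0, 1, 3, 3, 4, 1, 2, 3], 3949, false, false⟩,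
  ⟨[41, 57, 61], [0, 0, 1, 2, 2, 1, 0, 0, 1, 4], [1, 1, 2, 0, 1, 3, 3, 4, 1, 2, 3], 3018, false, false⟩,
  ⟨[66, 37, 54], [0, 0, 1, 2, 2, 1, 0, 0, 1, 2, 2, 3, 4], [1, 1, 2, 0, 1, 1, 2, 3], 4446, false, false⟩,
  ⟨[32, 14, 39], [0, 1, 0, 2, 1, 3, 2, 2, 1, 1, 0, 2, 4], [1, 0, 2, 3, 4, 2, 3, 0, 1, 3, 1, 2, 3, 4], 2631, false, false⟩,
  ⟨[34, 50, 39], [0, 0, 1, 2, 2, 1, 0, 0, 1, 4], [1, 1, 2, 0, 1, 3, 3, 4, 1, 2, 3], 2489, false, false⟩,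
  ⟨[34, 54, 37], [0, 0, 1, 2, 2, 1, 0, 0, 1, 4], [1, 1, 2, 0, 1, 3, 3, 4, 1, 2, 3], 2773, false, false⟩,
  ⟨[24, 66, 37], [0, 0, 1, 2, 2, 1, 0, 0, 1, 4], [1, 1, 2, 0, 1, 3, 3, 4, 1, 2, 3], 1789, false, false⟩,
  ⟨[24, 63, 40], [0, 0, 1, 2, 2, 1, 0, 0, 1, 4], [1, 1, 2, 0, 1, 3, 3, 4, 1, 2, 3], 2560, false, false⟩,
  ⟨[35, 50, 38], [0, 0, 1, 2, 2, 1, 0, 0, 1, 4], [1, 1, 2, 0, 1, 3, 3, 4, 1, 2, 3], 2702, false, false⟩,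
  ⟨[61, 28, 38], [0, 0, 1, 2, 2, 1, 0, 0, 1, 4], [1, 1, 2, 0, 1, 3, 3, 4, 1, 2, 3], 4416, false, false⟩]

/-- masks before -/
def stA9 : ℕ × ℕ × ℕ := (0xffefbba80000fff080ffdf77543000fff880ffbeec132210fffa00ff7ddc131110fffa00fefbc202c000fff030fdf7c101c400fff030fbf83e123000ffe800f7f43d313310ffe902eff227f0a408ffd040dff117705404ffd440bff088236402fbf0207ff074517c01fbf022fa0ffe0c0381ff3a80f50ffd3d0351ff3ac0ec8fe3cc82c8feb054dc4fd3cc4144feb0d4bc2fc8880042f7b0207c5fc445407df7b010e39e3f3d0230fd6a00d35d3f351530fd6e82b32cbc033212ef624073dc7c173331ef6b5bcacb33e000a8fcd880f5c733901154fcd08084a382000c4800400444d24354c0c59094c483603a00140a80040053d037541c1d884cca0100800000000000004105455441144001c0122088044100001000c50440044250001008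6c32c0c7eec30000834c7140c755414090b363b02c33ae33800c02537014135511000c220af000d2a009180042f5f000f1f51d180442600eec4fa37b001a10500d54475115000a10080242448209008010f407c1cdd34f028290020852020880000100f1057d35575f00014b4586210102001000004545020111001040000000000000000000003fdf7311ffc5002013ffffff137000fffc20ffffff4441c0ffbf90ffffff393310ff6b48fffff3cc0400fed684ffff3f743410ffcfe2ffcfffcc03d0fcbfc0ffffccc3d203f3fabcfffcfc133c20fbe93afff3c343e441fbdebffff03f50701cfbcc66ff3ffc0f4310ef3b3bfcffc3c5c001deb7bdc3cc3f31303dac6d3fcfe023f48c0c9ddcefcc0ccbc8024fe21705f005f42c3334fd2bfbcc0ff354034dde97d7c3cb15540010fc5fef3f70ccf3ff11b2dc3b3c03404f4751d2b7bf333cf401f313e36b7f0cf300533111d2dcdf03f01654c7d1bbcfff000ffc135c007ffc20, 0x0, 0x0)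

/-- masks after -/
def stB9 : ℕ × ℕ × ℕ := (0xffefbfa80010fff080ffdf7f553350fff880ffbefd172210fffa00ff7dfd171110fffa00fefbc203c001fff030fdf7fd15d401fff030fbfc3e123001ffe800f7fffdf57311ffe902eff667f1a408ffd040dff557715414ffd440bff4c9236403fbf0207ff7f5517cd1fbf022fb0ffe0c0381ff3a80f7fffdfd7355ff3ac0ed9fe7cc82c8feb054dd5fd7cd4145feb0d4bd3fc9880042f7b0207dfff5454c7df7b010f79e7f3d0230fd6a00f75d7f351531fd6e82f72cbd033212ef6240f7df7d173331ef6b5bcacb33e000a8fcd880f5f7ff901154fcd08085a382000c4800400465d26357f1c59094c487643a00140a80040057d43757dd1d884cca0100800000000000007105455451144001c0162088044100001000cd45500442500010087c32c0c7eec30000836c7141c775414090b367b02c73ee33800c0257701557d511000c220af044d3a009180042f5f274f3f51d1804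42600eec4fa37b001a10510d54575115000a10081242448209008010f4d7c1cdd34f028290021852020880000100f1157d35575f00014b4596210102001000004555060111001040000000000000000000003fff7311ffc5002013ffffff137000fffdfaffffff4441c0fffff8ffffff393310ffff7bfffff3cc0400fffe95ffff3f743410ffffeeffcfffcc03d0ffffc2ffffccc3d203fffbbffffcfc133c20fffb3afff3c343e441fffefffff03f50701cfffde6ff3ffc0f4310fffb7ffcffc3c5c001fff7ffc3cc3f31303dbe6f3fcfe023f48c0cffdeefcc0ccbc8024feb9f25f005f42c3334ff6ffbcc0ff354034ddedfd7c3cb15540010fcffef3f70ccf3ff11f2dcbb3c03404f4751f2f7bf333cf401f313ef7b7f0cf300533111d6fcdf03f01654c7d1bbcfff000ffc135c007ffc20, 0x0, 0x0)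

theorem chain9_ok : (chainOK tab steps9 stA9.1 stA9.2.1 stA9.2.2 &&
    (learnAll steps9 stA9 == stB9) && (stA9.2.1 ||| stA9.1 == stA9.1) &&
    (stA9.2.2 ||| stA9.1 == stA9.1)) = true := by decide +kernel

theorem run9 {P : Type*} [Group P] (S : Sys tab P) {g h : Subgroup.center P} (hg : g * g = 1) (hh : h * h = 1)
    (H : S.Holds g h stA9.1 stA9.2.1 stA9.2.2) : S.Holds g h stB9.1 stB9.2.1 stB9.2.2 := by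
  have h' := chain9_ok
  simp only [Bool.and_eq_true, beq_iff_eq] at h'
  rw [← h'.1.1.2]
  exact S.chain_spec hg hh steps9 _ _ _ H h'.1.2 h'.2 h'.1.1.1

end CfsgLib.Lie.MultExc.TwESixTwo
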